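import Groth.Agent.Lib.RelCone8.Infinity

/-!
# The retraction of the pointed projective cone over a general base
-/

set_option autoImplicit false
set_option backward.isDefEq.respectTransparency false
set_option maxHeartbeats 400000

universe u

open CategoryTheory CategoryTheory.Limits AlgebraicGeometry TopologicalSpace Opposite HomogeneousLocalization
open scoped HomogeneousIdeal

noncomputable section

namespace GrothLib.RelCone8

variable {Y : Scheme.{u}} {𝒮 𝒮h : RelProj.QCGrAlg Y} {ι : 𝒮.toQCAlg ⟶ 𝒮h.toQCAlg} {z : 𝒮h.presheaf.obj (op ⊤)}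
  (hz : RelCone.IsPolyOver 𝒮 𝒮h ι z) {PC : Scheme.{u}} {pC : PC ⟶ Y}
  {chartC : ∀ (U : Y.Opens) (hU : IsAffineOpen U), (((pC ⁻¹ᵁ U : PC.Opens) : Scheme.{u}) ≅ Proj (𝒮h.deg U hU))}
  (hPC : RelProj.IsRelProj 𝒮h pC chartC)

/-- The pointed projective cone. -/
abbrev Ehat (pC : PC ⟶ Y)
    (chartC : ∀ (U : Y.Opens) (hU : IsAffineOpen U), (((pC ⁻¹ᵁ U : PC.Opens) : Scheme.{u}) ≅ Proj (𝒮h.deg U hU))) :
    PC.Opens :=
  RelCone.pointedProjCone 𝒮 hz pC chartC

include hPC in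
theorem range_domOpen_emb_subset (U : Y.AffineZariskiSite) :
    Set.range ((RelCone.domOpen (gh hz U)).ι ≫ RelProj.emb pC chartC U.1 U.2).base ⊆
      Set.range (Ehat hz pC chartC).ι.base := by
  rw [Scheme.Opens.range_ι]
  rintro _ ⟨y, rfl⟩
  exact (emb_mem_pointedProjCone_iff hz hPC U.1 U.2 _).2 y.2

/-- The chart of the pointed projective cone over an affine open. -/
def domEmb (U : Y.AffineZariskiSite) :
    (RelCone.domOpen (gh hz U) : Scheme.{u}) ⟶ (Ehat hz pC chartC : Scheme.{u}) :=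
  IsOpenImmersion.lift (Ehat hz pC chartC).ι ((RelCone.domOpen (gh hz U)).ι ≫ RelProj.emb pC chartC U.1 U.2)
    (range_domOpen_emb_subset hz hPC U)

@[reassoc]
theorem domEmb_ι (U : Y.AffineZariskiSite) : domEmb hz hPC U ≫ (Ehat hz pC chartC).ι =
    (RelCone.domOpen (gh hz U)).ι ≫ RelProj.emb pC chartC U.1 U.2 :=
  IsOpenImmersion.lift_fac _ _ _

instance isOpenImmersion_domEmb (U : Y.AffineZariskiSite) : IsOpenImmersion (domEmb hz hPC U) := by
  have : IsOpenImmersion (domEmb hz hPC U ≫ (Ehat hz pC chartC).ι) := by rw [domEmb_ι]; infer_instance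
  exact IsOpenImmersion.of_comp _ (Ehat hz pC chartC).ι

theorem opensRange_domEmb (U : Y.AffineZariskiSite) :
    (domEmb hz hPC U).opensRange = ((Ehat hz pC chartC).ι ≫ pC) ⁻¹ᵁ U.1 := by
  ext x
  constructor
  · rintro ⟨y, rfl⟩
    show (domEmb hz hPC U ≫ (Ehat hz pC chartC).ι) y ∈ pC ⁻¹ᵁ U.1
    rw [domEmb_ι, ← opensRange_emb' (chart := chartC) U.1 U.2]
    exact ⟨_, rfl⟩
  · intro hx
    have hx' : (Ehat hz pC chartC).ι x ∈ pC ⁻¹ᵁ U.1 := hx
    rw [← opensRange_emb' (chart := chartC) U.1 U.2] at hx'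
    obtain ⟨y, hy⟩ := hx'
    have hyd : y ∈ RelCone.domOpen (gh hz U) := (emb_mem_pointedProjCone_iff hz hPC U.1 U.2 y).1 (by rw [hy]; exact x.2)
    refine ⟨⟨y, hyd⟩, (Ehat hz pC chartC).ι.isOpenEmbedding.injective ?_⟩
    rw [← hy]
    show (domEmb hz hPC U ≫ (Ehat hz pC chartC).ι) ⟨y, hyd⟩ = _
    rw [domEmb_ι]
    rfl

theorem domFunc_domEmb {U W : Y.AffineZariskiSite} (h : W ≤ U) :
    domFunc (gh hz U) (φ' := gh hz W) (RelProjK.rs_irr 𝒮 h) (RelProjK.rs_irr 𝒮h h)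
        (fun a => (gradedHomAt_res hz h a).symm) ≫ domEmb hz hPC U = domEmb hz hPC W := by
  rw [← cancel_mono (Ehat hz pC chartC).ι]
  simp only [Category.assoc, domEmb_ι]
  rw [← Category.assoc, domFunc_ι, Category.assoc]
  exact congrArg (_ ≫ ·) (RelProjK.map_rs_em hPC h)

section retraction

variable {P : Scheme.{u}} {p : P ⟶ Y}
  {chart : ∀ (U : Y.Opens) (hU : IsAffineOpen U), (((p ⁻¹ᵁ U : P.Opens) : Scheme.{u}) ≅ Proj (𝒮.deg U hU))}
  (hP : RelProj.IsRelProj 𝒮 p chart)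

/-- The charts equation of the retraction. -/
def IsRetr (r : (Ehat hz pC chartC : Scheme.{u}) ⟶ P) : Prop :=
  ∀ U : Y.AffineZariskiSite, domEmb hz hPC U ≫ r = domMap (gh hz U) ≫ RelProj.emb p chart U.1 U.2

include hP in
theorem existsUnique_isRetr : ∃! r : (Ehat hz pC chartC : Scheme.{u}) ⟶ P, IsRetr hz hPC (chart := chart) r := by
  obtain ⟨r, hr, huniq⟩ := existsUnique_glue_charts ((Ehat hz pC chartC).ι ≫ pC) (T := P) (domEmb hz hPC)
    (opensRange_domEmb hz hPC) (fun U => domMap (gh hz U) ≫ RelProj.emb p chart U.1 U.2)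
    fun {U W} h => ⟨_, domFunc_domEmb hz hPC h, by
      rw [← Category.assoc, domFunc_domMap, Category.assoc]
      exact congrArg (_ ≫ ·) (RelProjK.map_rs_em hP h)⟩
  exact ⟨r, hr, huniq⟩

/-- The equation of the retraction on the standard charts, as in the statements. -/
theorem isRetr_iff (r : (Ehat hz pC chartC : Scheme.{u}) ⟶ P) :
    IsRetr hz hPC (chart := chart) r ↔
    (∀ (U : Y.Opens) (hU : IsAffineOpen U) (d : ℕ) (hd : 0 < d) (f : 𝒮.presheaf.obj (op U)) (hf : f ∈ 𝒮.deg U hU d)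
      (g : Spec (CommRingCat.of (Away (𝒮h.deg U hU) ((RelProj.gradedHomAt ι hz.graded U hU) f))) ⟶
        ((RelCone.pointedProjCone 𝒮 hz pC chartC : PC.Opens) : Scheme.{u})),
      g ≫ (RelCone.pointedProjCone 𝒮 hz pC chartC).ι =
          Proj.awayι (𝒮h.deg U hU) ((RelProj.gradedHomAt ι hz.graded U hU) f)
              ((RelProj.gradedHomAt ι hz.graded U hU).2 hf) hd ≫ RelProj.emb pC chartC U hU →
        g ≫ r = Spec.map (CommRingCat.ofHom (Away.map (RelProj.gradedHomAt ι hz.graded U hU) f)) ≫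
          Proj.awayι (𝒮.deg U hU) f hf hd ≫ RelProj.emb p chart U hU) := by
  constructor
  · intro h U hU d hd f hf g hg
    have : g = domChart (gh hz ⟨U, hU⟩) hf hd ≫ domEmb hz hPC ⟨U, hU⟩ := by
      rw [← cancel_mono (Ehat hz pC chartC).ι, Category.assoc, domEmb_ι, domChart_ι_assoc]
      exact hg
    rw [this, Category.assoc, h ⟨U, hU⟩, domChart_domMap_assoc]
  · intro h U
    refine hom_ext_domChart _ fun d f hd hf => ?_
    rw [domChart_domMap_assoc, ← Category.assoc]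
    exact h U.1 U.2 d hd f hf _ (by rw [Category.assoc, domEmb_ι, domChart_ι_assoc])

variable {r : (Ehat hz pC chartC : Scheme.{u}) ⟶ P} (hr : IsRetr hz hPC (chart := chart) r)

include hr hP in
theorem retr_comp : r ≫ p = (Ehat hz pC chartC).ι ≫ pC := by
  refine hom_ext_of_charts ((Ehat hz pC chartC).ι ≫ pC) (domEmb hz hPC) (opensRange_domEmb hz hPC) fun U => ?_
  rw [← Category.assoc, hr U, Category.assoc, emb_comp hP, domEmb_ι_assoc, emb_comp hPC]
  refine hom_ext_domChart _ fun d f hd hf => ?_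
  rw [domChart_domMap_assoc, domChart_ι_assoc, Proj.awayι_toSpecZero_assoc, Proj.awayι_toSpecZero_assoc,
    ← Spec.map_comp_assoc, ← Spec.map_comp_assoc, ← Spec.map_comp_assoc]
  congr 2
  refine CommRingCat.hom_ext (RingHom.ext fun x => ?_)
  have h : (𝒮h.str.app (op U.1)).hom x = (ι.hom.app (op U.1)).hom ((𝒮.str.app (op U.1)).hom x) :=
    (ConcreteCategory.congr_hom (congrArg (fun t => t.app (op U.1)) ι.comm) x).symm
  show Away.map (gh hz U) f (fromZeroRingHom (𝒮.deg U.1 U.2) _ ((𝒮.strZero U.1 U.2).hom x)) =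
    fromZeroRingHom (𝒮h.deg U.1 U.2) _ ((𝒮h.strZero U.1 U.2).hom x)
  have e0 : fromZeroRingHom (𝒮.deg U.1 U.2) (Submonoid.powers f) ((𝒮.strZero U.1 U.2).hom x) =
      Away.mk (𝒮.deg U.1 U.2) hf 0 ((𝒮.str.app (op U.1)).hom x) (by simpa using 𝒮.str_mem U.1 U.2 x) := by
    ext
    simp [fromZeroRingHom, HomogeneousLocalization.val_mk, Away.val_mk]
    rfl
  rw [e0, Away.map_mk (gh hz U) f hf]
  ext
  simp [fromZeroRingHom, HomogeneousLocalization.val_mk, Away.val_mk]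
  exact congrArg (fun t => Localization.mk t _) h.symm

include hr hP in
theorem isPullback_retr (U : Y.AffineZariskiSite) :
    IsPullback (domEmb hz hPC U) (domMap (gh hz U)) r (RelProj.emb p chart U.1 U.2) := by
  refine (IsOpenImmersion.isPullback _ _ _ _ (hr U) ?_).flip
  rw [opensRange_domEmb, opensRange_emb', ← retr_comp hz hPC hP hr]
  rfl

/-- The index of the standard charts. -/
abbrev ChartIdx (𝒮 : RelProj.QCGrAlg Y) : Type u :=
  Σ U : Y.AffineZariskiSite, (Σ n : ℕ+, 𝒮.deg U.1 U.2 n)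

/-- A standard chart of `Proj`. -/
abbrev chartAt (chart : ∀ (U : Y.Opens) (hU : IsAffineOpen U),
      (((p ⁻¹ᵁ U : P.Opens) : Scheme.{u}) ≅ Proj (𝒮.deg U hU))) (j : ChartIdx 𝒮) :
    Spec (CommRingCat.of (Away (𝒮.deg j.1.1 j.1.2) (j.2.2 : 𝒮.presheaf.obj (op j.1.1)))) ⟶ P :=
  Proj.awayι _ _ j.2.2.2 j.2.1.pos ≫ RelProj.emb p chart j.1.1 j.1.2

theorem exists_chartAt (x : P) : ∃ j : ChartIdx 𝒮, x ∈ Set.range (chartAt chart j).base := by
  obtain ⟨U, y, rfl⟩ := exists_emb (chart := chart) x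
  obtain ⟨j, w, rfl⟩ := (Proj.affineOpenCover (𝒮.deg U.1 U.2)).openCover.exists_eq y
  exact ⟨⟨U, j⟩, w, rfl⟩

include hr hP in
theorem isPullback_chartAt (j : ChartIdx 𝒮) :
    IsPullback (domChart (gh hz j.1) j.2.2.2 j.2.1.pos ≫ domEmb hz hPC j.1)
      (Spec.map (CommRingCat.ofHom (Away.map (gh hz j.1) (j.2.2 : 𝒮.presheaf.obj (op j.1.1)))))
      r (chartAt chart j) :=
  ((isPullback_domChart (gh hz j.1) _ j.2.1.pos j.2.2.2).flip.paste_vert
    (isPullback_retr hz hPC hP hr j.1).flip).flip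

include hr hP in
theorem isAffineHom_retr : IsAffineHom r :=
  property_of_isPullback @IsAffineHom (chartAt chart) (exists_chartAt (chart := chart)) _ _
    (isPullback_chartAt hz hPC hP hr) fun _ => inferInstance

include hr hP in
theorem surjective_retr : Function.Surjective r.base := by
  intro x
  obtain ⟨j, w, rfl⟩ := exists_chartAt (chart := chart) x
  obtain ⟨v, rfl⟩ := surjective_specMap_away (gh hz j.1) (zAt_mem hz j.1) (bij_poly hz j.1)
    (j.2.2 : 𝒮.presheaf.obj (op j.1.1)) j.2.1.pos j.2.2.2 w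
  exact ⟨(domChart (gh hz j.1) j.2.2.2 j.2.1.pos ≫ domEmb hz hPC j.1) v,
    ConcreteCategory.congr_hom (congrArg (fun t => t.base) (isPullback_chartAt hz hPC hP hr j).w) v⟩

include hr hP in
theorem infinity_comp_retr {θ : 𝒮h.toQCAlg ⟶ 𝒮.toQCAlg} {hθ : RelProj.IsGradedHom θ} (hιθ : ι ≫ θ = 𝟙 _)
    {hirr : ∀ (U : Y.Opens) (hU : IsAffineOpen U),
      (𝒮.deg U hU)₊ ≤ ((𝒮h.deg U hU)₊).map (RelProj.gradedHomAt θ hθ U hU)}
    {j : P ⟶ PC} (hj : RelProj.IsRelProjMap θ hθ hirr chartC chart j)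
    (j' : P ⟶ (Ehat hz pC chartC : Scheme.{u})) (hj' : j' ≫ (Ehat hz pC chartC).ι = j) : j' ≫ r = 𝟙 P := by
  have hψφ : ∀ (U : Y.AffineZariskiSite) (a : 𝒮.presheaf.obj (op U.1)),
      RelProj.gradedHomAt θ hθ U.1 U.2 (gh hz U a) = a := fun U a =>
    ConcreteCategory.congr_hom (congrArg (fun t => t.hom.app (op U.1)) hιθ) a
  let 𝒰 : P.OpenCover := Scheme.Cover.mkOfCovers (ChartIdx 𝒮) _ (chartAt chart)
    (fun x => let ⟨i, w, hw⟩ := exists_chartAt (chart := chart) x; ⟨i, w, hw⟩) inferInstance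
  suffices key : ∀ (U : Y.AffineZariskiSite) (d : ℕ) (f : 𝒮.presheaf.obj (op U.1)) (hd : 0 < d)
      (hf : f ∈ 𝒮.deg U.1 U.2 d),
      Proj.awayι (𝒮.deg U.1 U.2) f hf hd ≫ RelProj.emb p chart U.1 U.2 ≫ j' ≫ r =
        Proj.awayι (𝒮.deg U.1 U.2) f hf hd ≫ RelProj.emb p chart U.1 U.2 from
    𝒰.hom_ext _ _ fun (k : ChartIdx 𝒮) =>
      (Category.assoc _ _ _).trans ((key k.1 _ _ k.2.1.pos k.2.2.2).trans (Category.comp_id _).symm)
  intro U d f hd hf
  obtain ⟨θ', hθ', hmap⟩ := awayι_map_retraction (gh hz U) (RelProj.gradedHomAt θ hθ U.1 U.2) (hψφ U)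
    (hirr U.1 U.2) f hd hf
  have h1 : Proj.awayι (𝒮.deg U.1 U.2) f hf hd ≫ RelProj.emb p chart U.1 U.2 ≫ j' =
      Spec.map (CommRingCat.ofHom θ') ≫ domChart (gh hz U) hf hd ≫ domEmb hz hPC U := by
    rw [← cancel_mono (Ehat hz pC chartC).ι]
    simp only [Category.assoc, domEmb_ι, domChart_ι_assoc, hj']
    rw [RelProj.emb, Category.assoc, hj U.1 U.2, Iso.inv_hom_id_assoc, reassoc_of% hmap]
    rfl
  rw [reassoc_of% h1, hr U, domChart_domMap_assoc, ← Spec.map_comp_assoc,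
    ← CommRingCat.ofHom_comp, hθ', CommRingCat.ofHom_id, Spec.map_id, Category.id_comp]

end retraction

end GrothLib.RelCone8
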