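import Groth.Agent.Lib.RelCone8.Base

/-!
# The vertex of the affine cone
-/

set_option autoImplicit false
set_option backward.isDefEq.respectTransparency false
set_option maxHeartbeats 400000

universe u

open CategoryTheory CategoryTheory.Limits AlgebraicGeometry TopologicalSpace Opposite
open scoped HomogeneousIdeal

noncomputable section

namespace GrothLib.RelCone8

variable {Y : Scheme.{u}} (𝒮 : RelProj.QCGrAlg Y) (aug : 𝒮.toQCAlg ⟶ RelSpec.QCAlg.unit Y)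

/-- The vertex over an affine open. -/
abbrev vertexAt (U : Y.Opens) (hU : IsAffineOpen U) : (U : Scheme.{u}) ⟶ 𝒮.toQCAlg.spec :=
  hU.isoSpec.hom ≫ Spec.map (aug.hom.app (op U)) ≫ 𝒮.toQCAlg.ι U hU

theorem homOfLE_vertexAt {U W : Y.AffineZariskiSite} (h : W ≤ U) :
    Y.homOfLE (Scheme.AffineZariskiSite.toOpens_mono h) ≫ vertexAt 𝒮 aug U.1 U.2 = vertexAt 𝒮 aug W.1 W.2 := by
  have e : Y.homOfLE (Scheme.AffineZariskiSite.toOpens_mono h) ≫ U.2.isoSpec.hom =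
      W.2.isoSpec.hom ≫ Spec.map (Y.presheaf.map (homOfLE (Scheme.AffineZariskiSite.toOpens_mono h)).op) := by
    rw [← cancel_mono U.2.fromSpec]
    simp only [Category.assoc]
    rw [U.2.map_fromSpec W.2]
    simp [← IsAffineOpen.isoSpec_inv_ι]
  rw [vertexAt, reassoc_of% e, ← Spec.map_comp_assoc]
  rw [show aug.hom.app (op U.1) ≫ Y.presheaf.map (homOfLE (Scheme.AffineZariskiSite.toOpens_mono h)).op =
      rz 𝒮.toQCAlg h ≫ aug.hom.app (op W.1) from (aug.hom.naturality _).symm]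
  rw [Spec.map_comp_assoc, map_rz_ι]

theorem existsUnique_chart : ∃! ε : Y ⟶ 𝒮.toQCAlg.spec, ∀ (U : Y.Opens) (hU : IsAffineOpen U),
    hU.fromSpec ≫ ε = Spec.map (aug.hom.app (op U)) ≫ 𝒮.toQCAlg.ι U hU := by
  obtain ⟨ε, hε, huniq⟩ := RelProjK.existsUnique_glue_affine (𝟙 Y) (T := 𝒮.toQCAlg.spec)
    (fun U hU => vertexAt 𝒮 aug U hU) (fun U hU r =>
      homOfLE_vertexAt 𝒮 aug (U := ⟨U, hU⟩) (W := ⟨_, hU.basicOpen r⟩) ⟨r, rfl⟩)
  refine ⟨ε, fun U hU => ?_, fun ε' h => huniq ε' fun U hU => ?_⟩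
  · rw [← hU.isoSpec_inv_ι, Category.assoc]
    refine (congrArg (hU.isoSpec.inv ≫ ·) (hε U hU)).trans ?_
    exact hU.isoSpec.inv_hom_id_assoc _
  · show U.ι ≫ ε' = _
    rw [vertexAt, ← h U hU, ← hU.isoSpec_inv_ι, Category.assoc, hU.isoSpec.hom_inv_id_assoc]

variable {𝒮 aug}

theorem chart_comp_π {ε : Y ⟶ 𝒮.toQCAlg.spec}
    (h : ∀ (U : Y.Opens) (hU : IsAffineOpen U),
      hU.fromSpec ≫ ε = Spec.map (aug.hom.app (op U)) ≫ 𝒮.toQCAlg.ι U hU) : ε ≫ 𝒮.toQCAlg.π = 𝟙 Y := by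
  refine RelProjK.hom_ext_affine (𝟙 Y) fun U hU => ?_
  show U.ι ≫ ε ≫ 𝒮.toQCAlg.π = U.ι ≫ 𝟙 Y
  rw [← cancel_epi hU.isoSpec.inv]
  simp only [Category.comp_id, ← Category.assoc, hU.isoSpec_inv_ι]
  rw [h U hU, Category.assoc, 𝒮.toQCAlg.ι_π U hU, ← Spec.map_comp_assoc,
    show 𝒮.str.app (op U) ≫ aug.hom.app (op U) = 𝟙 _ from congrArg (fun t => t.app (op U)) aug.comm]
  simp
  rfl

theorem existsUnique_isVertex : ∃! ε : Y ⟶ 𝒮.toQCAlg.spec, RelCone.IsVertex 𝒮 aug ε := by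
  obtain ⟨ε, hε, huniq⟩ := existsUnique_chart 𝒮 aug
  exact ⟨ε, ⟨chart_comp_π hε, hε⟩, fun ε' h => huniq ε' h.chart⟩

theorem isClosedImmersion_vertex {ε : Y ⟶ 𝒮.toQCAlg.spec} (hε : RelCone.IsVertex 𝒮 aug ε) :
    IsClosedImmersion ε := by
  haveI : IsAffineHom 𝒮.toQCAlg.π := inferInstance
  haveI : IsClosedImmersion (ε ≫ 𝒮.toQCAlg.π) := by rw [hε.comp_π]; infer_instance
  exact IsClosedImmersion.of_comp ε 𝒮.toQCAlg.π

theorem aug_eq_zero_iff (h0 : RelCone.StrZeroBij 𝒮) (haug : RelCone.IsAugmentation 𝒮 aug)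
    (U : Y.Opens) (hU : IsAffineOpen U) (x : 𝒮.presheaf.obj (op U)) :
    (aug.hom.app (op U)).hom x = 0 ↔ x ∈ ((𝒮.deg U hU)₊).toIdeal := by
  classical
  have hpos : ∀ y ∈ ((𝒮.deg U hU)₊).toIdeal, (aug.hom.app (op U)).hom y = 0 := by
    intro y hy
    have : ((𝒮.deg U hU)₊).toIdeal ≤ RingHom.ker (aug.hom.app (op U)).hom := by
      rw [HomogeneousIdeal.toIdeal_irrelevant_le]
      intro i hi a ha
      obtain ⟨d, rfl⟩ := Nat.exists_eq_succ_of_ne_zero hi.ne'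
      exact haug U hU d a ha
    exact this hy
  refine ⟨fun hx => ?_, hpos x⟩
  obtain ⟨r, hr⟩ := (h0 U hU).2 ⟨DirectSum.decompose (𝒮.deg U hU) x 0, SetLike.coe_mem _⟩
  have hr' : (𝒮.str.app (op U)).hom r = (DirectSum.decompose (𝒮.deg U hU) x 0 : 𝒮.presheaf.obj (op U)) :=
    congrArg Subtype.val hr
  have h1 : x - (𝒮.str.app (op U)).hom r ∈ ((𝒮.deg U hU)₊).toIdeal := by
    rw [hr']
    refine (HomogeneousIdeal.mem_irrelevant_iff _ _).2 ?_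
    show (DirectSum.decompose (𝒮.deg U hU) (x - _) 0 : 𝒮.presheaf.obj (op U)) = 0
    rw [DirectSum.decompose_sub, DirectSum.sub_apply, AddSubgroupClass.coe_sub,
      DirectSum.decompose_of_mem_same _ (SetLike.coe_mem _), sub_self]
  have h2 : (aug.hom.app (op U)).hom ((𝒮.str.app (op U)).hom r) = r :=
    ConcreteCategory.congr_hom (congrArg (fun t => t.app (op U)) aug.comm) r
  have h3 := hpos _ h1
  rw [map_sub, h2, hx, zero_sub, neg_eq_zero] at h3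
  rw [h3, map_zero, sub_zero] at h1
  exact h1

/-- A point of a chart is on the vertex iff its ideal contains the irrelevant ideal. -/
theorem ι_mem_range_vertex_iff (h0 : RelCone.StrZeroBij 𝒮) (haug : RelCone.IsAugmentation 𝒮 aug)
    {ε : Y ⟶ 𝒮.toQCAlg.spec} (hε : RelCone.IsVertex 𝒮 aug ε)
    (U : Y.Opens) (hU : IsAffineOpen U) (y : Spec (𝒮.presheaf.obj (op U))) :
    𝒮.toQCAlg.ι U hU y ∈ Set.range ε ↔ ((𝒮.deg U hU)₊).toIdeal ≤ y.asIdeal := by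
  have hsurj : Function.Surjective (aug.hom.app (op U)).hom := fun r =>
    ⟨(𝒮.str.app (op U)).hom r, ConcreteCategory.congr_hom (congrArg (fun t => t.app (op U)) aug.comm) r⟩
  have hker : RingHom.ker (aug.hom.app (op U)).hom = ((𝒮.deg U hU)₊).toIdeal :=
    Ideal.ext fun x => RingHom.mem_ker.trans (aug_eq_zero_iff h0 haug U hU x)
  have hrange : y ∈ Set.range (Spec.map (aug.hom.app (op U))) ↔ ((𝒮.deg U hU)₊).toIdeal ≤ y.asIdeal := by
    rw [← hker]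
    exact Set.ext_iff.1 (range_comap_of_surjective _ _ hsurj) y
  rw [← hrange]
  constructor
  · rintro ⟨s, hs⟩
    have hsU : s ∈ U := by
      have h := RelCone8.π_ι_mem 𝒮.toQCAlg U hU y
      rw [← hs] at h
      have e : 𝒮.toQCAlg.π (ε s) = s := by
        show (ε ≫ 𝒮.toQCAlg.π) s = s
        rw [hε.comp_π]; rfl
      rwa [e] at h
    obtain ⟨s', rfl⟩ : s ∈ Set.range hU.fromSpec := by rw [hU.range_fromSpec]; exact hsU
    refine ⟨s', (𝒮.toQCAlg.ι U hU).isOpenEmbedding.injective ?_⟩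
    rw [← hs]
    show (Spec.map (aug.hom.app (op U)) ≫ 𝒮.toQCAlg.ι U hU) s' = (hU.fromSpec ≫ ε) s'
    rw [hε.chart U hU]; rfl
  · rintro ⟨s', rfl⟩
    refine ⟨hU.fromSpec s', ?_⟩
    show (hU.fromSpec ≫ ε) s' = (Spec.map (aug.hom.app (op U)) ≫ 𝒮.toQCAlg.ι U hU) s'
    rw [hε.chart U hU]; rfl

theorem pointedCone_eq (h0 : RelCone.StrZeroBij 𝒮) (haug : RelCone.IsAugmentation 𝒮 aug)
    {ε : Y ⟶ 𝒮.toQCAlg.spec} (hε : RelCone.IsVertex 𝒮 aug ε) :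
    ((RelCone.pointedCone 𝒮 : 𝒮.toQCAlg.spec.Opens) : Set 𝒮.toQCAlg.spec) = (Set.range ε.base)ᶜ := by
  ext x
  obtain ⟨U, y, rfl⟩ := exists_affine_chart 𝒮.toQCAlg x
  exact (ι_mem_pointedCone_iff 𝒮 U.1 U.2 y).trans (not_congr (ι_mem_range_vertex_iff h0 haug hε U.1 U.2 y).symm)

end GrothLib.RelCone8
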