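import Groth.Agent.Lib.RelCone8.Base
import Mathlib.AlgebraicGeometry.Morphisms.SchemeTheoreticallyDominant

/-!
# Gluing along charts over the affine opens
-/

set_option autoImplicit false
set_option backward.isDefEq.respectTransparency false
set_option maxHeartbeats 400000

universe u

open CategoryTheory CategoryTheory.Limits AlgebraicGeometry TopologicalSpace Opposite

noncomputable section

namespace GrothLib.RelCone8

variable {Y X T : Scheme.{u}} (p : X ⟶ Y) {Z : ∀ U : Y.AffineZariskiSite, Scheme.{u}}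
  (c : ∀ U, Z U ⟶ X) [∀ U, IsOpenImmersion (c U)] (hc : ∀ U, (c U).opensRange = p ⁻¹ᵁ U.1)

include hc in
theorem hom_ext_of_charts {g g' : X ⟶ T} (h : ∀ U, c U ≫ g = c U ≫ g') : g = g' := by
  refine RelProjK.hom_ext_affine p fun U hU => ?_
  let U' : Y.AffineZariskiSite := ⟨U, hU⟩
  let e : ((p ⁻¹ᵁ U : X.Opens) : Scheme.{u}) ≅ Z U' :=
    IsOpenImmersion.isoOfRangeEq (p ⁻¹ᵁ U).ι (c U')
      (by rw [Scheme.Opens.range_ι]; exact (congrArg SetLike.coe (hc U')).symm)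
  have he : e.hom ≫ c U' = (p ⁻¹ᵁ U).ι := IsOpenImmersion.isoOfRangeEq_hom_fac _ _ _
  rw [← he, Category.assoc, Category.assoc, h]

include hc in
theorem existsUnique_glue_charts (g : ∀ U, Z U ⟶ T)
    (hg : ∀ {U W : Y.AffineZariskiSite}, W ≤ U → ∃ t : Z W ⟶ Z U, t ≫ c U = c W ∧ t ≫ g U = g W) :
    ∃! h : X ⟶ T, ∀ U, c U ≫ h = g U := by
  let e : ∀ (U : Y.Opens) (hU : IsAffineOpen U), ((p ⁻¹ᵁ U : X.Opens) : Scheme.{u}) ≅ Z ⟨U, hU⟩ :=
    fun U hU => IsOpenImmersion.isoOfRangeEq (p ⁻¹ᵁ U).ι (c ⟨U, hU⟩)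
      (by rw [Scheme.Opens.range_ι]; exact (congrArg SetLike.coe (hc ⟨U, hU⟩)).symm)
  have he : ∀ U hU, (e U hU).hom ≫ c ⟨U, hU⟩ = (p ⁻¹ᵁ U).ι := fun U hU =>
    IsOpenImmersion.isoOfRangeEq_hom_fac _ _ _
  obtain ⟨h, hh, -⟩ := RelProjK.existsUnique_glue_affine p (fun U hU => (e U hU).hom ≫ g ⟨U, hU⟩) fun U hU r => by
    obtain ⟨t, ht, ht'⟩ := @hg ⟨U, hU⟩ ⟨Y.basicOpen r, hU.basicOpen r⟩ ⟨r, rfl⟩
    have : X.homOfLE (p.preimage_mono (Y.basicOpen_le r)) ≫ (e U hU).hom = (e _ (hU.basicOpen r)).hom ≫ t := by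
      rw [← cancel_mono (c ⟨U, hU⟩), Category.assoc, Category.assoc, he, ht, he, Scheme.homOfLE_ι]
    rw [reassoc_of% this, ht']
  have key : ∀ U : Y.AffineZariskiSite, c U ≫ h = g U := by
    rintro ⟨U, hU⟩
    rw [← cancel_epi (e U hU).hom, ← Category.assoc, he]
    exact hh U hU
  exact ⟨h, key, fun h' hh' => hom_ext_of_charts p c hc fun U => (hh' U).trans (key U).symm⟩

section charts

variable {P Q : Scheme.{u}} {h : P ⟶ Q}

/-- A property local on the target follows from cartesian charts. -/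
theorem property_of_isPullback (Pr : MorphismProperty Scheme.{u}) [IsZariskiLocalAtTarget Pr] {ι : Type u}
    {A B : ι → Scheme.{u}} (a : ∀ i, B i ⟶ Q) [∀ i, IsOpenImmersion (a i)]
    (ha : ∀ x, ∃ i, x ∈ Set.range (a i).base) (f : ∀ i, A i ⟶ B i) (b : ∀ i, A i ⟶ P)
    (H : ∀ i, IsPullback (b i) (f i) h (a i)) (hf : ∀ i, Pr (f i)) : Pr h := by
  let 𝒰 : Q.OpenCover := Scheme.Cover.mkOfCovers ι B a
    (fun x => let ⟨i, y, hy⟩ := ha x; ⟨i, y, hy⟩) inferInstance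
  refine IsZariskiLocalAtTarget.of_openCover (P := Pr) 𝒰 fun i => ?_
  change Pr (pullback.snd h (a i))
  rw [← (H i).isoPullback_inv_snd]
  exact (Pr.cancel_left_of_respectsIso _ _).2 (hf i)

theorem ker_eq_bot_of_isPullback [QuasiCompact h] {ι : Type u} {A B : ι → Scheme.{u}} [∀ i, IsAffine (B i)]
    (a : ∀ i, B i ⟶ Q) [∀ i, IsOpenImmersion (a i)] (ha : ∀ x, ∃ i, x ∈ Set.range (a i).base)
    (f : ∀ i, A i ⟶ B i) (b : ∀ i, A i ⟶ P) (H : ∀ i, IsPullback (b i) (f i) h (a i))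
    (hf : ∀ i, (f i).ker = ⊥) : h.ker = ⊥ := by
  let U : ι → Q.affineOpens := fun i => ⟨a i ''ᵁ ⊤, (isAffineOpen_top (B i)).image_of_isOpenImmersion _⟩
  refine Scheme.IdealSheafData.ext_of_iSup_eq_top U (eq_top_iff.2 fun x _ => ?_) fun i => ?_
  · obtain ⟨i, y, hy⟩ := ha x
    exact Opens.mem_iSup.2 ⟨i, y, trivial, hy⟩
  · have key := Scheme.ker_ideal_of_isPullback_of_isOpenImmersion h (f i) (b i) (a i) (H i).flip
      ⟨⊤, isAffineOpen_top (B i)⟩
    rw [hf i, Scheme.IdealSheafData.ideal_bot, Pi.bot_apply] at key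
    rw [Scheme.IdealSheafData.ideal_bot, Pi.bot_apply, eq_bot_iff]
    intro x hx
    have hmem : ((a i).appIso ⊤).hom.hom x ∈ Ideal.comap ((a i).appIso ⊤).inv.hom (h.ker.ideal (U i)) := by
      rw [Ideal.mem_comap]
      show ((a i).appIso ⊤).inv (((a i).appIso ⊤).hom x) ∈ _
      rw [← ConcreteCategory.comp_apply, Iso.hom_inv_id]
      exact hx
    rw [← key, Ideal.mem_bot] at hmem
    have h2 := congrArg ((a i).appIso ⊤).inv hmem
    rw [← ConcreteCategory.comp_apply, Iso.hom_inv_id, map_zero] at h2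
    exact Ideal.mem_bot.2 h2

end charts

end GrothLib.RelCone8
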