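import Groth.Agent.Lib.RelCone8.Poly
import Groth.Agent.Lib.RelCone8.Glue
import Groth.Agent.Lib.RelCone8.Vertex
import Groth.Agent.Lib.AbsApprox.Chart

/-!
# The affine cone inside the projective cone
-/

set_option autoImplicit false
set_option backward.isDefEq.respectTransparency false
set_option maxHeartbeats 400000

universe u

open CategoryTheory CategoryTheory.Limits AlgebraicGeometry TopologicalSpace Opposite HomogeneousLocalization
open scoped HomogeneousIdeal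

noncomputable section

namespace GrothLib.RelCone8

section charts

variable {Y P : Scheme.{u}} {𝒮 : RelProj.QCGrAlg Y} {p : P ⟶ Y}
  {chart : ∀ (U : Y.Opens) (hU : IsAffineOpen U), (((p ⁻¹ᵁ U : P.Opens) : Scheme.{u}) ≅ Proj (𝒮.deg U hU))}

theorem emb_comp (hP : RelProj.IsRelProj 𝒮 p chart) (U : Y.Opens) (hU : IsAffineOpen U) :
    RelProj.emb p chart U hU ≫ p = Proj.toSpecZero (𝒮.deg U hU) ≫ Spec.map (𝒮.strZero U hU) ≫ hU.fromSpec := by
  rw [RelProj.emb, Category.assoc, ← hP.chart_over U hU, Iso.inv_hom_id_assoc]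

theorem opensRange_emb' (U : Y.Opens) (hU : IsAffineOpen U) :
    (RelProj.emb p chart U hU).opensRange = p ⁻¹ᵁ U := by
  show ((chart U hU).inv ≫ (p ⁻¹ᵁ U).ι).opensRange = _
  rw [Scheme.Hom.opensRange_comp_of_isIso, Scheme.Opens.opensRange_ι]

theorem exists_emb (x : P) : ∃ (U : Y.AffineZariskiSite) (y : _), RelProj.emb p chart U.1 U.2 y = x := by
  obtain ⟨U, hU, hx, -⟩ := exists_isAffineOpen_mem_and_subset (x := p x) (U := ⊤) trivial
  have h : x ∈ (RelProj.emb p chart U hU).opensRange := by rw [opensRange_emb']; exact hx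
  obtain ⟨y, hy⟩ := h
  exact ⟨⟨U, hU⟩, y, hy⟩

end charts

variable {Y : Scheme.{u}} {𝒮 𝒮h : RelProj.QCGrAlg Y} {ι : 𝒮.toQCAlg ⟶ 𝒮h.toQCAlg} {z : 𝒮h.presheaf.obj (op ⊤)}
  (hz : RelCone.IsPolyOver 𝒮 𝒮h ι z)

/-- `ι` over an affine open. -/
abbrev gh (U : Y.AffineZariskiSite) : 𝒮.deg U.1 U.2 →+*ᵍ 𝒮h.deg U.1 U.2 :=
  RelProj.gradedHomAt ι hz.graded U.1 U.2

/-- `z` over an affine open. -/
abbrev zAt (z : 𝒮h.presheaf.obj (op ⊤)) (U : Y.AffineZariskiSite) : 𝒮h.presheaf.obj (op U.1) :=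
  RelCone.restrictTop 𝒮h z U.1

include hz in
theorem zAt_mem (U : Y.AffineZariskiSite) : zAt z U ∈ 𝒮h.deg U.1 U.2 1 := hz.deg_z U.1 U.2

theorem bij_poly (U : Y.AffineZariskiSite) :
    Function.Bijective (Polynomial.eval₂RingHom (gh hz U).toRingHom (zAt z U)) := hz.bij U.1 U.2

theorem isUnit_evalOne_z (U : Y.AffineZariskiSite) : IsUnit (hz.evalOne U.1 U.2 (zAt z U)) := by
  rw [hz.evalOne_z]; exact isUnit_one

theorem awayZToBase_eq (U : Y.AffineZariskiSite) :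
    hz.awayZToBase U.1 U.2 =
      ProjPt.evalAway (𝒮h.deg U.1 U.2) (hz.evalOne U.1 U.2) (zAt z U) (isUnit_evalOne_z hz U) := rfl

theorem bijective_awayZToBase (U : Y.AffineZariskiSite) : Function.Bijective (hz.awayZToBase U.1 U.2) := by
  rw [awayZToBase_eq]
  exact bijective_evalAway (gh hz U) (zAt_mem hz U) (bij_poly hz U) _ (hz.evalOne_ι U.1 U.2)
    (hz.evalOne_z U.1 U.2) _

theorem awayZToBase_mk (U : Y.AffineZariskiSite) (n : ℕ) (a : 𝒮.presheaf.obj (op U.1))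
    (h : gh hz U a ∈ 𝒮h.deg U.1 U.2 (n • 1)) :
    hz.awayZToBase U.1 U.2 (Away.mk (𝒮h.deg U.1 U.2) (zAt_mem hz U) n (gh hz U a) h) = a :=
  (hz.awayZToBase_of_val U.1 U.2 _ (gh hz U a) n (Away.val_mk ..)).trans (hz.evalOne_ι U.1 U.2 a)

theorem rs_zAt {U W : Y.AffineZariskiSite} (h : W ≤ U) : RelProjK.rs 𝒮h h (zAt z U) = zAt z W := by
  show (𝒮h.presheaf.map _).hom ((𝒮h.presheaf.map _).hom z) = (𝒮h.presheaf.map _).hom z
  rw [← CommRingCat.comp_apply, ← 𝒮h.presheaf.map_comp]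
  rfl

variable {PC : Scheme.{u}} (pC : PC ⟶ Y)
  (chartC : ∀ (U : Y.Opens) (hU : IsAffineOpen U), (((pC ⁻¹ᵁ U : PC.Opens) : Scheme.{u}) ≅ Proj (𝒮h.deg U hU)))

/-- The affine cone over an affine open, in the projective cone. -/
abbrev immAt (U : Y.AffineZariskiSite) : Spec (𝒮.presheaf.obj (op U.1)) ⟶ Proj (𝒮h.deg U.1 U.2) :=
  Spec.map (CommRingCat.ofHom (hz.awayZToBase U.1 U.2)) ≫
    Proj.awayι (𝒮h.deg U.1 U.2) (zAt z U) (zAt_mem hz U) one_pos

theorem immAt_res {U W : Y.AffineZariskiSite} (h : W ≤ U) :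
    Spec.map (rz 𝒮.toQCAlg h) ≫ immAt hz U =
      immAt hz W ≫ Proj.map (RelProjK.rs 𝒮h h) (RelProjK.rs_irr 𝒮h h) := by
  rw [immAt, immAt, Category.assoc, ← awayι_of_eq (rs_zAt h).symm (gmem (RelProjK.rs 𝒮h h) (zAt_mem hz U)) one_pos,
    Category.assoc, Proj.awayι_comp_map (RelProjK.rs 𝒮h h) (RelProjK.rs_irr 𝒮h h) one_pos (zAt z U) (zAt_mem hz U),
    ← Spec.map_comp_assoc, ← Spec.map_comp_assoc, ← Spec.map_comp_assoc]
  congr 2
  refine CommRingCat.hom_ext (away_ringHom_ext (gh hz U) (zAt_mem hz U) (bij_poly hz U) fun n a ha => ?_)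
  simp only [CommRingCat.hom_comp, CommRingCat.hom_ofHom, RingHom.comp_apply]
  rw [awayZToBase_mk hz U n a, Away.map_mk (RelProjK.rs 𝒮h h) (zAt z U) (zAt_mem hz U), awayMap_mk]
  refine Eq.symm ((hz.awayZToBase_of_val W.1 W.2 _ (gh hz W (RelProjK.rs 𝒮 h a)) n ?_).trans (hz.evalOne_ι W.1 W.2 _))
  simp only [Away.val_mk, one_pow, mul_one]
  rw [← gradedHomAt_res hz h a]

variable {pC chartC} (hPC : RelProj.IsRelProj 𝒮h pC chartC)

include hPC in
theorem existsUnique_isConeImm :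
    ∃! i : 𝒮.toQCAlg.spec ⟶ PC, RelCone.IsConeImm 𝒮 hz pC chartC i := by
  obtain ⟨i, hi, huniq⟩ := existsUnique_glue_charts 𝒮.toQCAlg.π (T := PC) (fun U => 𝒮.toQCAlg.ι U.1 U.2)
    (fun U => (𝒮.toQCAlg.π_preimage U.1 U.2).symm)
    (fun U => immAt hz U ≫ RelProj.emb pC chartC U.1 U.2) fun {U W} h => ⟨Spec.map (rz 𝒮.toQCAlg h),
      map_rz_ι 𝒮.toQCAlg h, by rw [← Category.assoc, immAt_res hz h, Category.assoc, RelProjK.map_rs_em hPC h]⟩
  refine ⟨i, fun U hU => ?_, fun i' h' => huniq i' fun U => ?_⟩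
  · exact (hi ⟨U, hU⟩).trans (Category.assoc _ _ _)
  · exact (h' U.1 U.2).trans (Category.assoc _ _ _).symm

variable {i : 𝒮.toQCAlg.spec ⟶ PC} (hi : RelCone.IsConeImm 𝒮 hz pC chartC i)

include hi in
theorem ι_imm (U : Y.AffineZariskiSite) :
    𝒮.toQCAlg.ι U.1 U.2 ≫ i = immAt hz U ≫ RelProj.emb pC chartC U.1 U.2 :=
  (hi U.1 U.2).trans (Category.assoc _ _ _).symm

include hPC hi in
theorem imm_comp : i ≫ pC = 𝒮.toQCAlg.π := by
  refine hom_ext_charts 𝒮.toQCAlg fun U hU => ?_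
  rw [← Category.assoc, ι_imm hz hi ⟨U, hU⟩, Category.assoc, emb_comp hPC, immAt, Category.assoc,
    Proj.awayι_toSpecZero_assoc, 𝒮.toQCAlg.ι_π U hU, ← Spec.map_comp_assoc, ← Spec.map_comp_assoc]
  congr 2
  refine CommRingCat.hom_ext (RingHom.ext fun r => ?_)
  have h : (𝒮h.str.app (op U)).hom r = (ι.hom.app (op U)).hom ((𝒮.str.app (op U)).hom r) :=
    (ConcreteCategory.congr_hom (congrArg (fun t => t.app (op U)) ι.comm) r).symm
  refine (hz.awayZToBase_of_val U hU _ ((𝒮h.str.app (op U)).hom r) 0 ?_).trans ?_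
  · simp [fromZeroRingHom, HomogeneousLocalization.val_mk]
    rfl
  · rw [h]; exact hz.evalOne_ι U hU _

include hPC hi in
theorem isPullback_imm (U : Y.AffineZariskiSite) :
    IsPullback (𝒮.toQCAlg.ι U.1 U.2) (immAt hz U) i (RelProj.emb pC chartC U.1 U.2) := by
  refine (IsOpenImmersion.isPullback _ _ _ _ (ι_imm hz hi U) ?_).flip
  rw [← 𝒮.toQCAlg.π_preimage, opensRange_emb', ← imm_comp hz hPC hi]
  rfl

instance isIso_spec_awayZToBase (U : Y.AffineZariskiSite) :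
    IsIso (Spec.map (CommRingCat.ofHom (hz.awayZToBase U.1 U.2))) := by
  haveI : IsIso (CommRingCat.ofHom (hz.awayZToBase U.1 U.2)) :=
    (ConcreteCategory.isIso_iff_bijective _).2 (bijective_awayZToBase hz U)
  infer_instance

theorem isAffineHom_immAt (U : Y.AffineZariskiSite) : IsAffineHom (immAt hz U) := by
  haveI : IsAffineHom (immAt hz U ≫ Proj.toSpecZero (𝒮h.deg U.1 U.2)) := by
    rw [immAt, Category.assoc, Proj.awayι_toSpecZero]; infer_instance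
  exact IsAffineHom.of_comp (immAt hz U) (Proj.toSpecZero (𝒮h.deg U.1 U.2))

include hPC hi in
theorem isOpenImmersion_imm : IsOpenImmersion i :=
  property_of_isPullback @IsOpenImmersion (fun U : Y.AffineZariskiSite => RelProj.emb pC chartC U.1 U.2)
    (fun x => let ⟨U, y, hy⟩ := exists_emb (chart := chartC) x; ⟨U, y, hy⟩) (fun U => immAt hz U)
    (fun U => 𝒮.toQCAlg.ι U.1 U.2) (isPullback_imm hz hPC hi) fun U => inferInstance

include hPC hi in
theorem isAffineHom_imm : IsAffineHom i :=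
  property_of_isPullback @IsAffineHom (fun U : Y.AffineZariskiSite => RelProj.emb pC chartC U.1 U.2)
    (fun x => let ⟨U, y, hy⟩ := exists_emb (chart := chartC) x; ⟨U, y, hy⟩) (fun U => immAt hz U)
    (fun U => 𝒮.toQCAlg.ι U.1 U.2) (isPullback_imm hz hPC hi) (isAffineHom_immAt hz)

theorem range_immAt (U : Y.AffineZariskiSite) :
    Set.range (immAt hz U).base = (Proj.basicOpen (𝒮h.deg U.1 U.2) (zAt z U) : Set _) := by
  rw [← Scheme.Hom.coe_opensRange]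
  show ((Spec.map (CommRingCat.ofHom (hz.awayZToBase U.1 U.2)) ≫
    Proj.awayι (𝒮h.deg U.1 U.2) (zAt z U) (zAt_mem hz U) one_pos).opensRange : Set (Proj (𝒮h.deg U.1 U.2))) = _
  rw [Scheme.Hom.opensRange_comp_of_isIso, Proj.opensRange_awayι]

include hPC hi in
theorem emb_mem_range_imm (U : Y.AffineZariskiSite) (y : Proj (𝒮h.deg U.1 U.2)) :
    RelProj.emb pC chartC U.1 U.2 y ∈ Set.range i.base ↔ y ∈ Proj.basicOpen (𝒮h.deg U.1 U.2) (zAt z U) := by
  constructor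
  · rintro ⟨c, hc⟩
    have hU : 𝒮.toQCAlg.π c ∈ U.1 := by
      rw [← imm_comp hz hPC hi]
      show pC (i c) ∈ U.1
      rw [hc]
      exact (RelProjK.mem_opensRange_em (chart := chartC) U).1 ⟨y, rfl⟩
    obtain ⟨q, rfl⟩ := exists_ι_eq 𝒮.toQCAlg U.1 U.2 c hU
    have hy : immAt hz U q = y := (RelProj.emb pC chartC U.1 U.2).isOpenEmbedding.injective (by
      rw [← hc]
      exact (ConcreteCategory.congr_hom (congrArg (fun t => t.base) (ι_imm hz hi U)) q).symm)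
    exact (range_immAt hz U).le ⟨q, hy⟩
  · intro hy
    obtain ⟨q, rfl⟩ := (range_immAt hz U).ge hy
    exact ⟨𝒮.toQCAlg.ι U.1 U.2 q, ConcreteCategory.congr_hom (congrArg (fun t => t.base) (ι_imm hz hi U)) q⟩

include hPC hi in
theorem range_imm_eq (Xz : PC.Opens)
    (hXz : ∀ (U : Y.Opens) (hU : IsAffineOpen U), Xz ⊓ pC ⁻¹ᵁ U =
      (pC ⁻¹ᵁ U).ι ''ᵁ ((chartC U hU).hom ⁻¹ᵁ
        Proj.basicOpen (𝒮h.deg U hU) (RelCone.restrictTop 𝒮h z U))) :
    Set.range i.base = (Xz : Set PC) := by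
  ext x
  obtain ⟨U, y, rfl⟩ := exists_emb (chart := chartC) x
  rw [emb_mem_range_imm hz hPC hi U y]
  have hU : RelProj.emb pC chartC U.1 U.2 y ∈ pC ⁻¹ᵁ U.1 := by
    rw [← opensRange_emb' (chart := chartC) U.1 U.2]; exact ⟨y, rfl⟩
  constructor
  · intro hy
    have : RelProj.emb pC chartC U.1 U.2 y ∈ Xz ⊓ pC ⁻¹ᵁ U.1 := by
      rw [hXz U.1 U.2]
      refine ⟨(chartC U.1 U.2).inv y, ?_, rfl⟩
      show (chartC U.1 U.2).hom ((chartC U.1 U.2).inv y) ∈ Proj.basicOpen _ _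
      rw [← Scheme.Hom.comp_apply, Iso.inv_hom_id]
      exact hy
    exact this.1
  · intro hx
    have : RelProj.emb pC chartC U.1 U.2 y ∈ Xz ⊓ pC ⁻¹ᵁ U.1 := ⟨hx, hU⟩
    rw [hXz U.1 U.2] at this
    obtain ⟨w, hw, e⟩ := this
    have he : w = (chartC U.1 U.2).inv y := (pC ⁻¹ᵁ U.1).ι.isOpenEmbedding.injective e
    subst he
    change (chartC U.1 U.2).hom ((chartC U.1 U.2).inv y) ∈ Proj.basicOpen _ _ at hw
    rw [← Scheme.Hom.comp_apply, Iso.inv_hom_id] at hw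
    exact hw

theorem ker_awayι_z (U : Y.AffineZariskiSite) {e : ℕ} {g : 𝒮h.presheaf.obj (op U.1)} (hg : g ∈ 𝒮h.deg U.1 U.2 e) :
    Function.Injective (awayMap (𝒮h.deg U.1 U.2) (zAt_mem hz U) (rfl : g * zAt z U = g * zAt z U)) := by
  rw [injective_iff_map_eq_zero]
  intro q hq
  obtain ⟨k, b, hb, rfl⟩ := Away.mk_surjective (𝒮h.deg U.1 U.2) hg q
  rw [awayMap_mk] at hq
  apply HomogeneousLocalization.val_injective
  have h0 := congrArg HomogeneousLocalization.val hq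
  rw [Away.val_mk, HomogeneousLocalization.val_zero, Localization.mk_eq_mk',
    IsLocalization.mk'_eq_zero_iff] at h0 ⊢
  obtain ⟨⟨_, m, rfl⟩, hm⟩ := h0
  refine ⟨⟨g ^ m, m, rfl⟩, ?_⟩
  have hm' : (g * zAt z U) ^ m * (b * zAt z U ^ k) = 0 := hm
  have hcancel : ∀ (n : ℕ) (w : 𝒮h.presheaf.obj (op U.1)), zAt z U ^ n * w = 0 → w = 0 := by
    intro n
    induction n with
    | zero => simp
    | succ n ih =>
      intro w hw
      rw [pow_succ, mul_assoc] at hw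
      exact nonZeroDivisor (gh hz U) (bij_poly hz U) (ih _ hw)
  refine hcancel (m + k) _ ?_
  rw [pow_add, ← hm', mul_pow]
  ring

include hPC hi in
theorem ker_imm : i.ker = ⊥ := by
  haveI := isAffineHom_imm hz hPC hi
  let J : Type u := Σ U : Y.AffineZariskiSite, (Σ n : ℕ+, 𝒮h.deg U.1 U.2 n)
  let a : ∀ j : J, Spec (CommRingCat.of (Away (𝒮h.deg j.1.1 j.1.2) (j.2.2 : 𝒮h.presheaf.obj (op j.1.1)))) ⟶ PC :=
    fun j => Proj.awayι _ _ j.2.2.2 j.2.1.pos ≫ RelProj.emb pC chartC j.1.1 j.1.2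
  haveI : ∀ j, IsOpenImmersion (a j) := fun j => inferInstance
  have hsq : ∀ j : J, ∃ (A : CommRingCat.{u}) (ψ : CommRingCat.of (Away (𝒮h.deg j.1.1 j.1.2) (j.2.2 : 𝒮h.presheaf.obj (op j.1.1))) ⟶ A)
      (b : Spec A ⟶ 𝒮.toQCAlg.spec), IsPullback b (Spec.map ψ) i (a j) ∧ Function.Injective ψ.hom := by
    rintro ⟨U, ⟨e, he⟩, g, hg⟩
    let x := g * zAt z U
    have hx : x = zAt z U * g := mul_comm _ _
    have h1 : IsPullback (Spec.map (CommRingCat.ofHom (awayMap (𝒮h.deg U.1 U.2) hg hx)))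
        (Spec.map (CommRingCat.ofHom (awayMap (𝒮h.deg U.1 U.2) (zAt_mem hz U) (rfl : x = g * zAt z U))))
        (Proj.awayι (𝒮h.deg U.1 U.2) (zAt z U) (zAt_mem hz U) one_pos) (Proj.awayι (𝒮h.deg U.1 U.2) g hg he) := by
      refine (IsPullback.of_iso_pullback ?_ (Proj.pullbackAwayιIso (𝒮h.deg U.1 U.2) (zAt_mem hz U) one_pos hg he hx).symm
        ?_ ?_)
      · refine ⟨?_⟩
        rw [Proj.SpecMap_awayMap_awayι, Proj.SpecMap_awayMap_awayι]
        congr 1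
        exact Nat.add_comm _ _
      · exact Proj.pullbackAwayιIso_inv_fst (hx := hx) ..
      · exact Proj.pullbackAwayιIso_inv_snd (hx := hx) ..
    have h2 : IsPullback (Spec.map (CommRingCat.ofHom (awayMap (𝒮h.deg U.1 U.2) hg hx)) ≫
          inv (Spec.map (CommRingCat.ofHom (hz.awayZToBase U.1 U.2))))
        (Spec.map (CommRingCat.ofHom (awayMap (𝒮h.deg U.1 U.2) (zAt_mem hz U) (rfl : x = g * zAt z U))))
        (immAt hz U) (Proj.awayι (𝒮h.deg U.1 U.2) g hg he) :=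
      h1.of_iso (Iso.refl _) (asIso (Spec.map (CommRingCat.ofHom (hz.awayZToBase U.1 U.2)))).symm (Iso.refl _)
        (Iso.refl _) (by simp) (by simp) (by simp [immAt]) (by simp)
    exact ⟨_, _, _, (h2.flip.paste_vert (isPullback_imm hz hPC hi U).flip).flip, ker_awayι_z hz U hg⟩
  choose A ψ b hsq hinj using hsq
  refine ker_eq_bot_of_isPullback a (fun x => ?_) (fun j => Spec.map (ψ j)) b hsq
    fun j => (AbsApprox.isSchemeTheoreticallyDominant_specMap (ψ j) (hinj j)).ker_eq_bot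
  obtain ⟨U, y, rfl⟩ := exists_emb (chart := chartC) x
  obtain ⟨j, w, rfl⟩ := (Proj.affineOpenCover (𝒮h.deg U.1 U.2)).openCover.exists_eq y
  exact ⟨⟨U, j⟩, w, rfl⟩

end GrothLib.RelCone8
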