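import Groth.Prelude.Def_RelProj4
import Groth.Agent.Lib.RelCone8.Retraction

/-!
# The morphism of relative Proj's of a graded morphism of algebras over a morphism of bases
-/

set_option autoImplicit false
set_option backward.isDefEq.respectTransparency false
set_option maxHeartbeats 400000

universe u

open CategoryTheory CategoryTheory.Limits AlgebraicGeometry TopologicalSpace Opposite HomogeneousLocalization
open scoped HomogeneousIdeal

noncomputable section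

namespace GrothLib.RelCone8

section graded

variable {A B A' B' σ τ σ' τ' : Type u} [CommRing A] [SetLike σ A] [AddSubgroupClass σ A] {𝒜 : ℕ → σ} [GradedRing 𝒜]
  [CommRing B] [SetLike τ B] [AddSubgroupClass τ B] {ℬ : ℕ → τ} [GradedRing ℬ] [CommRing A'] [SetLike σ' A']
  [AddSubgroupClass σ' A'] {𝒜' : ℕ → σ'} [GradedRing 𝒜'] [CommRing B'] [SetLike τ' B'] [AddSubgroupClass τ' B']
  {ℬ' : ℕ → τ'} [GradedRing ℬ'] (φ : 𝒜 →+*ᵍ ℬ) (φ' : 𝒜' →+*ᵍ ℬ') (ρA : 𝒜 →+*ᵍ 𝒜') (ρB : ℬ →+*ᵍ ℬ')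
  (hA : 𝒜'₊ ≤ (𝒜₊).map ρA) (hB : ℬ'₊ ≤ (ℬ₊).map ρB) (hsq : ∀ a : A, φ' (ρA a) = ρB (φ a))

include hA hsq in
theorem notMem_domOpen_square (w : ProjectiveSpectrum ℬ') :
    (ProjectiveSpectrum.comap ρB hB w : Proj ℬ) ∉ RelCone.domOpen φ ↔ (w : Proj ℬ') ∉ RelCone.domOpen φ' := by
  rw [notMem_domOpen, notMem_domOpen, ← irrelevant_le_comap_iff ρA hA]
  refine forall_congr' fun a => imp_congr_right fun _ => ?_
  show ρB (φ a) ∈ w.asHomogeneousIdeal.toIdeal ↔ φ' (ρA a) ∈ w.asHomogeneousIdeal.toIdeal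
  rw [hsq a]

end graded

/-- Gluing along a family of charts with a common refinement at every pair of points. -/
theorem existsUnique_glue_refine {X T : Scheme.{u}} {κ : Type u} {Z : κ → Scheme.{u}} (c : ∀ i, Z i ⟶ X)
    [∀ i, IsOpenImmersion (c i)] (hc : ∀ x, ∃ i, x ∈ Set.range (c i).base) (g : ∀ i, Z i ⟶ T)
    (hg : ∀ (i j : κ) (x : X), x ∈ Set.range (c i).base → x ∈ Set.range (c j).base →
      ∃ (k : κ) (t : Z k ⟶ Z i) (t' : Z k ⟶ Z j), x ∈ Set.range (c k).base ∧ t ≫ c i = c k ∧ t' ≫ c j = c k ∧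
        t ≫ g i = g k ∧ t' ≫ g j = g k) :
    ∃! h : X ⟶ T, ∀ i, c i ≫ h = g i := by
  let 𝒰 : X.OpenCover := Scheme.Cover.mkOfCovers κ Z c (fun x => let ⟨i, y, hy⟩ := hc x; ⟨i, y, hy⟩) inferInstance
  have compat : ∀ i j : κ, pullback.fst (c i) (c j) ≫ g i = pullback.snd (c i) (c j) ≫ g j := by
    intro i j
    have hex : ∀ q : ↥(pullback (c i) (c j)), ∃ (k : κ) (e : Z k ⟶ pullback (c i) (c j)),
        IsOpenImmersion e ∧ q ∈ Set.range e.base ∧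
          e ≫ pullback.fst (c i) (c j) ≫ g i = e ≫ pullback.snd (c i) (c j) ≫ g j := by
      intro q
      obtain ⟨k, t, t', hx, ht, ht', htg, htg'⟩ := hg i j ((pullback.fst (c i) (c j) ≫ c i) q)
        ⟨_, rfl⟩ (by rw [pullback.condition]; exact ⟨_, rfl⟩)
      let e : Z k ⟶ pullback (c i) (c j) := pullback.lift t t' (ht.trans ht'.symm)
      have he : e ≫ pullback.fst (c i) (c j) ≫ c i = c k := by rw [pullback.lift_fst_assoc, ht]
      haveI : IsOpenImmersion (e ≫ (pullback.fst (c i) (c j) ≫ c i)) := by rw [he]; infer_instance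
      refine ⟨k, e, IsOpenImmersion.of_comp e (pullback.fst (c i) (c j) ≫ c i), ?_, ?_⟩
      · obtain ⟨w, hw⟩ := hx
        refine ⟨w, (pullback.fst (c i) (c j) ≫ c i).isOpenEmbedding.injective ?_⟩
        rw [← hw]
        show (e ≫ pullback.fst (c i) (c j) ≫ c i) w = _
        rw [he]
      · rw [pullback.lift_fst_assoc, pullback.lift_snd_assoc, htg, htg']
    choose k e he hq heq using hex
    haveI := he
    let 𝒱 : (pullback (c i) (c j)).OpenCover :=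
      Scheme.Cover.mkOfCovers _ _ e (fun q => let ⟨y, hy⟩ := hq q; ⟨q, y, hy⟩) inferInstance
    exact 𝒱.hom_ext _ _ fun q => heq q
  exact ⟨𝒰.glueMorphisms g compat, fun i => Scheme.Cover.ι_glueMorphisms 𝒰 g compat i,
    fun h' hh' => 𝒰.hom_ext _ _ fun i => (hh' i).trans (Scheme.Cover.ι_glueMorphisms 𝒰 g compat i).symm⟩

variable {Y Y' : Scheme.{u}}

/-- A common refinement inside a given open. -/
theorem exists_le_le_le (U V : Y.AffineZariskiSite) (O : Y.Opens) {x : Y} (hU : x ∈ U.1) (hV : x ∈ V.1)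
    (hO : x ∈ O) : ∃ W : Y.AffineZariskiSite, W ≤ U ∧ W ≤ V ∧ W.1 ≤ O ∧ x ∈ W.1 := by
  obtain ⟨W, hWU, hWV, hW⟩ := exists_le_le U V hU hV
  obtain ⟨r, hr, hxr⟩ := W.2.exists_basicOpen_le ⟨x, hO⟩ hW
  let W2 : Y.AffineZariskiSite := ⟨Y.basicOpen r, W.2.basicOpen r⟩
  have h : W2 ≤ W := ⟨r, rfl⟩
  exact ⟨W2, h.trans hWU, h.trans hWV, hr, hxr⟩

variable (g : Y' ⟶ Y)

/-- An affine pair over `g`. -/
structure Pair where
  /-- the open of the base -/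
  U : Y.AffineZariskiSite
  /-- the open upstairs -/
  U' : Y'.AffineZariskiSite
  le : U'.1 ≤ g ⁻¹ᵁ U.1

variable {g}

theorem exists_pair (x : Y') : ∃ i : Pair g, x ∈ i.U'.1 := by
  obtain ⟨U, hU, hx, -⟩ := exists_isAffineOpen_mem_and_subset (x := g x) (U := ⊤) trivial
  obtain ⟨U', hU', hx', hle⟩ := exists_isAffineOpen_mem_and_subset (x := x) (U := g ⁻¹ᵁ U) hx
  exact ⟨⟨⟨U, hU⟩, ⟨U', hU'⟩, hle⟩, hx'⟩

theorem exists_pair_le_le (i j : Pair g) {x : Y'} (hi : x ∈ i.U'.1) (hj : x ∈ j.U'.1) :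
    ∃ k : Pair g, (k.U ≤ i.U ∧ k.U' ≤ i.U') ∧ (k.U ≤ j.U ∧ k.U' ≤ j.U') ∧ x ∈ k.U'.1 := by
  obtain ⟨W, hWi, hWj, hW⟩ := exists_le_le i.U j.U (i.le hi) (j.le hj)
  obtain ⟨W', hW'i, hW'j, hle, hW'⟩ := exists_le_le_le i.U' j.U' (g ⁻¹ᵁ W.1) hi hj hW
  exact ⟨⟨W, W', hle⟩, ⟨hWi, hW'i⟩, ⟨hWj, hW'j⟩, hW'⟩

variable {𝒮 : RelProj.QCGrAlg Y} {𝒮' : RelProj.QCGrAlg Y'} (u : RelProj.QGrHom g 𝒮 𝒮')

/-- The graded homomorphism over an affine pair. -/
abbrev gu (i : Pair g) : 𝒮.deg i.U.1 i.U.2 →+*ᵍ 𝒮'.deg i.U'.1 i.U'.2 :=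
  u.gradedAt i.U.1 i.U.2 i.U'.1 i.U'.2 i.le

theorem gu_res {i k : Pair g} (h : k.U ≤ i.U) (h' : k.U' ≤ i.U') (a : 𝒮.presheaf.obj (op i.U.1)) :
    gu u k (RelProjK.rs 𝒮 h a) = RelProjK.rs 𝒮' h' (gu u i a) := by
  show (𝒮.presheaf.map _ ≫ u.appLE k.U.1 k.U'.1 k.le).hom a = (u.appLE i.U.1 i.U'.1 i.le ≫ 𝒮'.presheaf.map _).hom a
  rw [u.map_appLE, u.appLE_map]

variable {P' : Scheme.{u}} (p' : P' ⟶ Y')
  (chart' : ∀ (U : Y'.Opens) (hU : IsAffineOpen U), (((p' ⁻¹ᵁ U : P'.Opens) : Scheme.{u}) ≅ Proj (𝒮'.deg U hU)))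

/-- The open `G(u)`. -/
abbrev Gu : P'.Opens := RelProj.domQ u p' chart'

theorem emb_mem_Gu_of_mem {i : Pair g} {y : Proj (𝒮'.deg i.U'.1 i.U'.2)} (hy : y ∈ RelCone.domOpen (gu u i)) :
    RelProj.emb p' chart' i.U'.1 i.U'.2 y ∈ Gu u p' chart' :=
  Opens.mem_iSup.2 ⟨⟨(⟨i.U.1, i.U.2⟩, ⟨i.U'.1, i.U'.2⟩), i.le⟩, y, hy, rfl⟩

theorem range_domOpen_subset (i : Pair g) :
    Set.range ((RelCone.domOpen (gu u i)).ι ≫ RelProj.emb p' chart' i.U'.1 i.U'.2).base ⊆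
      Set.range (Gu u p' chart').ι.base := by
  rw [Scheme.Opens.range_ι]
  rintro _ ⟨y, rfl⟩
  exact emb_mem_Gu_of_mem u p' chart' y.2

/-- The chart of `G(u)` over an affine pair. -/
def qEmb (i : Pair g) : (RelCone.domOpen (gu u i) : Scheme.{u}) ⟶ (Gu u p' chart' : Scheme.{u}) :=
  IsOpenImmersion.lift (Gu u p' chart').ι ((RelCone.domOpen (gu u i)).ι ≫ RelProj.emb p' chart' i.U'.1 i.U'.2)
    (range_domOpen_subset u p' chart' i)

@[reassoc]
theorem qEmb_ι (i : Pair g) : qEmb u p' chart' i ≫ (Gu u p' chart').ι =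
    (RelCone.domOpen (gu u i)).ι ≫ RelProj.emb p' chart' i.U'.1 i.U'.2 :=
  IsOpenImmersion.lift_fac _ _ _

instance isOpenImmersion_qEmb (i : Pair g) : IsOpenImmersion (qEmb u p' chart' i) := by
  have : IsOpenImmersion (qEmb u p' chart' i ≫ (Gu u p' chart').ι) := by rw [qEmb_ι]; infer_instance
  exact IsOpenImmersion.of_comp _ (Gu u p' chart').ι

theorem exists_qEmb (x : (Gu u p' chart' : Scheme.{u})) : ∃ i : Pair g, x ∈ Set.range (qEmb u p' chart' i).base := by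
  obtain ⟨V, hV⟩ := Opens.mem_iSup.1 x.2
  obtain ⟨y, hy, e⟩ := hV
  let i : Pair g := ⟨⟨V.1.1.1, V.1.1.2⟩, ⟨V.1.2.1, V.1.2.2⟩, V.2⟩
  let w : (RelCone.domOpen (gu u i) : Scheme.{u}) := ⟨y, hy⟩
  refine ⟨i, w, (Gu u p' chart').ι.isOpenEmbedding.injective ?_⟩
  have hι : (Gu u p' chart').ι (qEmb u p' chart' i w) = RelProj.emb p' chart' i.U'.1 i.U'.2 w.1 :=
    ConcreteCategory.congr_hom (congrArg (fun t => t.base) (qEmb_ι u p' chart' i)) w
  exact hι.trans e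

variable {p' chart'} (hP' : RelProj.IsRelProj 𝒮' p' chart')

include hP' in
/-- Membership in `G(u)` is read in any affine pair. -/
theorem emb_mem_Gu_iff (i : Pair g) (y : Proj (𝒮'.deg i.U'.1 i.U'.2)) :
    RelProj.emb p' chart' i.U'.1 i.U'.2 y ∈ Gu u p' chart' ↔ y ∈ RelCone.domOpen (gu u i) := by
  refine ⟨fun hy => ?_, emb_mem_Gu_of_mem u p' chart'⟩
  obtain ⟨V, hV⟩ := Opens.mem_iSup.1 hy
  obtain ⟨z, hz, e⟩ := hV
  let j : Pair g := ⟨⟨V.1.1.1, V.1.1.2⟩, ⟨V.1.2.1, V.1.2.2⟩, V.2⟩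
  obtain ⟨k, ⟨hki, hki'⟩, ⟨hkj, hkj'⟩, hk⟩ := exists_pair_le_le i j
    ((RelProjK.mem_opensRange_em (chart := chart') i.U').1 ⟨y, rfl⟩)
    ((RelProjK.mem_opensRange_em (chart := chart') j.U').1 ⟨z, e⟩)
  obtain ⟨w, hw⟩ := (RelProjK.mem_opensRange_em (chart := chart') k.U').2 hk
  have hy' : ProjectiveSpectrum.comap (RelProjK.rs 𝒮' hki') (RelProjK.rs_irr 𝒮' hki') w = y :=
    (RelProj.emb p' chart' i.U'.1 i.U'.2).isOpenEmbedding.injective ((RelProjK.em_comap hP' hki' w).trans hw)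
  have hz' : ProjectiveSpectrum.comap (RelProjK.rs 𝒮' hkj') (RelProjK.rs_irr 𝒮' hkj') w = z :=
    (RelProj.emb p' chart' j.U'.1 j.U'.2).isOpenEmbedding.injective
      ((RelProjK.em_comap hP' hkj' w).trans (hw.trans e.symm))
  by_contra hny
  rw [← hy'] at hny
  have := (notMem_domOpen_square (gu u j) (gu u k) (RelProjK.rs 𝒮 hkj) (RelProjK.rs 𝒮' hkj') (RelProjK.rs_irr 𝒮 hkj)
      (RelProjK.rs_irr 𝒮' hkj') (gu_res u hkj hkj') w).2
    ((notMem_domOpen_square (gu u i) (gu u k) (RelProjK.rs 𝒮 hki) (RelProjK.rs 𝒮' hki') (RelProjK.rs_irr 𝒮 hki)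
      (RelProjK.rs_irr 𝒮' hki') (gu_res u hki hki') w).1 hny)
  rw [hz'] at this
  exact this hz

include hP' in
theorem Gu_eq_top_iff : Gu u p' chart' = ⊤ ↔ ∀ i : Pair g, RelCone.domOpen (gu u i) = ⊤ := by
  constructor
  · exact fun h i => top_le_iff.1 fun y _ => (emb_mem_Gu_iff u hP' i y).1 (h ▸ trivial)
  · intro h
    refine top_le_iff.1 fun x _ => ?_
    obtain ⟨i, hi⟩ := exists_pair (g := g) (p' x)
    obtain ⟨y, rfl⟩ := (RelProjK.mem_opensRange_em (chart := chart') i.U').2 hi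
    exact emb_mem_Gu_of_mem u p' chart' (h i ▸ trivial)

include hP' in
theorem opensRange_qEmb (i : Pair g) :
    (qEmb u p' chart' i).opensRange = ((Gu u p' chart').ι ≫ p') ⁻¹ᵁ i.U'.1 := by
  ext x
  constructor
  · rintro ⟨y, rfl⟩
    show (qEmb u p' chart' i ≫ (Gu u p' chart').ι) y ∈ p' ⁻¹ᵁ i.U'.1
    rw [qEmb_ι, ← opensRange_emb' (chart := chart') i.U'.1 i.U'.2]
    exact ⟨_, rfl⟩
  · intro hx
    have hx' : (Gu u p' chart').ι x ∈ p' ⁻¹ᵁ i.U'.1 := hx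
    rw [← opensRange_emb' (chart := chart') i.U'.1 i.U'.2] at hx'
    obtain ⟨y, hy⟩ := hx'
    have hyd : y ∈ RelCone.domOpen (gu u i) := (emb_mem_Gu_iff u hP' i y).1 (by rw [hy]; exact x.2)
    refine ⟨⟨y, hyd⟩, (Gu u p' chart').ι.isOpenEmbedding.injective ?_⟩
    rw [← hy]
    show (qEmb u p' chart' i ≫ (Gu u p' chart').ι) ⟨y, hyd⟩ = _
    rw [qEmb_ι]
    rfl

variable {P : Scheme.{u}} {p : P ⟶ Y}
  {chart : ∀ (U : Y.Opens) (hU : IsAffineOpen U), (((p ⁻¹ᵁ U : P.Opens) : Scheme.{u}) ≅ Proj (𝒮.deg U hU))}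

/-- The equation of `Proj(u)` over the affine pairs. -/
def IsQ (v : (Gu u p' chart' : Scheme.{u}) ⟶ P) : Prop :=
  ∀ i : Pair g, qEmb u p' chart' i ≫ v = domMap (gu u i) ≫ RelProj.emb p chart i.U.1 i.U.2

theorem lift_awayEmb (i : Pair g) {d : ℕ} (hd : 0 < d) (f : 𝒮.presheaf.obj (op i.U.1)) (hf : f ∈ 𝒮.deg i.U.1 i.U.2 d)
    (hW : Set.range (RelProj.awayEmb u p' chart' i.U.1 i.U.2 i.U'.1 i.U'.2 i.le hd f hf).base ⊆
      Set.range (Gu u p' chart').ι.base) :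
    IsOpenImmersion.lift (Gu u p' chart').ι (RelProj.awayEmb u p' chart' i.U.1 i.U.2 i.U'.1 i.U'.2 i.le hd f hf) hW =
      domChart (gu u i) hf hd ≫ qEmb u p' chart' i := by
  rw [← cancel_mono (Gu u p' chart').ι, IsOpenImmersion.lift_fac, Category.assoc, qEmb_ι, domChart_ι_assoc]
  rfl

theorem isQ_iff (v : (Gu u p' chart' : Scheme.{u}) ⟶ P) :
    IsQ u (chart := chart) v ↔ RelProj.IsProjQMapOn u p chart p' chart' (Gu u p' chart') v := by
  constructor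
  · intro h U hU U' hU' hle d hd f hf hW
    rw [lift_awayEmb u ⟨⟨U, hU⟩, ⟨U', hU'⟩, hle⟩ hd f hf hW, Category.assoc, h ⟨⟨U, hU⟩, ⟨U', hU'⟩, hle⟩,
      domChart_domMap_assoc]
  · intro h i
    refine hom_ext_domChart _ fun d f hd hf => ?_
    rw [domChart_domMap_assoc, ← h i.U.1 i.U.2 i.U'.1 i.U'.2 i.le d hd f hf
      (RelProj.range_awayEmb_subset_domQ u p' chart' i.U.1 i.U.2 i.U'.1 i.U'.2 i.le hd f hf),
      lift_awayEmb, Category.assoc]

variable (hP : RelProj.IsRelProj 𝒮 p chart)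

include hP hP' in
theorem existsUnique_isQ : ∃! v : (Gu u p' chart' : Scheme.{u}) ⟶ P, IsQ u (chart := chart) v := by
  refine existsUnique_glue_refine (qEmb u p' chart') (exists_qEmb u p' chart')
    (fun i => domMap (gu u i) ≫ RelProj.emb p chart i.U.1 i.U.2) fun i j x hi hj => ?_
  have hxi : x ∈ (qEmb u p' chart' i).opensRange := hi
  have hxj : x ∈ (qEmb u p' chart' j).opensRange := hj
  rw [opensRange_qEmb u hP'] at hxi hxj
  obtain ⟨k, ⟨hki, hki'⟩, ⟨hkj, hkj'⟩, hk⟩ := exists_pair_le_le i j (show p' x.1 ∈ i.U'.1 from hxi) hxj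
  have key : ∀ (l : Pair g) (h : k.U ≤ l.U) (h' : k.U' ≤ l.U'),
      domFunc (gu u l) (φ' := gu u k) (RelProjK.rs_irr 𝒮 h) (RelProjK.rs_irr 𝒮' h') (gu_res u h h') ≫
          qEmb u p' chart' l = qEmb u p' chart' k ∧
        domFunc (gu u l) (φ' := gu u k) (RelProjK.rs_irr 𝒮 h) (RelProjK.rs_irr 𝒮' h') (gu_res u h h') ≫
          domMap (gu u l) ≫ RelProj.emb p chart l.U.1 l.U.2 = domMap (gu u k) ≫ RelProj.emb p chart k.U.1 k.U.2 := by
    intro l h h'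
    constructor
    · rw [← cancel_mono (Gu u p' chart').ι]
      simp only [Category.assoc, qEmb_ι]
      rw [← Category.assoc, domFunc_ι, Category.assoc]
      exact congrArg (_ ≫ ·) (RelProjK.map_rs_em hP' h')
    · rw [← Category.assoc, domFunc_domMap, Category.assoc]
      exact congrArg (_ ≫ ·) (RelProjK.map_rs_em hP h)
  refine ⟨k, _, _, ?_, (key i hki hki').1, (key j hkj hkj').1, (key i hki hki').2, (key j hkj hkj').2⟩
  show x ∈ (qEmb u p' chart' k).opensRange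
  rw [opensRange_qEmb u hP']
  exact hk

/-- On one chart: `Proj 𝒮'(U') ⟶ Spec O(U') ⟶ Spec O(U)`. -/
theorem domMap_toBase (i : Pair g) :
    domMap (gu u i) ≫ Proj.toSpecZero (𝒮.deg i.U.1 i.U.2) ≫ Spec.map (𝒮.strZero i.U.1 i.U.2) =
      (RelCone.domOpen (gu u i)).ι ≫ Proj.toSpecZero (𝒮'.deg i.U'.1 i.U'.2) ≫ Spec.map (𝒮'.strZero i.U'.1 i.U'.2) ≫
        Spec.map (g.appLE i.U.1 i.U'.1 i.le) := by
  refine hom_ext_domChart _ fun d f hd hf => ?_
  rw [domChart_domMap_assoc, domChart_ι_assoc, Proj.awayι_toSpecZero_assoc, Proj.awayι_toSpecZero_assoc]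
  simp only [← Spec.map_comp, Category.assoc]
  congr 1
  refine CommRingCat.hom_ext (RingHom.ext fun x => ?_)
  show Away.map (gu u i) f (fromZeroRingHom (𝒮.deg i.U.1 i.U.2) _ ((𝒮.strZero i.U.1 i.U.2).hom x)) =
    fromZeroRingHom (𝒮'.deg i.U'.1 i.U'.2) _ ((𝒮'.strZero i.U'.1 i.U'.2).hom ((g.appLE i.U.1 i.U'.1 i.le).hom x))
  have h : gu u i ((𝒮.str.app (op i.U.1)).hom x) = (𝒮'.str.app (op i.U'.1)).hom ((g.appLE i.U.1 i.U'.1 i.le).hom x) :=
    ConcreteCategory.congr_hom (u.str_appLE i.U.1 i.U'.1 i.le) x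
  have e0 : fromZeroRingHom (𝒮.deg i.U.1 i.U.2) (Submonoid.powers f) ((𝒮.strZero i.U.1 i.U.2).hom x) =
      Away.mk (𝒮.deg i.U.1 i.U.2) hf 0 ((𝒮.str.app (op i.U.1)).hom x) (by simpa using 𝒮.str_mem i.U.1 i.U.2 x) := by
    ext
    simp [fromZeroRingHom, HomogeneousLocalization.val_mk, Away.val_mk]
    rfl
  rw [e0, Away.map_mk (gu u i) f hf]
  ext
  simp [fromZeroRingHom, HomogeneousLocalization.val_mk, Away.val_mk]
  exact congrArg (fun t => Localization.mk t _) h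

variable {v : (Gu u p' chart' : Scheme.{u}) ⟶ P} (hv : IsQ u (chart := chart) v)

include hP hP' hv in
theorem isQ_comp : v ≫ p = (Gu u p' chart').ι ≫ p' ≫ g := by
  obtain ⟨_, _, -⟩ := existsUnique_isQ u hP' hP
  let 𝒰 : (Gu u p' chart' : Scheme.{u}).OpenCover := Scheme.Cover.mkOfCovers (Pair g) _ (qEmb u p' chart')
    (fun x => let ⟨i, y, hy⟩ := exists_qEmb u p' chart' x; ⟨i, y, hy⟩) inferInstance
  refine 𝒰.hom_ext _ _ fun (i : Pair g) => ?_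
  show qEmb u p' chart' i ≫ _ = qEmb u p' chart' i ≫ _
  rw [← Category.assoc, hv i, Category.assoc, emb_comp hP, qEmb_ι_assoc, ← Category.assoc (RelProj.emb p' chart' _ _) p',
    emb_comp hP', reassoc_of% (domMap_toBase u i)]
  simp only [Category.assoc]
  rw [IsAffineOpen.SpecMap_appLE_fromSpec g i.U.2 i.U'.2 i.le]

include hP hP' hv in
theorem isPullback_qEmb (U : Y.AffineZariskiSite) (hg : IsAffineOpen (g ⁻¹ᵁ U.1)) :
    IsPullback (qEmb u p' chart' ⟨U, ⟨g ⁻¹ᵁ U.1, hg⟩, le_rfl⟩) (domMap (gu u ⟨U, ⟨g ⁻¹ᵁ U.1, hg⟩, le_rfl⟩)) v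
      (RelProj.emb p chart U.1 U.2) := by
  refine (IsOpenImmersion.isPullback _ _ _ _ (hv ⟨U, ⟨g ⁻¹ᵁ U.1, hg⟩, le_rfl⟩) ?_).flip
  rw [opensRange_qEmb u hP', opensRange_emb', ← Scheme.Hom.comp_preimage, isQ_comp u hP' hP hv]
  rfl

section everywhere

variable (chart' chart) (htop : Gu u p' chart' = ⊤)

/-- `G(u)` is everything. -/
def topIso : (Gu u p' chart' : Scheme.{u}) ≅ P' :=
  Scheme.isoOfEq P' htop ≪≫ P'.topIso

theorem topIso_hom : (topIso u chart' htop).hom = (Gu u p' chart').ι := by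
  simp [topIso]

theorem isProjQMap_iff (h : P' ⟶ P) :
    RelProj.IsProjQMap u p chart p' chart' h ↔
      Gu u p' chart' = ⊤ ∧ IsQ u (chart := chart) ((Gu u p' chart').ι ≫ h) := by
  refine and_congr_right fun htop => ?_
  rw [isQ_iff]
  refine forall_congr' fun U => forall_congr' fun hU => forall_congr' fun U' => forall_congr' fun hU' =>
    forall_congr' fun hle => forall_congr' fun d => forall_congr' fun hd => forall_congr' fun f => forall_congr' fun hf => ?_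
  constructor
  · intro hh hW
    rw [← Category.assoc, IsOpenImmersion.lift_fac]
    exact hh
  · intro hh
    have := hh (RelProj.range_awayEmb_subset_domQ u p' chart' U hU U' hU' hle hd f hf)
    rwa [← Category.assoc, IsOpenImmersion.lift_fac] at this

end everywhere

end GrothLib.RelCone8
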