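import Groth.Prelude.Def_RelSpec2
import Groth.Agent.Lib.RelProjK.Comap
import Groth.Agent.Lib.RelProjK.ProjProps

/-!
# Cones over a general base: the charts
-/

set_option autoImplicit false
set_option backward.isDefEq.respectTransparency false
set_option maxHeartbeats 400000

universe u

open CategoryTheory CategoryTheory.Limits AlgebraicGeometry TopologicalSpace Opposite
open scoped HomogeneousIdeal

noncomputable section

namespace GrothLib.RelCone8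

section graded

variable {A B σ τ : Type u} [CommRing A] [SetLike σ A] [AddSubgroupClass σ A] {𝒜 : ℕ → σ} [GradedRing 𝒜]
  [CommRing B] [SetLike τ B] [AddSubgroupClass τ B] {ℬ : ℕ → τ} [GradedRing ℬ] (φ : 𝒜 →+*ᵍ ℬ)

theorem map_mem_irrelevant {a : A} (ha : a ∈ (𝒜₊).toIdeal) : φ a ∈ (ℬ₊).toIdeal := by
  classical
  have h0 : (DirectSum.decompose 𝒜 a 0 : A) = 0 := (HomogeneousIdeal.mem_irrelevant_iff 𝒜 a).1 ha
  refine (HomogeneousIdeal.mem_irrelevant_iff ℬ _).2 ?_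
  show (DirectSum.decompose ℬ (φ a) 0 : B) = 0
  rw [← GradedRingHom.map_directSumDecompose, h0, map_zero]

theorem irrelevant_le_comap : (𝒜₊).toIdeal ≤ (ℬ₊).toIdeal.comap φ.toRingHom :=
  fun _ ha => map_mem_irrelevant φ ha

theorem irrelevant_le_comap_iff (h : ℬ₊ ≤ (𝒜₊).map φ) (I : Ideal B) :
    (𝒜₊).toIdeal ≤ I.comap φ.toRingHom ↔ (ℬ₊).toIdeal ≤ I := by
  constructor
  · intro hI b hb
    exact (Ideal.map_le_iff_le_comap.2 hI : ((𝒜₊).toIdeal.map φ.toRingHom) ≤ I) (h hb)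
  · exact fun hI _ ha => hI (map_mem_irrelevant φ ha)

theorem mem_vertexCompl {R : CommRingCat.{u}} (𝒞 : ℕ → AddSubgroup R) [GradedRing 𝒞] (y : Spec R) :
    y ∈ RelCone.vertexCompl 𝒞 ↔ ¬ (𝒞₊).toIdeal ≤ y.asIdeal :=
  Iff.rfl

theorem notMem_domOpen (x : Proj ℬ) :
    x ∉ RelCone.domOpen φ ↔ (𝒜₊).toIdeal ≤ x.asHomogeneousIdeal.toIdeal.comap φ.toRingHom := by
  rw [RelCone.mem_domOpen]
  simp only [not_exists, not_and, not_not]
  rfl

end graded

variable {S : Scheme.{u}}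

/-- Two affine opens containing a point have a common refinement by basic opens. -/
theorem exists_le_le (U V : S.AffineZariskiSite) {x : S} (hU : x ∈ U.1) (hV : x ∈ V.1) :
    ∃ W : S.AffineZariskiSite, W ≤ U ∧ W ≤ V ∧ x ∈ W.1 := by
  obtain ⟨f, g, e, hf⟩ := exists_basicOpen_le_affine_inter U.2 V.2 x ⟨hU, hV⟩
  exact ⟨⟨S.basicOpen f, U.2.basicOpen f⟩, ⟨f, rfl⟩, ⟨g, e.symm⟩, hf⟩

section spec

variable (A : RelSpec.QCAlg S)

/-- The restriction between affine opens. -/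
abbrev rz {U W : S.AffineZariskiSite} (h : W ≤ U) : A.presheaf.obj (op U.1) ⟶ A.presheaf.obj (op W.1) :=
  A.presheaf.map (homOfLE (Scheme.AffineZariskiSite.toOpens_mono h)).op

theorem map_rz_ι {U W : S.AffineZariskiSite} (h : W ≤ U) :
    Spec.map (rz A h) ≫ A.ι U.1 U.2 = A.ι W.1 W.2 :=
  colimit.w A.glueData.functor (homOfLE h)

theorem π_ι_mem (U : S.Opens) (hU : IsAffineOpen U) (y : Spec (A.presheaf.obj (op U))) :
    A.π (A.ι U hU y) ∈ U := by
  show A.ι U hU y ∈ A.π ⁻¹ᵁ U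
  rw [A.π_preimage U hU]
  exact ⟨y, rfl⟩

theorem exists_ι_eq (U : S.Opens) (hU : IsAffineOpen U) (x : A.spec) (hx : A.π x ∈ U) :
    ∃ y, A.ι U hU y = x := by
  have h : x ∈ A.π ⁻¹ᵁ U := hx
  rw [A.π_preimage U hU] at h
  exact h

theorem exists_affine_chart (x : A.spec) : ∃ (U : S.AffineZariskiSite) (y : _), A.ι U.1 U.2 y = x := by
  obtain ⟨U, hU, hx, -⟩ := exists_isAffineOpen_mem_and_subset (x := A.π x) (U := ⊤) trivial
  exact ⟨⟨U, hU⟩, exists_ι_eq A U hU x hx⟩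

/-- A property of points of the charts stable along basic opens does not depend on the chart. -/
theorem chart_indep (P : ∀ U : S.AffineZariskiSite, Spec (A.presheaf.obj (op U.1)) → Prop)
    (hP : ∀ {U W : S.AffineZariskiSite} (h : W ≤ U) (w : Spec (A.presheaf.obj (op W.1))),
      P U (Spec.map (rz A h) w) ↔ P W w)
    {U V : S.AffineZariskiSite} (y : Spec (A.presheaf.obj (op U.1))) (z : Spec (A.presheaf.obj (op V.1)))
    (h : A.ι U.1 U.2 y = A.ι V.1 V.2 z) : P U y ↔ P V z := by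
  obtain ⟨W, hWU, hWV, hW⟩ := exists_le_le U V (π_ι_mem A U.1 U.2 y) (h ▸ π_ι_mem A V.1 V.2 z)
  obtain ⟨w, hw⟩ := exists_ι_eq A W.1 W.2 _ hW
  have hy : Spec.map (rz A hWU) w = y := (A.ι U.1 U.2).isOpenEmbedding.injective (by
    rw [← hw, ← map_rz_ι A hWU]; rfl)
  have hz : Spec.map (rz A hWV) w = z := (A.ι V.1 V.2).isOpenEmbedding.injective (by
    rw [← h, ← hw, ← map_rz_ι A hWV]; rfl)
  rw [← hy, ← hz, hP hWU w, hP hWV w]

theorem hom_ext_charts {T : Scheme.{u}} {f g : A.spec ⟶ T}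
    (h : ∀ (U : S.Opens) (hU : IsAffineOpen U), A.ι U hU ≫ f = A.ι U hU ≫ g) : f = g :=
  colimit.hom_ext fun U => h U.1 U.2

end spec

section pointed

variable (𝒮 : RelProj.QCGrAlg S)

theorem irrelevant_le_asIdeal_iff {U W : S.AffineZariskiSite} (h : W ≤ U) (w : Spec (𝒮.presheaf.obj (op W.1))) :
    ((𝒮.deg U.1 U.2)₊).toIdeal ≤ (Spec.map (rz 𝒮.toQCAlg h) w).asIdeal ↔
      ((𝒮.deg W.1 W.2)₊).toIdeal ≤ w.asIdeal :=
  irrelevant_le_comap_iff (RelProjK.rs 𝒮 h) (RelProjK.rs_irr 𝒮 h) _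

/-- A point of a chart is in the pointed cone iff its ideal does not contain the irrelevant ideal. -/
theorem ι_mem_pointedCone_iff (U : S.Opens) (hU : IsAffineOpen U) (y : Spec (𝒮.presheaf.obj (op U))) :
    𝒮.toQCAlg.ι U hU y ∈ RelCone.pointedCone 𝒮 ↔ ¬ ((𝒮.deg U hU)₊).toIdeal ≤ y.asIdeal := by
  constructor
  · intro hy
    obtain ⟨V, hV⟩ := Opens.mem_iSup.1 hy
    obtain ⟨z, hz, e⟩ := hV
    have := chart_indep 𝒮.toQCAlg (fun U y => ((𝒮.deg U.1 U.2)₊).toIdeal ≤ y.asIdeal)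
      (fun {U W} h w => irrelevant_le_asIdeal_iff 𝒮 h w) (U := ⟨U, hU⟩) (V := V) y z e.symm
    exact fun hy' => hz (this.1 hy')
  · intro hy
    exact Opens.mem_iSup.2 ⟨⟨U, hU⟩, y, hy, rfl⟩

theorem ι_preimage_pointedCone (U : S.Opens) (hU : IsAffineOpen U) :
    𝒮.toQCAlg.ι U hU ⁻¹ᵁ RelCone.pointedCone 𝒮 = RelCone.vertexCompl (𝒮.deg U hU) :=
  Opens.ext (Set.ext fun y => ι_mem_pointedCone_iff 𝒮 U hU y)

end pointed

section pointedProj

variable {𝒮 𝒮h : RelProj.QCGrAlg S} {ι : 𝒮.toQCAlg ⟶ 𝒮h.toQCAlg} {z : 𝒮h.presheaf.obj (op ⊤)}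
  (hz : RelCone.IsPolyOver 𝒮 𝒮h ι z) {PC : Scheme.{u}} {pC : PC ⟶ S}
  {chartC : ∀ (U : S.Opens) (hU : IsAffineOpen U), (((pC ⁻¹ᵁ U : PC.Opens) : Scheme.{u}) ≅ Proj (𝒮h.deg U hU))}

theorem gradedHomAt_res {U W : S.AffineZariskiSite} (h : W ≤ U) (a : 𝒮.presheaf.obj (op U.1)) :
    RelProjK.rs 𝒮h h (RelProj.gradedHomAt ι hz.graded U.1 U.2 a) =
      RelProj.gradedHomAt ι hz.graded W.1 W.2 (RelProjK.rs 𝒮 h a) :=
  (ConcreteCategory.congr_hom (ι.hom.naturality (homOfLE (Scheme.AffineZariskiSite.toOpens_mono h)).op) a).symm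

theorem notMem_domOpen_comap {U W : S.AffineZariskiSite} (h : W ≤ U)
    (w : ProjectiveSpectrum (𝒮h.deg W.1 W.2)) :
    (ProjectiveSpectrum.comap (RelProjK.rs 𝒮h h) (RelProjK.rs_irr 𝒮h h) w : Proj (𝒮h.deg U.1 U.2)) ∉
        RelCone.domOpen (RelProj.gradedHomAt ι hz.graded U.1 U.2) ↔
      (w : Proj (𝒮h.deg W.1 W.2)) ∉ RelCone.domOpen (RelProj.gradedHomAt ι hz.graded W.1 W.2) := by
  rw [notMem_domOpen, notMem_domOpen, ← irrelevant_le_comap_iff (RelProjK.rs 𝒮 h) (RelProjK.rs_irr 𝒮 h)]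
  refine forall_congr' fun a => imp_congr_right fun _ => ?_
  show RelProjK.rs 𝒮h h (RelProj.gradedHomAt ι hz.graded U.1 U.2 a) ∈ w.asHomogeneousIdeal.toIdeal ↔ _
  rw [gradedHomAt_res hz h a]
  rfl

/-- A point of a chart is in the pointed projective cone iff it is in `G(ι)`. -/
theorem emb_mem_pointedProjCone_iff (hPC : RelProj.IsRelProj 𝒮h pC chartC) (U : S.Opens) (hU : IsAffineOpen U)
    (y : Proj (𝒮h.deg U hU)) :
    RelProj.emb pC chartC U hU y ∈ RelCone.pointedProjCone 𝒮 hz pC chartC ↔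
      y ∈ RelCone.domOpen (RelProj.gradedHomAt ι hz.graded U hU) := by
  constructor
  · intro hy
    obtain ⟨V, hV⟩ := Opens.mem_iSup.1 hy
    obtain ⟨x, hx, e⟩ := hV
    let U' : S.AffineZariskiSite := ⟨U, hU⟩
    obtain ⟨W, hWU, hWV, hW⟩ := exists_le_le U' V
      ((RelProjK.mem_opensRange_em (chart := chartC) U').1 ⟨y, rfl⟩)
      ((RelProjK.mem_opensRange_em (chart := chartC) V).1 ⟨x, e⟩)
    obtain ⟨w, hw⟩ := (RelProjK.mem_opensRange_em (chart := chartC) W).2 hW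
    have hy' : ProjectiveSpectrum.comap (RelProjK.rs 𝒮h hWU) (RelProjK.rs_irr 𝒮h hWU) w = y :=
      (RelProj.emb pC chartC U hU).isOpenEmbedding.injective ((RelProjK.em_comap hPC hWU w).trans hw)
    have hx' : ProjectiveSpectrum.comap (RelProjK.rs 𝒮h hWV) (RelProjK.rs_irr 𝒮h hWV) w = x :=
      (RelProj.emb pC chartC V.1 V.2).isOpenEmbedding.injective
        ((RelProjK.em_comap hPC hWV w).trans (hw.trans e.symm))
    by_contra hny
    rw [← hy'] at hny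
    have := (notMem_domOpen_comap hz hWV w).2 ((notMem_domOpen_comap hz hWU w).1 hny)
    rw [hx'] at this
    exact this hx
  · intro hy
    exact Opens.mem_iSup.2 ⟨⟨U, hU⟩, y, hy, rfl⟩

theorem emb_preimage_pointedProjCone (hPC : RelProj.IsRelProj 𝒮h pC chartC) (U : S.Opens) (hU : IsAffineOpen U) :
    RelProj.emb pC chartC U hU ⁻¹ᵁ RelCone.pointedProjCone 𝒮 hz pC chartC =
      RelCone.domOpen (RelProj.gradedHomAt ι hz.graded U hU) :=
  Opens.ext (Set.ext fun y => emb_mem_pointedProjCone_iff hz hPC U hU y)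

end pointedProj

end GrothLib.RelCone8
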