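import Groth.Agent.Lib.RelCone8.Base
import Groth.Agent.Lib.ProjPt.Basic
import Mathlib.AlgebraicGeometry.Gluing

/-!
# The morphism `G(φ) ⟶ Proj` for gradings of any kind
-/

set_option autoImplicit false
set_option backward.isDefEq.respectTransparency false
set_option maxHeartbeats 400000

universe u

open CategoryTheory CategoryTheory.Limits AlgebraicGeometry TopologicalSpace HomogeneousLocalization
open scoped HomogeneousIdeal

noncomputable section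

namespace GrothLib.RelCone8

variable {A B σ τ : Type u} [CommRing A] [SetLike σ A] [AddSubgroupClass σ A] {𝒜 : ℕ → σ} [GradedRing 𝒜]
  [CommRing B] [SetLike τ B] [AddSubgroupClass τ B] {ℬ : ℕ → τ} [GradedRing ℬ] (φ : 𝒜 →+*ᵍ ℬ)

theorem gmem {d : ℕ} {f : A} (hf : f ∈ 𝒜 d) : φ f ∈ ℬ d := φ.2 hf

theorem mem_domOpen_iff (x : Proj ℬ) :
    x ∈ RelCone.domOpen φ ↔ ∃ j : (n : ℕ+) × 𝒜 n, x ∈ Proj.basicOpen ℬ (φ (j.2 : A)) := by
  constructor
  · intro hx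
    by_contra! H
    refine absurd hx ((notMem_domOpen φ x).2 ?_)
    rw [HomogeneousIdeal.toIdeal_irrelevant_le]
    exact fun i hi a ha => not_not.1 (H ⟨⟨i, hi⟩, ⟨a, ha⟩⟩)
  · rintro ⟨⟨n, a⟩, hx⟩
    exact (RelCone.mem_domOpen φ x).2 ⟨a, HomogeneousIdeal.mem_irrelevant_of_mem 𝒜 n.pos a.2, hx⟩

theorem range_awayι_subset {d : ℕ} {f : A} (hf : f ∈ 𝒜 d) (hd : 0 < d) :
    Set.range (Proj.awayι ℬ (φ f) (gmem φ hf) hd).base ⊆ Set.range (RelCone.domOpen φ).ι.base := by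
  rw [Scheme.Opens.range_ι, ← Scheme.Hom.coe_opensRange, Proj.opensRange_awayι]
  exact fun x hx => (mem_domOpen_iff φ x).2 ⟨⟨⟨d, hd⟩, ⟨f, hf⟩⟩, hx⟩

/-- The standard chart of `G(φ)`. -/
def domChart {d : ℕ} {f : A} (hf : f ∈ 𝒜 d) (hd : 0 < d) :
    Spec (CommRingCat.of (Away ℬ (φ f))) ⟶ (RelCone.domOpen φ : Scheme.{u}) :=
  IsOpenImmersion.lift (RelCone.domOpen φ).ι (Proj.awayι ℬ (φ f) (gmem φ hf) hd) (range_awayι_subset φ hf hd)

@[reassoc]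
theorem domChart_ι {d : ℕ} {f : A} (hf : f ∈ 𝒜 d) (hd : 0 < d) :
    domChart φ hf hd ≫ (RelCone.domOpen φ).ι = Proj.awayι ℬ (φ f) (gmem φ hf) hd :=
  IsOpenImmersion.lift_fac _ _ _

instance isOpenImmersion_domChart {d : ℕ} {f : A} (hf : f ∈ 𝒜 d) (hd : 0 < d) :
    IsOpenImmersion (domChart φ hf hd) := by
  have : IsOpenImmersion (domChart φ hf hd ≫ (RelCone.domOpen φ).ι) := by rw [domChart_ι]; infer_instance
  exact IsOpenImmersion.of_comp _ (RelCone.domOpen φ).ι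

theorem opensRange_domChart {d : ℕ} {f : A} (hf : f ∈ 𝒜 d) (hd : 0 < d) :
    (domChart φ hf hd).opensRange = (RelCone.domOpen φ).ι ⁻¹ᵁ Proj.basicOpen ℬ (φ f) := by
  rw [← Proj.opensRange_awayι ℬ (φ f) (gmem φ hf) hd]
  ext x
  constructor
  · rintro ⟨y, rfl⟩
    exact ⟨y, by rw [← domChart_ι φ hf hd]; rfl⟩
  · rintro ⟨y, hy⟩
    refine ⟨y, (RelCone.domOpen φ).ι.isOpenEmbedding.injective ?_⟩
    rw [← domChart_ι φ hf hd] at hy
    exact hy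

theorem exists_domChart (x : (RelCone.domOpen φ : Scheme.{u})) :
    ∃ j : (n : ℕ+) × 𝒜 n, x ∈ (domChart φ j.2.2 j.1.pos).opensRange := by
  obtain ⟨j, hx⟩ := (mem_domOpen_iff φ _).1 x.2
  exact ⟨j, by rw [opensRange_domChart]; exact hx⟩

/-- The standard cover of `G(φ)`. -/
def domCover : (RelCone.domOpen φ : Scheme.{u}).AffineOpenCover where
  I₀ := (n : ℕ+) × 𝒜 n
  X j := .of (Away ℬ (φ (j.2 : A)))
  f j := domChart φ j.2.2 j.1.pos
  idx x := (exists_domChart φ x).choose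
  covers x := (exists_domChart φ x).choose_spec

theorem away_map_awayMap {n m : ℕ} {f g x : A} (hf : f ∈ 𝒜 n) (hg : g ∈ 𝒜 m) (hx : x = f * g) :
    (Away.map φ x).comp (awayMap 𝒜 hg hx) =
      (awayMap ℬ (gmem φ hg) (show φ x = φ f * φ g by rw [hx, map_mul])).comp (Away.map φ f) := by
  ext y
  obtain ⟨k, a, ha, rfl⟩ := Away.mk_surjective 𝒜 hf y
  simp only [RingHom.comp_apply, awayMap_mk, Away.map_mk φ f hf,
    Away.map_mk φ x (hx ▸ SetLike.mul_mem_graded hf hg)]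
  simp only [Away.val_mk, map_mul, map_pow]

theorem proj_compat {n m : ℕ} (hn : 0 < n) (hm : 0 < m) (f g : A) (hf : f ∈ 𝒜 n) (hg : g ∈ 𝒜 m) :
    pullback.fst (Proj.awayι ℬ (φ f) (gmem φ hf) hn) (Proj.awayι ℬ (φ g) (gmem φ hg) hm) ≫
        Spec.map (CommRingCat.ofHom (Away.map φ f)) ≫ Proj.awayι 𝒜 f hf hn =
      pullback.snd _ _ ≫ Spec.map (CommRingCat.ofHom (Away.map φ g)) ≫ Proj.awayι 𝒜 g hg hm := by
  rw [← cancel_epi (Proj.pullbackAwayιIso ℬ (gmem φ hf) hn (gmem φ hg) hm (map_mul φ f g)).inv]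
  rw [Proj.pullbackAwayιIso_inv_fst_assoc, Proj.pullbackAwayιIso_inv_snd_assoc]
  simp only [← Spec.map_comp_assoc, ← CommRingCat.ofHom_comp]
  rw [← away_map_awayMap φ hf hg rfl, ← away_map_awayMap φ hg hf (mul_comm f g)]
  simp only [CommRingCat.ofHom_comp, Spec.map_comp, Category.assoc]
  rw [Proj.SpecMap_awayMap_awayι, Proj.SpecMap_awayMap_awayι]
  rfl

theorem dom_compat {n m : ℕ} (hn : 0 < n) (hm : 0 < m) (f g : A) (hf : f ∈ 𝒜 n) (hg : g ∈ 𝒜 m) :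
    pullback.fst (domChart φ hf hn) (domChart φ hg hm) ≫
        Spec.map (CommRingCat.ofHom (Away.map φ f)) ≫ Proj.awayι 𝒜 f hf hn =
      pullback.snd _ _ ≫ Spec.map (CommRingCat.ofHom (Away.map φ g)) ≫ Proj.awayι 𝒜 g hg hm := by
  have h : pullback.fst (domChart φ hf hn) (domChart φ hg hm) ≫ Proj.awayι ℬ (φ f) (gmem φ hf) hn =
      pullback.snd _ _ ≫ Proj.awayι ℬ (φ g) (gmem φ hg) hm := by
    rw [← domChart_ι φ hf hn, ← domChart_ι φ hg hm, pullback.condition_assoc]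
  have key := pullback.lift (pullback.fst _ _) (pullback.snd _ _) h ≫= proj_compat φ hn hm f g hf hg
  rwa [pullback.lift_fst_assoc, pullback.lift_snd_assoc] at key

/-- The morphism `G(φ) ⟶ Proj 𝒜`. -/
noncomputable def domMap : (RelCone.domOpen φ : Scheme.{u}) ⟶ Proj 𝒜 :=
  (domCover φ).openCover.glueMorphisms
    (fun (j : (n : ℕ+) × 𝒜 n) => Spec.map (CommRingCat.ofHom (Away.map φ (j.2 : A))) ≫
      Proj.awayι 𝒜 _ j.2.2 j.1.pos)
    (fun (j k : (n : ℕ+) × 𝒜 n) => dom_compat φ j.1.pos k.1.pos _ _ j.2.2 k.2.2)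

theorem cover_f_domMap (j : (n : ℕ+) × 𝒜 n) :
    (domCover φ).openCover.f j ≫ domMap φ =
      Spec.map (CommRingCat.ofHom (Away.map φ (j.2 : A))) ≫ Proj.awayι 𝒜 _ j.2.2 j.1.pos :=
  Scheme.Cover.ι_glueMorphisms (domCover φ).openCover _ _ j

@[reassoc]
theorem domChart_domMap {d : ℕ} (f : A) (hd : 0 < d) (hf : f ∈ 𝒜 d) :
    domChart φ hf hd ≫ domMap φ = Spec.map (CommRingCat.ofHom (Away.map φ f)) ≫ Proj.awayι 𝒜 f hf hd :=
  cover_f_domMap φ (⟨⟨d, hd⟩, f, hf⟩ : (n : ℕ+) × 𝒜 n)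

theorem hom_ext_domChart {T : Scheme.{u}} {p p' : (RelCone.domOpen φ : Scheme.{u}) ⟶ T}
    (h : ∀ (d : ℕ) (f : A) (hd : 0 < d) (hf : f ∈ 𝒜 d), domChart φ hf hd ≫ p = domChart φ hf hd ≫ p') : p = p' :=
  (domCover φ).openCover.hom_ext _ _ fun (j : (n : ℕ+) × 𝒜 n) => h j.1 j.2 j.1.pos j.2.2

theorem domMap_preimage_basicOpen {e : ℕ} (g : A) (he : 0 < e) (hg : g ∈ 𝒜 e) :
    domMap φ ⁻¹ᵁ Proj.basicOpen 𝒜 g = (RelCone.domOpen φ).ι ⁻¹ᵁ Proj.basicOpen ℬ (φ g) := by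
  ext x
  obtain ⟨⟨⟨d, hd⟩, f, hf⟩, y, rfl⟩ := exists_domChart φ x
  change (domChart φ hf hd ≫ domMap φ).base y ∈ Proj.basicOpen 𝒜 g ↔
    (domChart φ hf hd ≫ (RelCone.domOpen φ).ι).base y ∈ Proj.basicOpen ℬ (φ g)
  rw [domChart_domMap φ f hd hf, domChart_ι]
  change y ∈ Spec.map _ ⁻¹ᵁ (Proj.awayι 𝒜 f hf hd ⁻¹ᵁ Proj.basicOpen 𝒜 g) ↔
    y ∈ Proj.awayι ℬ (φ f) (gmem φ hf) hd ⁻¹ᵁ Proj.basicOpen ℬ (φ g)
  rw [Proj.awayι_preimage_basicOpen 𝒜 hf hd hg he,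
    Proj.awayι_preimage_basicOpen ℬ (gmem φ hf) hd (gmem φ hg) he]
  have key : Away.map φ f (Away.isLocalizationElem hf hg) = Away.isLocalizationElem (gmem φ hf) (gmem φ hg) := by
    apply HomogeneousLocalization.val_injective
    rw [Away.map_mk φ f hf]
    simp [Away.val_mk, map_pow]
  rw [← key]
  rfl

theorem isPullback_domChart {d : ℕ} (f : A) (hd : 0 < d) (hf : f ∈ 𝒜 d) :
    IsPullback (domChart φ hf hd) (Spec.map (CommRingCat.ofHom (Away.map φ f))) (domMap φ)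
      (Proj.awayι 𝒜 f hf hd) := by
  refine (IsOpenImmersion.isPullback _ _ _ _ (domChart_domMap φ f hd hf) ?_).flip
  rw [Proj.opensRange_awayι, opensRange_domChart, domMap_preimage_basicOpen φ f hd hf]

theorem awayι_of_eq {d : ℕ} {x y : A} (e : x = y) (hy : y ∈ 𝒜 d) (hd : 0 < d) :
    Spec.map (CommRingCat.ofHom (awayMap 𝒜 (SetLike.one_mem_graded 𝒜) (show x = y * 1 by rw [mul_one, e]))) ≫
        Proj.awayι 𝒜 y hy hd = Proj.awayι 𝒜 x (e.symm ▸ hy) hd := by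
  subst e
  rw [Proj.SpecMap_awayMap_awayι]

section natural

variable {A' B' σ' τ' : Type u} [CommRing A'] [SetLike σ' A'] [AddSubgroupClass σ' A'] {𝒜' : ℕ → σ'} [GradedRing 𝒜']
  [CommRing B'] [SetLike τ' B'] [AddSubgroupClass τ' B'] {ℬ' : ℕ → τ'} [GradedRing ℬ'] {φ' : 𝒜' →+*ᵍ ℬ'}
  {ρA : 𝒜 →+*ᵍ 𝒜'} {ρB : ℬ →+*ᵍ ℬ'} (hA : 𝒜'₊ ≤ (𝒜₊).map ρA) (hB : ℬ'₊ ≤ (ℬ₊).map ρB)
  (hsq : ∀ a : A, φ' (ρA a) = ρB (φ a))

include hA in
theorem exists_mem_basicOpen_map (x : Proj ℬ') (hx : x ∈ RelCone.domOpen φ') :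
    ∃ j : (n : ℕ+) × 𝒜 n, x ∈ Proj.basicOpen ℬ' (φ' (ρA (j.2 : A))) := by
  by_contra! H
  refine absurd hx ((notMem_domOpen φ' x).2 ?_)
  rw [← irrelevant_le_comap_iff ρA hA, HomogeneousIdeal.toIdeal_irrelevant_le]
  exact fun i hi a ha => not_not.1 (H ⟨⟨i, hi⟩, ⟨a, ha⟩⟩)

include hA hsq in
theorem range_map_subset_domOpen :
    Set.range ((RelCone.domOpen φ').ι ≫ Proj.map ρB hB).base ⊆ Set.range (RelCone.domOpen φ).ι.base := by
  rw [Scheme.Opens.range_ι]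
  rintro _ ⟨x, rfl⟩
  obtain ⟨j, hj⟩ := exists_mem_basicOpen_map hA _ x.2
  refine (mem_domOpen_iff φ _).2 ⟨j, ?_⟩
  show (RelCone.domOpen φ').ι x ∈ Proj.map ρB hB ⁻¹ᵁ Proj.basicOpen ℬ (φ (j.2 : A))
  rw [Proj.map_preimage_basicOpen, ← hsq]
  exact hj

/-- The morphism of the opens `G` induced by a square of graded homomorphisms. -/
def domFunc : (RelCone.domOpen φ' : Scheme.{u}) ⟶ (RelCone.domOpen φ : Scheme.{u}) :=
  IsOpenImmersion.lift (RelCone.domOpen φ).ι ((RelCone.domOpen φ').ι ≫ Proj.map ρB hB)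
    (range_map_subset_domOpen φ hA hB hsq)

@[reassoc]
theorem domFunc_ι : domFunc φ hA hB hsq ≫ (RelCone.domOpen φ).ι = (RelCone.domOpen φ').ι ≫ Proj.map ρB hB :=
  IsOpenImmersion.lift_fac _ _ _

theorem domFunc_domMap : domFunc φ hA hB hsq ≫ domMap φ = domMap φ' ≫ Proj.map ρA hA := by
  let j : (i : (n : ℕ+) × 𝒜 n) → _ := fun i => domChart φ' (gmem ρA i.2.2) i.1.pos
  let 𝒰 : (RelCone.domOpen φ' : Scheme.{u}).AffineOpenCover :=
    { I₀ := (n : ℕ+) × 𝒜 n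
      X := fun i => .of (Away ℬ' (φ' (ρA (i.2 : A))))
      f := j
      idx := fun x => (exists_mem_basicOpen_map hA _ x.2).choose
      covers := fun x => by
        rw [← Scheme.Hom.coe_opensRange, SetLike.mem_coe, opensRange_domChart]
        exact (exists_mem_basicOpen_map hA _ x.2).choose_spec }
  refine 𝒰.openCover.hom_ext _ _ fun (i : (n : ℕ+) × 𝒜 n) => ?_
  obtain ⟨⟨d, hd⟩, f, hf⟩ := i
  show domChart φ' (gmem ρA hf) hd ≫ _ = domChart φ' (gmem ρA hf) hd ≫ _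
  have hx : φ' (ρA f) = ρB (φ f) * 1 := by rw [hsq, mul_one]
  let θ : Away ℬ (φ f) →+* Away ℬ' (φ' (ρA f)) :=
    (awayMap ℬ' (SetLike.one_mem_graded ℬ') hx).comp (Away.map ρB (φ f))
  have h1 : domChart φ' (gmem ρA hf) hd ≫ domFunc φ hA hB hsq =
      Spec.map (CommRingCat.ofHom θ) ≫ domChart φ hf hd := by
    rw [← cancel_mono (RelCone.domOpen φ).ι]
    simp only [Category.assoc, domFunc_ι, domChart_ι, domChart_ι_assoc]
    rw [← awayι_of_eq (hsq f) (gmem ρB (gmem φ hf)) hd, Category.assoc,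
      Proj.awayι_comp_map ρB hB hd (φ f) (gmem φ hf)]
    simp only [θ, CommRingCat.ofHom_comp, Spec.map_comp, Category.assoc]
  have h2 : θ.comp (Away.map φ f) = (Away.map φ' (ρA f)).comp (Away.map ρA f) := by
    ext y
    obtain ⟨k, a, ha, rfl⟩ := Away.mk_surjective 𝒜 hf y
    simp only [θ, RingHom.comp_apply, Away.map_mk φ f hf, Away.map_mk ρB (φ f) (gmem φ hf), awayMap_mk,
      Away.map_mk ρA f hf, Away.map_mk φ' (ρA f) (gmem ρA hf), Away.val_mk, hsq, one_pow, mul_one]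
  rw [reassoc_of% h1, domChart_domMap, domChart_domMap_assoc, Proj.awayι_comp_map ρA hA hd f hf,
    ← Spec.map_comp_assoc, ← Spec.map_comp_assoc, ← CommRingCat.ofHom_comp, ← CommRingCat.ofHom_comp, h2]

end natural

section spec

variable {R : Type u} [CommRing R]

theorem SpecMap_evalAway_eq (g : B →+* R) {d e : ℕ} {x y : B} (hx : x ∈ ℬ d) (hd : 0 < d) (hy : y ∈ ℬ e) (he : 0 < e)
    (hgx : IsUnit (g x)) (hgy : IsUnit (g y)) :
    Spec.map (CommRingCat.ofHom (ProjPt.evalAway ℬ g x hgx)) ≫ Proj.awayι ℬ x hx hd =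
      Spec.map (CommRingCat.ofHom (ProjPt.evalAway ℬ g y hgy)) ≫ Proj.awayι ℬ y hy he := by
  let G : B →+* Γ(Spec (CommRingCat.of R), ⊤) := (Scheme.ΓSpecIso (CommRingCat.of R)).inv.hom.comp g
  have key : ∀ {m : ℕ} {w : B} (hw : w ∈ ℬ m) (hm : 0 < m) (hgw : IsUnit (g w)),
      Spec.map (CommRingCat.ofHom (ProjPt.evalAway ℬ g w hgw)) ≫ Proj.awayι ℬ w hw hm =
        ProjPt.pt ℬ hw hm (ProjPt.evalAway ℬ G w (hgw.map (Scheme.ΓSpecIso (CommRingCat.of R)).inv.hom)) := by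
    intro m w hw hm hgw
    rw [ProjPt.pt, ← ProjPt.comp_evalAway ℬ (Scheme.ΓSpecIso (CommRingCat.of R)).inv.hom g hw hgw,
      CommRingCat.ofHom_comp, Spec.map_comp, Category.assoc, CommRingCat.ofHom_hom,
      toSpecΓ_SpecMap_ΓSpecIso_inv_assoc]
  rw [key hx hd hgx, key hy he hgy]
  exact ProjPt.pt_evalAway_eq ℬ hx hd G _ hy he _

theorem evalAway_preimage_basicOpen (g : B →+* R) {d : ℕ} {x : B} (hx : x ∈ ℬ d) (hd : 0 < d) (hgx : IsUnit (g x))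
    {e : ℕ} {b : B} (hb : b ∈ ℬ e) (he : 0 < e) (q : Spec (CommRingCat.of R)) :
    (Spec.map (CommRingCat.ofHom (ProjPt.evalAway ℬ g x hgx)) ≫ Proj.awayι ℬ x hx hd) q ∈ Proj.basicOpen ℬ b ↔
      g b ∉ q.asIdeal := by
  show q ∈ (Spec.map _ ≫ Proj.awayι ℬ x hx hd) ⁻¹ᵁ Proj.basicOpen ℬ b ↔ _
  rw [Scheme.Hom.comp_preimage, Proj.awayι_preimage_basicOpen ℬ hx hd hb he]
  show ProjPt.evalAway ℬ g x hgx (Away.isLocalizationElem hx hb) ∉ q.asIdeal ↔ _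
  have h : ProjPt.evalAway ℬ g x hgx (Away.isLocalizationElem hx hb) * g x ^ e = g b ^ d := by
    rw [ProjPt.evalAway_mk_spec, map_pow]
  rw [not_iff_not]
  refine ((Ideal.mul_unit_mem_iff_mem _ (hgx.pow e)).symm.trans ?_)
  rw [h]
  exact Ideal.IsPrime.pow_mem_iff_mem q.isPrime d hd

end spec

end GrothLib.RelCone8
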