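import Groth.Agent.Lib.RelCone8.Base

/-!
# Functoriality of the pointed affine cone
-/

set_option autoImplicit false
set_option backward.isDefEq.respectTransparency false
set_option maxHeartbeats 400000

universe u

open CategoryTheory CategoryTheory.Limits AlgebraicGeometry TopologicalSpace Opposite
open scoped HomogeneousIdeal

noncomputable section

namespace GrothLib.RelCone8

section graded

variable {A B σ τ : Type u} [CommRing A] [SetLike σ A] [AddSubgroupClass σ A] {𝒜 : ℕ → σ} [GradedRing 𝒜]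
  [CommRing B] [SetLike τ B] [AddSubgroupClass τ B] {ℬ : ℕ → τ} [GradedRing ℬ] (φ : 𝒜 →+*ᵍ ℬ)

/-- `G(φ)` is everything iff the irrelevant ideal of `B` is in the radical of that of `A`. -/
theorem domOpen_eq_top_iff : RelCone.domOpen φ = ⊤ ↔
    ∀ p : Ideal B, p.IsPrime → (𝒜₊).toIdeal ≤ p.comap φ.toRingHom → (ℬ₊).toIdeal ≤ p := by
  classical
  constructor
  · intro h p hp hA
    by_contra hB
    let q := p.homogeneousCore ℬ
    have hqB : ¬ ℬ₊ ≤ q := fun hle => hB (le_trans hle (Ideal.toIdeal_homogeneousCore_le ℬ p))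
    let x : ProjectiveSpectrum ℬ := ⟨q, hp.homogeneousCore, hqB⟩
    have hx : (x : Proj ℬ) ∈ RelCone.domOpen φ := h ▸ trivial
    refine absurd hx ((notMem_domOpen φ _).2 ?_)
    rw [HomogeneousIdeal.toIdeal_irrelevant_le]
    intro i hi a ha
    exact Ideal.mem_homogeneousCore_of_homogeneous_of_mem ⟨i, φ.2 ha⟩
      (hA (HomogeneousIdeal.mem_irrelevant_of_mem _ hi ha))
  · intro h
    refine TopologicalSpace.Opens.ext (Set.eq_univ_of_forall fun x => ?_)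
    by_contra hx
    exact x.not_irrelevant_le (h _ x.isPrime ((notMem_domOpen φ _).1 hx))

end graded

variable {Y Y' : Scheme.{u}} {q : Y' ⟶ Y} {𝒮 : RelProj.QCGrAlg Y} {𝒮' : RelProj.QCGrAlg Y'}
  {u : 𝒮.presheaf ⟶ q.base _* 𝒮'.presheaf}
  {φ : ∀ (U : Y.Opens) (hU : IsAffineOpen U) (U' : Y'.Opens) (hU' : IsAffineOpen U') (_ : U' ≤ q ⁻¹ᵁ U),
    𝒮.deg U hU →+*ᵍ 𝒮'.deg U' hU'}
  (hφ : ∀ (U : Y.Opens) (hU : IsAffineOpen U) (U' : Y'.Opens) (hU' : IsAffineOpen U') (hle : U' ≤ q ⁻¹ᵁ U),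
    (φ U hU U' hU' hle).toRingHom =
      ((u.app (op U) : 𝒮.presheaf.obj (op U) ⟶ 𝒮'.presheaf.obj (op (q ⁻¹ᵁ U))) ≫
        𝒮'.presheaf.map (homOfLE hle).op).hom)
  {Φ : 𝒮'.toQCAlg.spec ⟶ 𝒮.toQCAlg.spec}
  (hΦ : ∀ (U : Y.Opens) (hU : IsAffineOpen U) (U' : Y'.Opens) (hU' : IsAffineOpen U') (hle : U' ≤ q ⁻¹ᵁ U),
    𝒮'.toQCAlg.ι U' hU' ≫ Φ =
      Spec.map ((u.app (op U) : 𝒮.presheaf.obj (op U) ⟶ 𝒮'.presheaf.obj (op (q ⁻¹ᵁ U))) ≫
        𝒮'.presheaf.map (homOfLE hle).op) ≫ 𝒮.toQCAlg.ι U hU)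

include hφ hΦ in
theorem mem_preimage_pointedCone_iff (U : Y.Opens) (hU : IsAffineOpen U) (U' : Y'.Opens) (hU' : IsAffineOpen U')
    (hle : U' ≤ q ⁻¹ᵁ U) (y : Spec (𝒮'.presheaf.obj (op U'))) :
    𝒮'.toQCAlg.ι U' hU' y ∈ Φ ⁻¹ᵁ RelCone.pointedCone 𝒮 ↔
      ¬ ((𝒮.deg U hU)₊).toIdeal ≤ y.asIdeal.comap (φ U hU U' hU' hle).toRingHom := by
  show (𝒮'.toQCAlg.ι U' hU' ≫ Φ) y ∈ RelCone.pointedCone 𝒮 ↔ _
  rw [hΦ U hU U' hU' hle]
  refine (ι_mem_pointedCone_iff 𝒮 U hU _).trans (not_congr ?_)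
  rw [hφ]
  rfl

/-- Charts adapted to `q`. -/
theorem exists_adapted_chart (q : Y' ⟶ Y) (A : RelSpec.QCAlg Y') (x : A.spec) :
    ∃ (U : Y.Opens) (_ : IsAffineOpen U) (U' : Y'.Opens) (hU' : IsAffineOpen U') (_ : U' ≤ q ⁻¹ᵁ U)
      (y : Spec (A.presheaf.obj (op U'))), A.ι U' hU' y = x := by
  obtain ⟨U, hU, hx, -⟩ := exists_isAffineOpen_mem_and_subset (x := q (A.π x)) (U := ⊤) trivial
  obtain ⟨U', hU', hx', hle⟩ := exists_isAffineOpen_mem_and_subset (x := A.π x) (U := q ⁻¹ᵁ U) hx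
  exact ⟨U, hU, U', hU', hle, exists_ι_eq A U' hU' x hx'⟩

include hφ hΦ in
theorem preimage_pointedCone_le : Φ ⁻¹ᵁ RelCone.pointedCone 𝒮 ≤ RelCone.pointedCone 𝒮' := by
  intro x hx
  obtain ⟨U, hU, U', hU', hle, y, rfl⟩ := exists_adapted_chart q 𝒮'.toQCAlg x
  rw [mem_preimage_pointedCone_iff hφ hΦ U hU U' hU' hle] at hx
  refine (ι_mem_pointedCone_iff 𝒮' U' hU' y).2 fun h => hx ?_
  exact (irrelevant_le_comap (φ U hU U' hU' hle)).trans (Ideal.comap_mono h)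

include hφ hΦ in
theorem preimage_pointedCone_eq_iff :
    (∀ (U : Y.Opens) (hU : IsAffineOpen U) (U' : Y'.Opens) (hU' : IsAffineOpen U') (hle : U' ≤ q ⁻¹ᵁ U),
        RelCone.domOpen (φ U hU U' hU' hle) = ⊤) ↔
      Φ ⁻¹ᵁ RelCone.pointedCone 𝒮 = RelCone.pointedCone 𝒮' := by
  constructor
  · intro h
    refine le_antisymm (preimage_pointedCone_le hφ hΦ) fun x hx => ?_
    obtain ⟨U, hU, U', hU', hle, y, rfl⟩ := exists_adapted_chart q 𝒮'.toQCAlg x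
    rw [mem_preimage_pointedCone_iff hφ hΦ U hU U' hU' hle]
    exact fun hA => (ι_mem_pointedCone_iff 𝒮' U' hU' y).1 hx
      ((domOpen_eq_top_iff _).1 (h U hU U' hU' hle) y.asIdeal y.isPrime hA)
  · intro h U hU U' hU' hle
    rw [domOpen_eq_top_iff]
    intro p hp hA
    by_contra hB
    let y : Spec (𝒮'.presheaf.obj (op U')) := ⟨p, hp⟩
    have h1 : 𝒮'.toQCAlg.ι U' hU' y ∈ Φ ⁻¹ᵁ RelCone.pointedCone 𝒮 := by
      rw [h]; exact (ι_mem_pointedCone_iff 𝒮' U' hU' y).2 hB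
    exact (mem_preimage_pointedCone_iff hφ hΦ U hU U' hU' hle y).1 h1 hA

end GrothLib.RelCone8
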