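import Groth.Agent.Lib.GradedAlg.BaseChange
import Groth.Agent.Lib.RelCone8.Dom
import Groth.Agent.Lib.RelCone8.Functorial

/-!
# Base change of `Proj` for gradings by additive subgroups
-/

set_option autoImplicit false
set_option backward.isDefEq.respectTransparency false
set_option maxHeartbeats 400000

universe u

open CategoryTheory AlgebraicGeometry HomogeneousLocalization
open scoped HomogeneousIdeal

noncomputable section

namespace GrothLib.RelCone8

section toSubmodule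

variable {R B : Type u} [CommRing R] [CommRing B] [Algebra R B] (ℬ : ℕ → AddSubgroup B) [GradedRing ℬ]
  (h0 : ∀ r : R, algebraMap R B r ∈ ℬ 0)

/-- A grading by additive subgroups is one by submodules over a ring mapping to degree zero. -/
def sgr (n : ℕ) : Submodule R B where
  toAddSubmonoid := (ℬ n).toAddSubmonoid
  smul_mem' := fun r x hx => by
    show r • x ∈ ℬ n
    rw [Algebra.smul_def]
    simpa using SetLike.mul_mem_graded (h0 r) hx

instance gradedAlgebraSgr : GradedAlgebra (sgr ℬ h0) where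
  one_mem := SetLike.GradedOne.one_mem (A := ℬ)
  mul_mem := fun _ _ _ _ hi hj => SetLike.GradedMul.mul_mem (A := ℬ) hi hj
  decompose' := (show DirectSum.Decomposition ℬ from inferInstance).decompose'
  left_inv := (show DirectSum.Decomposition ℬ from inferInstance).left_inv
  right_inv := (show DirectSum.Decomposition ℬ from inferInstance).right_inv

/-- The identity from the submodule grading. -/
def ofS : sgr ℬ h0 →+*ᵍ ℬ := { RingHom.id B with map_mem := fun hx => hx }

theorem bijective_away_ofS {d : ℕ} (f : B) (hf : f ∈ ℬ d) :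
    Function.Bijective (Away.map (ofS ℬ h0) f : Away (sgr ℬ h0) f → Away ℬ f) := by
  have hf' : f ∈ sgr ℬ h0 d := hf
  constructor
  · intro x y h
    obtain ⟨m, a, ha, rfl⟩ := Away.mk_surjective (sgr ℬ h0) hf' x
    obtain ⟨n, b, hb, rfl⟩ := Away.mk_surjective (sgr ℬ h0) hf' y
    rw [Away.map_mk (ofS ℬ h0) f hf', Away.map_mk (ofS ℬ h0) f hf'] at h
    refine HomogeneousLocalization.val_injective _ ?_
    have h' := congrArg HomogeneousLocalization.val h
    rwa [Away.val_mk, Away.val_mk] at h' ⊢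
  · intro x
    obtain ⟨m, a, ha, rfl⟩ := Away.mk_surjective ℬ hf x
    exact ⟨Away.mk (sgr ℬ h0) hf' m a ha, Away.map_mk (ofS ℬ h0) f hf' m a ha⟩

end toSubmodule

section pushout

variable {R' R B A : Type u} [CommRing R'] [CommRing R] [CommRing B] [CommRing A]
  (ℬ : ℕ → AddSubgroup B) [GradedRing ℬ] (𝒜 : ℕ → AddSubgroup A) [GradedRing 𝒜] (φ : ℬ →+*ᵍ 𝒜)
  (ρ : R' →+* R) (sB : R' →+* ℬ 0) (sA : R →+* 𝒜 0)
  {tB : CommRingCat.of R' ⟶ CommRingCat.of B} (hB : ∀ r, tB.hom r = (sB r : B))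
  {tA : CommRingCat.of R ⟶ CommRingCat.of A} (hA : ∀ r, tA.hom r = (sA r : A))
  {φc : CommRingCat.of B ⟶ CommRingCat.of A} (hφc : ∀ b, φc.hom b = φ b)
  (h : IsPushout (CommRingCat.ofHom ρ) tB tA φc)

include hB hA hφc h in
theorem isPushout_away_of_isPushout {i : ℕ} (f : B) (hf : f ∈ ℬ i) :
    IsPushout (CommRingCat.ofHom ρ) (CommRingCat.ofHom ((fromZeroRingHom ℬ (Submonoid.powers f)).comp sB))
      (CommRingCat.ofHom ((fromZeroRingHom 𝒜 (Submonoid.powers (φ f))).comp sA))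
      (CommRingCat.ofHom (Away.map φ f)) := by
  letI : Algebra R' R := ρ.toAlgebra
  letI : Algebra R' B := tB.hom.toAlgebra
  letI : Algebra R A := tA.hom.toAlgebra
  letI : Algebra R' A := (tA.hom.comp ρ).toAlgebra
  letI : Algebra B A := φ.toRingHom.toAlgebra
  haveI : IsScalarTower R' R A := IsScalarTower.of_algebraMap_eq' rfl
  have hw : ∀ r, φ (tB.hom r) = tA.hom (ρ r) := fun r =>
    (hφc _).symm.trans (ConcreteCategory.congr_hom h.w r).symm
  haveI : IsScalarTower R' B A := IsScalarTower.of_algebraMap_eq fun r => (hw r).symm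
  have hB0 : ∀ r, algebraMap R' B r ∈ ℬ 0 := fun r => by
    show tB.hom r ∈ ℬ 0
    rw [hB r]
    exact (sB r).2
  have hA0 : ∀ r, algebraMap R A r ∈ 𝒜 0 := fun r => by
    show tA.hom r ∈ 𝒜 0
    rw [hA r]
    exact (sA r).2
  haveI : Algebra.IsPushout R' R B A := by
    refine CommRingCat.isPushout_iff_isPushout.1 ?_
    have e : φc = CommRingCat.ofHom (algebraMap B A) := CommRingCat.hom_ext (RingHom.ext hφc)
    rw [e] at h
    exact h
  let φS : sgr ℬ hB0 →+*ᵍ sgr 𝒜 hA0 := { φ.toRingHom with map_mem := fun {_ _} hx => φ.2 hx }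
  have key := GradedAlg.isPushout_away (sgr ℬ hB0) (sgr 𝒜 hA0) φS (fun _ => rfl) f hf
  haveI := (ConcreteCategory.isIso_iff_bijective (CommRingCat.ofHom (Away.map (ofS ℬ hB0) f))).2
    (bijective_away_ofS ℬ hB0 f hf)
  haveI := (ConcreteCategory.isIso_iff_bijective (CommRingCat.ofHom (Away.map (ofS 𝒜 hA0) (φ f)))).2
    (bijective_away_ofS 𝒜 hA0 (φ f) (φ.2 hf))
  refine key.of_iso (Iso.refl _) (Iso.refl _) (asIso (CommRingCat.ofHom (Away.map (ofS ℬ hB0) f)))
    (asIso (CommRingCat.ofHom (Away.map (ofS 𝒜 hA0) (φ f)))) (by simp; rfl) ?_ ?_ ?_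
  · refine CommRingCat.hom_ext (RingHom.ext fun r => ?_)
    refine HomogeneousLocalization.val_injective _ ?_
    show (Away.map (ofS ℬ hB0) f (GradedAlg.toAway (sgr ℬ hB0) f r)).val = _
    have e : GradedAlg.toAway (sgr ℬ hB0) f r = Away.mk (sgr ℬ hB0) (show f ∈ sgr ℬ hB0 i from hf) 0
        (algebraMap R' B r) (by rw [zero_smul]; exact hB0 r) := by
      apply HomogeneousLocalization.val_injective
      rw [GradedAlg.val_toAway, Away.val_mk, ← Localization.mk_one_eq_algebraMap]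
      exact congrArg _ (Subtype.ext (pow_zero f).symm)
    rw [e, Away.map_mk (ofS ℬ hB0) f (show f ∈ sgr ℬ hB0 i from hf)]
    simp [fromZeroRingHom, HomogeneousLocalization.val_mk, Away.val_mk]
    exact congrArg (fun t => Localization.mk t _) (hB r)
  · refine CommRingCat.hom_ext (RingHom.ext fun r => ?_)
    refine HomogeneousLocalization.val_injective _ ?_
    show (Away.map (ofS 𝒜 hA0) (φ f) (GradedAlg.toAway (sgr 𝒜 hA0) (φ f) r)).val = _
    have e : GradedAlg.toAway (sgr 𝒜 hA0) (φ f) r = Away.mk (sgr 𝒜 hA0) (show φ f ∈ sgr 𝒜 hA0 i from φ.2 hf) 0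
        (algebraMap R A r) (by rw [zero_smul]; exact hA0 r) := by
      apply HomogeneousLocalization.val_injective
      rw [GradedAlg.val_toAway, Away.val_mk, ← Localization.mk_one_eq_algebraMap]
      exact congrArg _ (Subtype.ext (pow_zero (φ f)).symm)
    rw [e, Away.map_mk (ofS 𝒜 hA0) (φ f) (show φ f ∈ sgr 𝒜 hA0 i from φ.2 hf)]
    simp [fromZeroRingHom, HomogeneousLocalization.val_mk, Away.val_mk]
    exact congrArg (fun t => Localization.mk t _) (hA r)
  · refine CommRingCat.hom_ext (RingHom.ext fun y => ?_)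
    obtain ⟨m, a, ha, rfl⟩ := Away.mk_surjective (sgr ℬ hB0) (show f ∈ sgr ℬ hB0 i from hf) y
    refine HomogeneousLocalization.val_injective _ ?_
    simp only [asIso_hom, CommRingCat.hom_comp, CommRingCat.hom_ofHom, RingHom.comp_apply]
    rw [Away.map_mk φS f (show f ∈ sgr ℬ hB0 i from hf)]
    erw [Away.map_mk (ofS 𝒜 hA0) (φ f) (show φ f ∈ sgr 𝒜 hA0 i from φ.2 hf),
      Away.map_mk (ofS ℬ hB0) f (show f ∈ sgr ℬ hB0 i from hf), Away.map_mk φ f hf]
    rfl

include hB hA hφc h in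
theorem irrelevant_le_map_of_isPushout : 𝒜₊ ≤ (ℬ₊).map φ := by
  letI : Algebra R' R := ρ.toAlgebra
  letI : Algebra R' B := tB.hom.toAlgebra
  letI : Algebra R A := tA.hom.toAlgebra
  letI : Algebra R' A := (tA.hom.comp ρ).toAlgebra
  letI : Algebra B A := φ.toRingHom.toAlgebra
  haveI : IsScalarTower R' R A := IsScalarTower.of_algebraMap_eq' rfl
  have hw : ∀ r, φ (tB.hom r) = tA.hom (ρ r) := fun r =>
    (hφc _).symm.trans (ConcreteCategory.congr_hom h.w r).symm
  haveI : IsScalarTower R' B A := IsScalarTower.of_algebraMap_eq fun r => (hw r).symm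
  have hB0 : ∀ r, algebraMap R' B r ∈ ℬ 0 := fun r => by
    show tB.hom r ∈ ℬ 0
    rw [hB r]
    exact (sB r).2
  have hA0 : ∀ r, algebraMap R A r ∈ 𝒜 0 := fun r => by
    show tA.hom r ∈ 𝒜 0
    rw [hA r]
    exact (sA r).2
  haveI : Algebra.IsPushout R' R B A := by
    refine CommRingCat.isPushout_iff_isPushout.1 ?_
    have e : φc = CommRingCat.ofHom (algebraMap B A) := CommRingCat.hom_ext (RingHom.ext hφc)
    rw [e] at h
    exact h
  let φS : sgr ℬ hB0 →+*ᵍ sgr 𝒜 hA0 := { φ.toRingHom with map_mem := fun {_ _} hx => φ.2 hx }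
  rw [HomogeneousIdeal.irrelevant_le]
  intro n hn a ha
  have h1 := GradedAlg.exists_repr_degree (sgr ℬ hB0) (sgr 𝒜 hA0) φS (fun _ => rfl) n a ha
  clear ha
  induction h1 using Submodule.span_induction with
  | mem x hx =>
    obtain ⟨b, hb, rfl⟩ := hx
    exact Ideal.mem_map_of_mem φ (HomogeneousIdeal.mem_irrelevant_of_mem ℬ hn hb)
  | zero => exact zero_mem _
  | add x y _ _ ihx ihy => exact add_mem ihx ihy
  | smul r x _ ih =>
    rw [Algebra.smul_def]
    exact Ideal.mul_mem_left _ _ ih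

include hB hA hφc h in
theorem domOpen_eq_top_of_isPushout : RelCone.domOpen φ = ⊤ :=
  (domOpen_eq_top_iff φ).2 fun _ _ hq =>
    le_trans (_root_.toIdeal_le_toIdeal_iff.2 (irrelevant_le_map_of_isPushout ℬ 𝒜 φ ρ sB sA hB hA hφc h))
      (Ideal.map_le_iff_le_comap.2 hq)

include hB hA hφc h in
theorem isPullback_proj_map (hφ : 𝒜₊ ≤ (ℬ₊).map φ) :
    IsPullback (Proj.map φ hφ) (Proj.toSpecZero 𝒜 ≫ Spec.map (CommRingCat.ofHom sA))
      (Proj.toSpecZero ℬ ≫ Spec.map (CommRingCat.ofHom sB)) (Spec.map (CommRingCat.ofHom ρ)) := by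
  have hsq : ∀ (i : ℕ) (hi : 0 < i) (f : B) (hf : f ∈ ℬ i),
      IsPullback (Proj.awayι 𝒜 (φ f) (φ.2 hf) hi ≫ Proj.toSpecZero 𝒜 ≫ Spec.map (CommRingCat.ofHom sA))
        (Spec.map (CommRingCat.ofHom (Away.map φ f))) (Spec.map (CommRingCat.ofHom ρ))
        (Proj.awayι ℬ f hf hi ≫ Proj.toSpecZero ℬ ≫ Spec.map (CommRingCat.ofHom sB)) := by
    intro i hi f hf
    rw [Proj.awayι_toSpecZero_assoc, Proj.awayι_toSpecZero_assoc, ← Spec.map_comp, ← Spec.map_comp,
      ← CommRingCat.ofHom_comp, ← CommRingCat.ofHom_comp]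
    exact isPullback_SpecMap_of_isPushout _ _ _ _ (isPushout_away_of_isPushout ℬ 𝒜 φ ρ sB sA hB hA hφc h f hf)
  have w : Proj.map φ hφ ≫ Proj.toSpecZero ℬ ≫ Spec.map (CommRingCat.ofHom sB) =
      (Proj.toSpecZero 𝒜 ≫ Spec.map (CommRingCat.ofHom sA)) ≫ Spec.map (CommRingCat.ofHom ρ) := by
    refine (Proj.mapAffineOpenCover φ hφ).openCover.hom_ext _ _ fun s => ?_
    let j : (i : ℕ+) × ℬ i := s
    have h := (hsq j.1 j.1.pos (j.2 : B) j.2.2).w
    simp only [Category.assoc] at h ⊢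
    change Proj.awayι 𝒜 (φ (j.2 : B)) (φ.2 j.2.2) j.1.pos ≫ _ =
      Proj.awayι 𝒜 (φ (j.2 : B)) (φ.2 j.2.2) j.1.pos ≫ _
    rw [reassoc_of% (Proj.awayι_comp_map φ hφ j.1.pos (j.2 : B) j.2.2)]
    exact h.symm
  refine (Pushout6.isPullback_of_cover w.symm (Proj.affineOpenCover ℬ).openCover fun s => ?_).flip
  let c : (i : ℕ+) × ℬ i := s
  have h1 : (Proj.affineOpenCover ℬ).openCover.f s = Proj.awayι ℬ (c.2 : B) c.2.2 c.1.pos := by
    simp only [Scheme.AffineOpenCover.openCover_f, Proj.affineOpenCover_f]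
    rfl
  rw [h1]
  refine ⟨Spec (CommRingCat.of (Away 𝒜 (φ (c.2 : B)))), Proj.awayι 𝒜 (φ (c.2 : B)) (φ.2 c.2.2) c.1.pos,
    Spec.map (CommRingCat.ofHom (Away.map φ (c.2 : B))), ?_, hsq c.1 c.1.pos (c.2 : B) c.2.2⟩
  refine (IsOpenImmersion.isPullback _ _ _ _ (Proj.awayι_comp_map φ hφ c.1.pos (c.2 : B) c.2.2) ?_).flip
  rw [Proj.opensRange_awayι, Proj.opensRange_awayι, Proj.map_preimage_basicOpen]

end pushout

end GrothLib.RelCone8
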