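import Groth.Agent.Lib.RelCone8.QMap
import Groth.Agent.Lib.RelCone8.Functorial

/-!
# Graded morphisms over the identity
-/

set_option autoImplicit false
set_option backward.isDefEq.respectTransparency false
set_option maxHeartbeats 400000

universe u

open CategoryTheory CategoryTheory.Limits AlgebraicGeometry TopologicalSpace Opposite HomogeneousLocalization
open scoped HomogeneousIdeal

noncomputable section

namespace GrothLib.RelCone8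

section graded

variable {A B σ τ : Type u} [CommRing A] [SetLike σ A] [AddSubgroupClass σ A] {𝒜 : ℕ → σ} [GradedRing 𝒜]
  [CommRing B] [SetLike τ B] [AddSubgroupClass τ B] {ℬ : ℕ → τ} [GradedRing ℬ] (φ : 𝒜 →+*ᵍ ℬ)

theorem property_domMap (Pr : MorphismProperty Scheme.{u}) [IsZariskiLocalAtTarget Pr]
    (h : ∀ (d : ℕ) (f : A), 0 < d → f ∈ 𝒜 d → Pr (Spec.map (CommRingCat.ofHom (Away.map φ f)))) : Pr (domMap φ) :=
  property_of_isPullback Pr (ι := (n : ℕ+) × 𝒜 n) (fun j => Proj.awayι 𝒜 (j.2 : A) j.2.2 j.1.pos)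
    (fun x => let ⟨j, y, hy⟩ := (Proj.affineOpenCover 𝒜).openCover.exists_eq x; ⟨j, y, hy⟩) _ _
    (fun j => isPullback_domChart φ (j.2 : A) j.1.pos j.2.2) fun j => h j.1 _ j.1.pos j.2.2

theorem domOpen_congr {ψ : 𝒜 →+*ᵍ ℬ} (h : ∀ a, φ a = ψ a) : RelCone.domOpen φ = RelCone.domOpen ψ := by
  rw [GradedRingHom.ext h]

theorem domOpen_eq_top_of_eventually {n : ℕ}
    (h : ∀ k, n ≤ k → ∀ y ∈ ℬ k, ∃ x ∈ 𝒜 k, φ x = y) : RelCone.domOpen φ = ⊤ := by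
  rw [domOpen_eq_top_iff]
  intro p hp hA
  rw [HomogeneousIdeal.toIdeal_irrelevant_le]
  intro k hk b hb
  obtain ⟨x, hx, hxb⟩ := h ((n + 1) * k) (Nat.le_trans (Nat.le_succ n) (Nat.le_mul_of_pos_right _ hk))
    (b ^ (n + 1)) ((smul_eq_mul (n + 1) k) ▸ SetLike.pow_mem_graded (n + 1) hb)
  refine hp.mem_of_pow_mem (n + 1) ?_
  rw [← hxb]
  exact hA (HomogeneousIdeal.mem_irrelevant_of_mem 𝒜 (Nat.mul_pos n.succ_pos hk) hx)

theorem away_map_surjective_of_eventually {n : ℕ}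
    (h : ∀ k, n ≤ k → ∀ y ∈ ℬ k, ∃ x ∈ 𝒜 k, φ x = y) {d : ℕ} (f : A) (hd : 0 < d) (hf : f ∈ 𝒜 d) :
    Function.Surjective (Away.map φ f) := by
  intro y
  obtain ⟨k, b, hb, rfl⟩ := Away.mk_surjective ℬ (gmem φ hf) y
  have hmem : b * φ f ^ n ∈ ℬ ((k + n) • d) := by
    rw [add_smul]; exact SetLike.mul_mem_graded hb (SetLike.pow_mem_graded n (gmem φ hf))
  obtain ⟨x, hx, hxb⟩ := h ((k + n) • d) (by
    rw [smul_eq_mul]; exact Nat.le_trans (Nat.le_add_left n k) (Nat.le_mul_of_pos_right _ hd)) _ hmem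
  refine ⟨Away.mk 𝒜 hf (k + n) x hx, ?_⟩
  rw [Away.map_mk φ f hf]
  apply val_injective
  rw [Away.val_mk, Away.val_mk, Localization.mk_eq_mk_iff, Localization.r_iff_exists]
  refine ⟨1, ?_⟩
  simp only [Submonoid.coe_one, one_mul]
  rw [hxb]
  ring

theorem away_map_injective_of_eventually {n : ℕ}
    (h : ∀ k, n ≤ k → ∀ x ∈ 𝒜 k, φ x = 0 → x = 0) {d : ℕ} (f : A) (hd : 0 < d) (hf : f ∈ 𝒜 d) :
    Function.Injective (Away.map φ f) := by
  rw [injective_iff_map_eq_zero]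
  intro y hy
  obtain ⟨k, a, ha, rfl⟩ := Away.mk_surjective 𝒜 hf y
  rw [Away.map_mk φ f hf] at hy
  apply val_injective
  have h0 := congrArg HomogeneousLocalization.val hy
  rw [Away.val_mk, HomogeneousLocalization.val_zero, Localization.mk_eq_mk',
    IsLocalization.mk'_eq_zero_iff] at h0 ⊢
  obtain ⟨⟨_, m, rfl⟩, hm⟩ := h0
  refine ⟨⟨f ^ (m + n), m + n, rfl⟩, ?_⟩
  have hm' : φ f ^ m * φ a = 0 := hm
  refine h ((m + n) • d + k • d) ?_ _ (SetLike.mul_mem_graded (SetLike.pow_mem_graded _ hf) ha) ?_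
  · exact Nat.le_trans (Nat.le_trans (Nat.le_add_left n m) (Nat.le_mul_of_pos_right _ hd)) (Nat.le_add_right _ _)
  · rw [map_mul, map_pow, pow_add, mul_assoc, mul_comm (φ f ^ n), ← mul_assoc, hm', zero_mul]

end graded

variable {Y : Scheme.{u}} {𝒜 ℬ : RelProj.QCGrAlg Y} (φ : 𝒜.toQCAlg ⟶ ℬ.toQCAlg) (hφ : RelProj.IsGradedHom φ)

/-- The pair of an affine open with itself. -/
abbrev pairSelf (U : Y.AffineZariskiSite) : Pair (𝟙 Y) := ⟨U, U, le_rfl⟩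

theorem gu_ofHom_self (U : Y.AffineZariskiSite) (a : 𝒜.presheaf.obj (op U.1)) :
    gu (RelProj.QGrHom.ofHom φ hφ) (pairSelf U) a = RelProj.gradedHomAt φ hφ U.1 U.2 a := by
  show (ℬ.presheaf.map _).hom ((φ.hom.app (op U.1)).hom a) = (φ.hom.app (op U.1)).hom a
  rw [show (homOfLE (pairSelf U).le).op = 𝟙 (op U.1) from rfl, ℬ.presheaf.map_id]
  rfl

theorem domOpen_ofHom_self (U : Y.AffineZariskiSite) :
    RelCone.domOpen (gu (RelProj.QGrHom.ofHom φ hφ) (pairSelf U)) =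
      RelCone.domOpen (RelProj.gradedHomAt φ hφ U.1 U.2) :=
  domOpen_congr _ (gu_ofHom_self φ hφ U)

variable {PA PB : Scheme.{u}} {pA : PA ⟶ Y}
  {chartA : ∀ (U : Y.Opens) (hU : IsAffineOpen U), (((pA ⁻¹ᵁ U : PA.Opens) : Scheme.{u}) ≅ Proj (𝒜.deg U hU))}
  (hA : RelProj.IsRelProj 𝒜 pA chartA) {pB : PB ⟶ Y}
  {chartB : ∀ (U : Y.Opens) (hU : IsAffineOpen U), (((pB ⁻¹ᵁ U : PB.Opens) : Scheme.{u}) ≅ Proj (ℬ.deg U hU))}
  (hB : RelProj.IsRelProj ℬ pB chartB)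

include hB in
theorem Gu_eq_top_of_cover (h : ∀ y : Y, ∃ U : Y.AffineZariskiSite, y ∈ U.1 ∧
    RelCone.domOpen (RelProj.gradedHomAt φ hφ U.1 U.2) = ⊤) :
    Gu (RelProj.QGrHom.ofHom φ hφ) pB chartB = ⊤ := by
  refine top_le_iff.1 fun x _ => ?_
  obtain ⟨U, hU, hdom⟩ := h (pB x)
  obtain ⟨y, rfl⟩ := (RelProjK.mem_opensRange_em (chart := chartB) U).2 hU
  refine (emb_mem_Gu_iff (RelProj.QGrHom.ofHom φ hφ) hB (pairSelf U) y).2 ?_
  rw [domOpen_ofHom_self, hdom]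
  trivial

include hA hB in
theorem property_isQ (Pr : MorphismProperty Scheme.{u}) [IsZariskiLocalAtTarget Pr]
    {v : (Gu (RelProj.QGrHom.ofHom φ hφ) pB chartB : Scheme.{u}) ⟶ PA}
    (hv : IsQ (RelProj.QGrHom.ofHom φ hφ) (chart := chartA) v)
    (h : ∀ (U : Y.AffineZariskiSite) (d : ℕ) (f : 𝒜.presheaf.obj (op U.1)), 0 < d → f ∈ 𝒜.deg U.1 U.2 d →
      Pr (Spec.map (CommRingCat.ofHom (Away.map (gu (RelProj.QGrHom.ofHom φ hφ) (pairSelf U)) f)))) : Pr v :=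
  property_of_isPullback Pr (fun U : Y.AffineZariskiSite => RelProj.emb pA chartA U.1 U.2)
    (fun x => let ⟨U, y, hy⟩ := exists_emb (chart := chartA) x; ⟨U, y, hy⟩)
    (fun U => domMap (gu (RelProj.QGrHom.ofHom φ hφ) (pairSelf U)))
    (fun U => qEmb (RelProj.QGrHom.ofHom φ hφ) pB chartB (pairSelf U))
    (fun U => isPullback_qEmb (RelProj.QGrHom.ofHom φ hφ) hB hA hv U U.2)
    fun U => property_domMap _ Pr (h U)

include hB in
theorem Gu_inf_eq (U : Y.AffineZariskiSite) :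
    Gu (RelProj.QGrHom.ofHom φ hφ) pB chartB ⊓ pB ⁻¹ᵁ U.1 =
      (RelProj.emb pB chartB U.1 U.2) ''ᵁ RelCone.domOpen (RelProj.gradedHomAt φ hφ U.1 U.2) := by
  rw [← domOpen_ofHom_self]
  ext x
  constructor
  · rintro ⟨hx, hU⟩
    obtain ⟨y, rfl⟩ := (RelProjK.mem_opensRange_em (chart := chartB) U).2 hU
    exact ⟨y, (emb_mem_Gu_iff (RelProj.QGrHom.ofHom φ hφ) hB (pairSelf U) y).1 hx, rfl⟩
  · rintro ⟨y, hy, rfl⟩
    exact ⟨(emb_mem_Gu_iff (RelProj.QGrHom.ofHom φ hφ) hB (pairSelf U) y).2 hy,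
      (RelProjK.mem_opensRange_em (chart := chartB) U).1 ⟨y, rfl⟩⟩

include hB in
theorem eventually_top {n : ℕ} (h : ∀ (U : Y.AffineZariskiSite) (k : ℕ), n ≤ k → ∀ y ∈ ℬ.deg U.1 U.2 k,
    ∃ x ∈ 𝒜.deg U.1 U.2 k, (φ.hom.app (op U.1)).hom x = y) :
    Gu (RelProj.QGrHom.ofHom φ hφ) pB chartB = ⊤ := by
  refine Gu_eq_top_of_cover φ hφ hB fun y => ?_
  obtain ⟨U, hU, hx, -⟩ := exists_isAffineOpen_mem_and_subset (x := y) (U := ⊤) trivial
  exact ⟨⟨U, hU⟩, hx, domOpen_eq_top_of_eventually _ (h ⟨U, hU⟩)⟩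

include hA hB in
theorem property_projQMap (Pr : MorphismProperty Scheme.{u}) [IsZariskiLocalAtTarget Pr] {h : PB ⟶ PA}
    (hh : RelProj.IsProjQMap (RelProj.QGrHom.ofHom φ hφ) pA chartA pB chartB h)
    (H : ∀ (U : Y.AffineZariskiSite) (d : ℕ) (f : 𝒜.presheaf.obj (op U.1)), 0 < d → f ∈ 𝒜.deg U.1 U.2 d →
      Pr (Spec.map (CommRingCat.ofHom (Away.map (gu (RelProj.QGrHom.ofHom φ hφ) (pairSelf U)) f)))) : Pr h := by
  obtain ⟨htop, hv⟩ := (isProjQMap_iff _ chartB chartA h).1 hh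
  have hv' := property_isQ φ hφ hA hB Pr hv H
  haveI : IsIso (Gu (RelProj.QGrHom.ofHom φ hφ) pB chartB).ι := by
    rw [← topIso_hom (RelProj.QGrHom.ofHom φ hφ) chartB htop]; infer_instance
  exact (Pr.cancel_left_of_respectsIso _ h).1 hv'

end GrothLib.RelCone8
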