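import Groth.Agent.Lib.RelCone8.BaseChange
import Groth.Agent.Lib.RelCone8.QMapId

/-!
# Base change of a relative `Proj`
-/

set_option autoImplicit false
set_option backward.isDefEq.respectTransparency false
set_option maxHeartbeats 400000

universe u

open CategoryTheory CategoryTheory.Limits AlgebraicGeometry TopologicalSpace Opposite HomogeneousLocalization
open scoped HomogeneousIdeal

noncomputable section

namespace GrothLib.RelCone8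

section single

variable {Y P : Scheme.{u}} {𝒮 : RelProj.QCGrAlg Y} {p : P ⟶ Y}
  {chart : ∀ (U : Y.Opens) (hU : IsAffineOpen U), (((p ⁻¹ᵁ U : P.Opens) : Scheme.{u}) ≅ Proj (𝒮.deg U hU))}

theorem isPullback_emb (hP : RelProj.IsRelProj 𝒮 p chart) (U : Y.Opens) (hU : IsAffineOpen U) :
    IsPullback (RelProj.emb p chart U hU) (Proj.toSpecZero (𝒮.deg U hU) ≫ Spec.map (𝒮.strZero U hU)) p
      hU.fromSpec := by
  refine (IsOpenImmersion.isPullback _ _ _ _ ((emb_comp hP U hU).trans (Category.assoc _ _ _).symm) ?_).flip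
  rw [opensRange_emb', hU.opensRange_fromSpec]

end single

variable {Y Y' : Scheme.{u}} {g : Y' ⟶ Y} {𝒮 : RelProj.QCGrAlg Y} {𝒮' : RelProj.QCGrAlg Y'}
  {P P' : Scheme.{u}} {p : P ⟶ Y}
  {chart : ∀ (U : Y.Opens) (hU : IsAffineOpen U), (((p ⁻¹ᵁ U : P.Opens) : Scheme.{u}) ≅ Proj (𝒮.deg U hU))}
  {p' : P' ⟶ Y'}
  {chart' : ∀ (U : Y'.Opens) (hU : IsAffineOpen U), (((p' ⁻¹ᵁ U : P'.Opens) : Scheme.{u}) ≅ Proj (𝒮'.deg U hU))}

theorem isPullback_of_charts (hP : RelProj.IsRelProj 𝒮 p chart) (hP' : RelProj.IsRelProj 𝒮' p' chart') (h : P' ⟶ P)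
    (φ : ∀ i : Pair g, 𝒮.deg i.U.1 i.U.2 →+*ᵍ 𝒮'.deg i.U'.1 i.U'.2)
    (hirr : ∀ i : Pair g, (𝒮'.deg i.U'.1 i.U'.2)₊ ≤ ((𝒮.deg i.U.1 i.U.2)₊).map (φ i))
    (φc : ∀ i : Pair g, 𝒮.presheaf.obj (op i.U.1) ⟶ 𝒮'.presheaf.obj (op i.U'.1))
    (hφc : ∀ (i : Pair g) b, (φc i).hom b = φ i b)
    (hpo : ∀ i : Pair g, IsPushout (g.appLE i.U.1 i.U'.1 i.le) (𝒮.str.app (op i.U.1)) (𝒮'.str.app (op i.U'.1)) (φc i))
    (heq : ∀ i : Pair g, RelProj.emb p' chart' i.U'.1 i.U'.2 ≫ h =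
      Proj.map (φ i) (hirr i) ≫ RelProj.emb p chart i.U.1 i.U.2) :
    IsPullback h p' p g := by
  have hloc : ∀ i : Pair g, IsPullback (RelProj.emb p' chart' i.U'.1 i.U'.2 ≫ h)
      (Proj.toSpecZero (𝒮'.deg i.U'.1 i.U'.2) ≫ Spec.map (𝒮'.strZero i.U'.1 i.U'.2)) p (i.U'.2.fromSpec ≫ g) := by
    intro i
    rw [heq i, ← IsAffineOpen.SpecMap_appLE_fromSpec g i.U.2 i.U'.2 i.le]
    exact (isPullback_proj_map (𝒮.deg i.U.1 i.U.2) (𝒮'.deg i.U'.1 i.U'.2) (φ i) (g.appLE i.U.1 i.U'.1 i.le).hom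
      (𝒮.strZero i.U.1 i.U.2).hom (𝒮'.strZero i.U'.1 i.U'.2).hom (fun _ => rfl) (fun _ => rfl) (hφc i)
      (hpo i) (hirr i)).paste_horiz (isPullback_emb hP i.U.1 i.U.2)
  have w : h ≫ p = p' ≫ g := by
    let 𝒱 : P'.OpenCover := Scheme.Cover.mkOfCovers (Pair g) _ (fun i => RelProj.emb p' chart' i.U'.1 i.U'.2)
      (fun x => by
        obtain ⟨i, hi⟩ := exists_pair (g := g) (p' x)
        have hm : x ∈ (RelProj.emb p' chart' i.U'.1 i.U'.2).opensRange := by rw [opensRange_emb']; exact hi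
        exact ⟨i, hm⟩) inferInstance
    refine 𝒱.hom_ext _ _ fun (i : Pair g) => ?_
    show RelProj.emb p' chart' i.U'.1 i.U'.2 ≫ h ≫ p = RelProj.emb p' chart' i.U'.1 i.U'.2 ≫ p' ≫ g
    rw [← Category.assoc, (hloc i).w, reassoc_of% (emb_comp hP' i.U'.1 i.U'.2), Category.assoc]
  refine Pushout6.isPullback_of_cover w (Scheme.Cover.mkOfCovers (Pair g) _ (fun i : Pair g => i.U'.2.fromSpec)
    (fun y => by
      obtain ⟨i, hi⟩ := exists_pair (g := g) y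
      have hm : y ∈ i.U'.2.fromSpec.opensRange := by rw [i.U'.2.opensRange_fromSpec]; exact hi
      exact ⟨i, hm⟩) inferInstance) fun (i : Pair g) => ?_
  exact ⟨_, RelProj.emb p' chart' i.U'.1 i.U'.2, _, isPullback_emb hP' i.U'.1 i.U'.2, hloc i⟩

section qmap

variable (u : RelProj.QGrHom g 𝒮 𝒮') (hu : RelSpec.IsQBaseChange u.toQHom)

include hu in
theorem gu_irrelevant (i : Pair g) : (𝒮'.deg i.U'.1 i.U'.2)₊ ≤ ((𝒮.deg i.U.1 i.U.2)₊).map (gu u i) :=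
  irrelevant_le_map_of_isPushout (𝒮.deg i.U.1 i.U.2) (𝒮'.deg i.U'.1 i.U'.2) (gu u i) (g.appLE i.U.1 i.U'.1 i.le).hom
    (𝒮.strZero i.U.1 i.U.2).hom (𝒮'.strZero i.U'.1 i.U'.2).hom (fun _ => rfl) (fun _ => rfl) (fun _ => rfl)
    (hu i.U.1 i.U.2 i.U'.1 i.U'.2 i.le)

include hu in
theorem gu_domOpen_top (i : Pair g) : RelCone.domOpen (gu u i) = ⊤ :=
  domOpen_eq_top_of_isPushout (𝒮.deg i.U.1 i.U.2) (𝒮'.deg i.U'.1 i.U'.2) (gu u i) (g.appLE i.U.1 i.U'.1 i.le).hom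
    (𝒮.strZero i.U.1 i.U.2).hom (𝒮'.strZero i.U'.1 i.U'.2).hom (fun _ => rfl) (fun _ => rfl) (fun _ => rfl)
    (hu i.U.1 i.U.2 i.U'.1 i.U'.2 i.le)

include hu in
theorem exists_projQMap_of_baseChange (hP : RelProj.IsRelProj 𝒮 p chart) (hP' : RelProj.IsRelProj 𝒮' p' chart') :
    ∃ h : P' ⟶ P, RelProj.IsProjQMap u p chart p' chart' h := by
  have htop : Gu u p' chart' = ⊤ := (Gu_eq_top_iff u hP').2 (gu_domOpen_top u hu)
  obtain ⟨v, hv, -⟩ := existsUnique_isQ u hP' hP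
  refine ⟨(topIso u chart' htop).inv ≫ v, (isProjQMap_iff u chart' chart _).2 ⟨htop, ?_⟩⟩
  rw [← topIso_hom u chart' htop, Iso.hom_inv_id_assoc]
  exact hv

include hu in
theorem isPullback_projQMap (hP : RelProj.IsRelProj 𝒮 p chart) (hP' : RelProj.IsRelProj 𝒮' p' chart') {h : P' ⟶ P}
    (hh : RelProj.IsProjQMap u p chart p' chart' h) : IsPullback h p' p g := by
  refine isPullback_of_charts hP hP' h (gu u) (gu_irrelevant u hu)
    (fun i => u.toQHom.appLE i.U.1 i.U'.1 i.le) (fun _ _ => rfl) (fun i => hu i.U.1 i.U.2 i.U'.1 i.U'.2 i.le)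
    fun i => ?_
  refine (Proj.mapAffineOpenCover (gu u i) (gu_irrelevant u hu i)).openCover.hom_ext _ _ fun s => ?_
  let j : (n : ℕ+) × 𝒮.deg i.U.1 i.U.2 n := s
  change Proj.awayι (𝒮'.deg i.U'.1 i.U'.2) (gu u i (j.2 : 𝒮.presheaf.obj (op i.U.1))) (gmem (gu u i) j.2.2) j.1.pos ≫ _ =
    Proj.awayι (𝒮'.deg i.U'.1 i.U'.2) (gu u i (j.2 : 𝒮.presheaf.obj (op i.U.1))) (gmem (gu u i) j.2.2) j.1.pos ≫ _
  rw [reassoc_of% (Proj.awayι_comp_map (gu u i) (gu_irrelevant u hu i) j.1.pos (j.2 : 𝒮.presheaf.obj (op i.U.1)) j.2.2),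
    ← Category.assoc]
  exact hh.2 i.U.1 i.U.2 i.U'.1 i.U'.2 i.le j.1 j.1.pos _ j.2.2

end qmap

end GrothLib.RelCone8
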