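import Groth.Agent.Lib.RelCone8.Retraction

/-!
# The retraction of the pointed affine cone over a general base
-/

set_option autoImplicit false
set_option backward.isDefEq.respectTransparency false
set_option maxHeartbeats 400000

universe u

open CategoryTheory CategoryTheory.Limits AlgebraicGeometry TopologicalSpace Opposite HomogeneousLocalization
open scoped HomogeneousIdeal

noncomputable section

namespace GrothLib.RelCone8

variable {Y : Scheme.{u}} (𝒮 : RelProj.QCGrAlg Y)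

theorem range_coneChart_subset (j : ChartIdx 𝒮) :
    Set.range (Spec.map (CommRingCat.ofHom (algebraMap (𝒮.presheaf.obj (op j.1.1))
        (Localization.Away (j.2.2 : 𝒮.presheaf.obj (op j.1.1))))) ≫ 𝒮.toQCAlg.ι j.1.1 j.1.2).base ⊆
      Set.range (RelCone.pointedCone 𝒮).ι.base := by
  rw [Scheme.Opens.range_ι]
  rintro _ ⟨y, rfl⟩
  refine (ι_mem_pointedCone_iff 𝒮 j.1.1 j.1.2 _).2 fun h => ?_
  exact (PrimeSpectrum.localization_away_comap_range (Localization.Away (j.2.2 : 𝒮.presheaf.obj (op j.1.1))) _).le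
    ⟨y, rfl⟩ (h (HomogeneousIdeal.mem_irrelevant_of_mem _ j.2.1.pos j.2.2.2))

/-- The standard chart of the pointed affine cone. -/
def coneChart (j : ChartIdx 𝒮) :
    Spec (CommRingCat.of (Localization.Away (j.2.2 : 𝒮.presheaf.obj (op j.1.1)))) ⟶
      ((RelCone.pointedCone 𝒮 : 𝒮.toQCAlg.spec.Opens) : Scheme.{u}) :=
  IsOpenImmersion.lift (RelCone.pointedCone 𝒮).ι _ (range_coneChart_subset 𝒮 j)

@[reassoc]
theorem coneChart_ι (j : ChartIdx 𝒮) : coneChart 𝒮 j ≫ (RelCone.pointedCone 𝒮).ι =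
    Spec.map (CommRingCat.ofHom (algebraMap (𝒮.presheaf.obj (op j.1.1))
      (Localization.Away (j.2.2 : 𝒮.presheaf.obj (op j.1.1))))) ≫ 𝒮.toQCAlg.ι j.1.1 j.1.2 :=
  IsOpenImmersion.lift_fac _ _ _

instance isOpenImmersion_coneChart (j : ChartIdx 𝒮) : IsOpenImmersion (coneChart 𝒮 j) := by
  have : IsOpenImmersion (Spec.map (CommRingCat.ofHom (algebraMap (𝒮.presheaf.obj (op j.1.1))
      (Localization.Away (j.2.2 : 𝒮.presheaf.obj (op j.1.1)))))) :=
    IsOpenImmersion.of_isLocalization (j.2.2 : 𝒮.presheaf.obj (op j.1.1))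
  have : IsOpenImmersion (coneChart 𝒮 j ≫ (RelCone.pointedCone 𝒮).ι) := by rw [coneChart_ι]; infer_instance
  exact IsOpenImmersion.of_comp _ (RelCone.pointedCone 𝒮).ι

variable {𝒮}

theorem mem_range_coneChart (U : Y.AffineZariskiSite) (n : ℕ+) (f : 𝒮.deg U.1 U.2 n)
    (x : ((RelCone.pointedCone 𝒮 : 𝒮.toQCAlg.spec.Opens) : Scheme.{u})) (y : Spec (𝒮.presheaf.obj (op U.1)))
    (hy : 𝒮.toQCAlg.ι U.1 U.2 y = (RelCone.pointedCone 𝒮).ι x) :
    x ∈ (coneChart 𝒮 ⟨U, n, f⟩).opensRange ↔ (f : 𝒮.presheaf.obj (op U.1)) ∉ y.asIdeal := by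
  constructor
  · rintro ⟨w, rfl⟩
    have h : 𝒮.toQCAlg.ι U.1 U.2 (Spec.map (CommRingCat.ofHom (algebraMap (𝒮.presheaf.obj (op U.1))
        (Localization.Away (f : 𝒮.presheaf.obj (op U.1))))) w) = (RelCone.pointedCone 𝒮).ι (coneChart 𝒮 ⟨U, n, f⟩ w) :=
      (ConcreteCategory.congr_hom (congrArg (fun t => t.base) (coneChart_ι 𝒮 ⟨U, n, f⟩)) w).symm
    rw [(𝒮.toQCAlg.ι U.1 U.2).isOpenEmbedding.injective (hy.trans h.symm)]
    exact (PrimeSpectrum.localization_away_comap_range (Localization.Away (f : 𝒮.presheaf.obj (op U.1))) _).le ⟨w, rfl⟩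
  · intro hf
    obtain ⟨w, hw⟩ := (PrimeSpectrum.localization_away_comap_range
      (Localization.Away (f : 𝒮.presheaf.obj (op U.1))) (f : 𝒮.presheaf.obj (op U.1))).ge
      (show y ∈ (PrimeSpectrum.basicOpen (f : 𝒮.presheaf.obj (op U.1)) : Set (PrimeSpectrum _)) from hf)
    refine ⟨w, (RelCone.pointedCone 𝒮).ι.isOpenEmbedding.injective ?_⟩
    show (coneChart 𝒮 ⟨U, n, f⟩ ≫ (RelCone.pointedCone 𝒮).ι) w = _
    rw [coneChart_ι, ← hy]
    exact congrArg (𝒮.toQCAlg.ι U.1 U.2) hw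

variable {𝒮h : RelProj.QCGrAlg Y} {ι : 𝒮.toQCAlg ⟶ 𝒮h.toQCAlg} {z : 𝒮h.presheaf.obj (op ⊤)}
  (hz : RelCone.IsPolyOver 𝒮 𝒮h ι z) {PC : Scheme.{u}} {pC : PC ⟶ Y}
  {chartC : ∀ (U : Y.Opens) (hU : IsAffineOpen U), (((pC ⁻¹ᵁ U : PC.Opens) : Scheme.{u}) ≅ Proj (𝒮h.deg U hU))}
  (hPC : RelProj.IsRelProj 𝒮h pC chartC) {i : 𝒮.toQCAlg.spec ⟶ PC} (hi : RelCone.IsConeImm 𝒮 hz pC chartC i)

include hPC hi in
theorem pointedCone_le : RelCone.pointedCone 𝒮 ≤ i ⁻¹ᵁ Ehat hz pC chartC :=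
  fun x hx => (imm_mem_pointedProjCone_iff hz hPC hi x).2 hx

/-- `A[z] → A_f`, `z ↦ 1`. -/
abbrev evalLoc (U : Y.AffineZariskiSite) (f : 𝒮.presheaf.obj (op U.1)) :
    𝒮h.presheaf.obj (op U.1) →+* Localization.Away f :=
  (algebraMap (𝒮.presheaf.obj (op U.1)) (Localization.Away f)).comp (hz.evalOne U.1 U.2)

theorem evalLoc_gh (U : Y.AffineZariskiSite) (f a : 𝒮.presheaf.obj (op U.1)) :
    evalLoc hz U f (gh hz U a) = algebraMap _ (Localization.Away f) a :=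
  congrArg (algebraMap _ _) (hz.evalOne_ι U.1 U.2 a)

theorem isUnit_evalLoc_z (U : Y.AffineZariskiSite) (f : 𝒮.presheaf.obj (op U.1)) :
    IsUnit (evalLoc hz U f (zAt z U)) := (isUnit_evalOne_z hz U).map (algebraMap (𝒮.presheaf.obj (op U.1)) (Localization.Away f))

theorem isUnit_evalLoc_self (U : Y.AffineZariskiSite) (f : 𝒮.presheaf.obj (op U.1)) :
    IsUnit (evalLoc hz U f (gh hz U f)) := by
  rw [evalLoc_gh]; exact IsLocalization.Away.algebraMap_isUnit f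

/-- `A[z]_(f) → A_f`. -/
abbrev toLoc (U : Y.AffineZariskiSite) (f : 𝒮.presheaf.obj (op U.1)) :
    Away (𝒮h.deg U.1 U.2) (gh hz U f) →+* Localization.Away f :=
  ProjPt.evalAway (𝒮h.deg U.1 U.2) (evalLoc hz U f) (gh hz U f) (isUnit_evalLoc_self hz U f)

theorem toLoc_comp (U : Y.AffineZariskiSite) {d : ℕ} (f : 𝒮.presheaf.obj (op U.1)) (hf : f ∈ 𝒮.deg U.1 U.2 d) :
    (toLoc hz U f).comp (Away.map (gh hz U) f) =
      algebraMap (Away (𝒮.deg U.1 U.2) f) (Localization.Away f) := by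
  refine RingHom.ext fun y => ?_
  obtain ⟨k, a, ha, rfl⟩ := Away.mk_surjective (𝒮.deg U.1 U.2) hf y
  refine ((isUnit_evalLoc_self hz U f).pow k).mul_left_injective ?_
  dsimp only
  rw [RingHom.comp_apply, Away.map_mk (gh hz U) f hf,
    ProjPt.evalAway_mk_spec (𝒮h.deg U.1 U.2) (evalLoc hz U f) (gmem (gh hz U) hf), evalLoc_gh, evalLoc_gh,
    HomogeneousLocalization.algebraMap_apply, Away.val_mk, Localization.mk_eq_mk', ← map_pow]
  exact (IsLocalization.mk'_spec _ a (⟨f ^ k, pow_mem (Submonoid.mem_powers f) k⟩ : Submonoid.powers f)).symm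

variable (i' : ((RelCone.pointedCone 𝒮 : 𝒮.toQCAlg.spec.Opens) : Scheme.{u}) ⟶ (Ehat hz pC chartC : Scheme.{u}))
  (hi' : i' ≫ (Ehat hz pC chartC).ι = (RelCone.pointedCone 𝒮).ι ≫ i)

theorem SpecMap_algebraMap_immAt (U : Y.AffineZariskiSite) {d : ℕ} (hd : 0 < d) (f : 𝒮.presheaf.obj (op U.1))
    (hf : f ∈ 𝒮.deg U.1 U.2 d) :
    Spec.map (CommRingCat.ofHom (algebraMap (𝒮.presheaf.obj (op U.1)) (Localization.Away f))) ≫ immAt hz U =
      Spec.map (CommRingCat.ofHom (toLoc hz U f)) ≫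
        Proj.awayι (𝒮h.deg U.1 U.2) (gh hz U f) (gmem (gh hz U) hf) hd := by
  show Spec.map (CommRingCat.ofHom (algebraMap (𝒮.presheaf.obj (op U.1)) (Localization.Away f))) ≫
    Spec.map (CommRingCat.ofHom (ProjPt.evalAway (𝒮h.deg U.1 U.2) (hz.evalOne U.1 U.2) (zAt z U)
      (isUnit_evalOne_z hz U))) ≫ Proj.awayι (𝒮h.deg U.1 U.2) (zAt z U) (zAt_mem hz U) one_pos = _
  rw [← Spec.map_comp_assoc, ← CommRingCat.ofHom_comp,
    ProjPt.comp_evalAway (𝒮h.deg U.1 U.2) _ _ (zAt_mem hz U)]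
  exact SpecMap_evalAway_eq (evalLoc hz U f) (zAt_mem hz U) one_pos (gmem (gh hz U) hf) hd
    (isUnit_evalLoc_z hz U f) (isUnit_evalLoc_self hz U f)

include hi hi' in
theorem coneChart_inclusion (j : ChartIdx 𝒮) :
    coneChart 𝒮 j ≫ i' =
      Spec.map (CommRingCat.ofHom (toLoc hz j.1 (j.2.2 : 𝒮.presheaf.obj (op j.1.1)))) ≫
        domChart (gh hz j.1) j.2.2.2 j.2.1.pos ≫ domEmb hz hPC j.1 := by
  rw [← cancel_mono (Ehat hz pC chartC).ι, Category.assoc, hi', coneChart_ι_assoc, ι_imm hz hi j.1]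
  simp only [Category.assoc]
  rw [domEmb_ι, domChart_ι_assoc]
  exact (reassoc_of% (SpecMap_algebraMap_immAt hz j.1 j.2.1.pos (j.2.2 : 𝒮.presheaf.obj (op j.1.1)) j.2.2.2)) _

variable {P : Scheme.{u}} {p : P ⟶ Y}
  {chart : ∀ (U : Y.Opens) (hU : IsAffineOpen U), (((p ⁻¹ᵁ U : P.Opens) : Scheme.{u}) ≅ Proj (𝒮.deg U hU))}
  (hP : RelProj.IsRelProj 𝒮 p chart) {r : (Ehat hz pC chartC : Scheme.{u}) ⟶ P}
  (hr : IsRetr hz hPC (chart := chart) r)

include hi hi' hr in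
theorem coneChart_retr (j : ChartIdx 𝒮) :
    coneChart 𝒮 j ≫ i' ≫ r =
      Spec.map (CommRingCat.ofHom (algebraMap (Away (𝒮.deg j.1.1 j.1.2) (j.2.2 : 𝒮.presheaf.obj (op j.1.1)))
        (Localization.Away (j.2.2 : 𝒮.presheaf.obj (op j.1.1))))) ≫ chartAt chart j := by
  rw [reassoc_of% (coneChart_inclusion hz hPC hi i' hi' j), hr j.1, domChart_domMap_assoc, ← Spec.map_comp_assoc,
    ← CommRingCat.ofHom_comp, toLoc_comp hz j.1 _ j.2.2.2]

include hi hi' hr hP hPC in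
theorem preimage_chartAt (j : ChartIdx 𝒮) :
    (i' ≫ r) ⁻¹ᵁ (chartAt chart j).opensRange = (coneChart 𝒮 j).opensRange := by
  ext x
  obtain ⟨U, ⟨d, hd⟩, f, hf⟩ := j
  constructor
  · rintro ⟨w, hw⟩
    have hrx : i' x ∈ r ⁻¹ᵁ (chartAt chart ⟨U, ⟨d, hd⟩, f, hf⟩).opensRange := ⟨w, hw⟩
    obtain ⟨w', hw'⟩ := hrx
    obtain ⟨v, hv, -⟩ := Scheme.exists_preimage_of_isPullback
      (isPullback_chartAt hz hPC hP hr ⟨U, ⟨d, hd⟩, f, hf⟩) (i' x) w' hw'.symm
    have hU : 𝒮.toQCAlg.π ((RelCone.pointedCone 𝒮).ι x) ∈ U.1 := by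
      rw [← imm_comp hz hPC hi]
      show pC ((((RelCone.pointedCone 𝒮).ι ≫ i)) x) ∈ U.1
      rw [← hi']
      show ((Ehat hz pC chartC).ι ≫ pC) (i' x) ∈ U.1
      rw [← hv]
      have hmem : domEmb hz hPC U (domChart (gh hz U) hf hd v) ∈ (domEmb hz hPC U).opensRange := ⟨_, rfl⟩
      rw [opensRange_domEmb] at hmem
      exact hmem
    obtain ⟨y, hy⟩ := exists_ι_eq 𝒮.toQCAlg U.1 U.2 _ hU
    refine (mem_range_coneChart U ⟨d, hd⟩ ⟨f, hf⟩ x y hy).2 ?_
    have he : RelProj.emb pC chartC U.1 U.2 (immAt hz U y) =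
        RelProj.emb pC chartC U.1 U.2 (Proj.awayι (𝒮h.deg U.1 U.2) (gh hz U f) (gmem (gh hz U) hf) hd v) := by
      refine Eq.trans ?_ (ConcreteCategory.congr_hom (congrArg (fun t => t.base)
        (show (domChart (gh hz U) hf hd ≫ domEmb hz hPC U) ≫ (Ehat hz pC chartC).ι = _ by
          rw [Category.assoc, domEmb_ι, domChart_ι_assoc])) v)
      show (immAt hz U ≫ RelProj.emb pC chartC U.1 U.2) y =
        ((domChart (gh hz U) hf hd ≫ domEmb hz hPC U) ≫ (Ehat hz pC chartC).ι) v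
      rw [← ι_imm hz hi U]
      show i (𝒮.toQCAlg.ι U.1 U.2 y) = (Ehat hz pC chartC).ι ((domChart (gh hz U) hf hd ≫ domEmb hz hPC U) v)
      rw [hy, hv]
      exact (ConcreteCategory.congr_hom (congrArg (fun t => t.base) hi') x).symm
    have hmem : immAt hz U y ∈ Proj.basicOpen (𝒮h.deg U.1 U.2) (gh hz U f) := by
      rw [(RelProj.emb pC chartC U.1 U.2).isOpenEmbedding.injective he, ← Proj.opensRange_awayι (𝒮h.deg U.1 U.2) (gh hz U f) (gmem (gh hz U) hf) hd]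
      exact ⟨v, rfl⟩
    have := (evalAway_preimage_basicOpen (R := 𝒮.presheaf.obj (op U.1)) (hz.evalOne U.1 U.2) (zAt_mem hz U) one_pos
      (isUnit_evalOne_z hz U) (gmem (gh hz U) hf) hd y).1 hmem
    rwa [show hz.evalOne U.1 U.2 (gh hz U f) = f from hz.evalOne_ι U.1 U.2 f] at this
  · rintro ⟨w, rfl⟩
    exact ⟨_, (ConcreteCategory.congr_hom (congrArg (fun t => t.base)
      (coneChart_retr hz hPC hi i' hi' hr ⟨U, ⟨d, hd⟩, f, hf⟩)) w).symm⟩

include hi hi' hr hP hPC in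
theorem isPullback_coneChart (j : ChartIdx 𝒮) :
    IsPullback (coneChart 𝒮 j)
      (Spec.map (CommRingCat.ofHom (algebraMap (Away (𝒮.deg j.1.1 j.1.2) (j.2.2 : 𝒮.presheaf.obj (op j.1.1)))
        (Localization.Away (j.2.2 : 𝒮.presheaf.obj (op j.1.1))))))
      (i' ≫ r) (chartAt chart j) :=
  (IsOpenImmersion.isPullback _ _ _ _ (coneChart_retr hz hPC hi i' hi' hr j)
    (preimage_chartAt hz hPC hi i' hi' hP hr j)).flip

include hi hi' hr hP hPC in
theorem isAffineHom_cone_retr : IsAffineHom (i' ≫ r) :=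
  property_of_isPullback @IsAffineHom (chartAt chart) (exists_chartAt (chart := chart)) _ _
    (isPullback_coneChart hz hPC hi i' hi' hP hr) fun _ => inferInstance

theorem surjective_specMap_algebraMap_away {U : Y.AffineZariskiSite} {d : ℕ} (f : 𝒮.presheaf.obj (op U.1))
    (hd : 0 < d) (hf : f ∈ 𝒮.deg U.1 U.2 d) :
    Function.Surjective (Spec.map (CommRingCat.ofHom
      (algebraMap (Away (𝒮.deg U.1 U.2) f) (Localization.Away f)))).base := by
  intro w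
  set x := Proj.awayι (𝒮.deg U.1 U.2) f hf hd w with hx
  have hfx : f ∉ x.asHomogeneousIdeal.toIdeal := by
    have : x ∈ Proj.basicOpen (𝒮.deg U.1 U.2) f := by
      rw [← Proj.opensRange_awayι (𝒮.deg U.1 U.2) f hf hd]; exact ⟨w, rfl⟩
    exact this
  let q : PrimeSpectrum (𝒮.presheaf.obj (op U.1)) := ⟨x.asHomogeneousIdeal.toIdeal, x.isPrime⟩
  obtain ⟨Q, hQ⟩ := (PrimeSpectrum.localization_away_comap_range (Localization.Away f) f).ge
    (show q ∈ (PrimeSpectrum.basicOpen f : Set (PrimeSpectrum _)) from hfx)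
  refine ⟨Q, ?_⟩
  apply (Proj.awayι (𝒮.deg U.1 U.2) f hf hd).isOpenEmbedding.injective
  refine Eq.trans ?_ hx.symm.symm
  set x' := (Spec.map (CommRingCat.ofHom (algebraMap (Away (𝒮.deg U.1 U.2) f) (Localization.Away f))) ≫
    Proj.awayι (𝒮.deg U.1 U.2) f hf hd) Q with hx'
  show x' = x
  have hu : IsUnit (algebraMap (𝒮.presheaf.obj (op U.1)) (Localization.Away f) f) :=
    IsLocalization.Away.algebraMap_isUnit f
  have he : algebraMap (Away (𝒮.deg U.1 U.2) f) (Localization.Away f) =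
      ProjPt.evalAway (𝒮.deg U.1 U.2) (algebraMap _ (Localization.Away f)) f hu := by
    rw [ProjPt.evalAway]
    refine RingHom.ext fun t => ?_
    have hl : (IsLocalization.Away.lift f hu : Localization.Away f →+* Localization.Away f) = RingHom.id _ :=
      IsLocalization.ringHom_ext (Submonoid.powers f) (by rw [IsLocalization.Away.lift_comp, RingHom.id_comp])
    rw [RingHom.comp_apply, hl]
    rfl
  have hmem : ∀ {m : ℕ} {b : 𝒮.presheaf.obj (op U.1)}, 0 < m → b ∈ 𝒮.deg U.1 U.2 m →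
      (b ∉ x'.asHomogeneousIdeal.toIdeal ↔ b ∉ x.asHomogeneousIdeal.toIdeal) := by
    intro m b hm hb
    have h1 := evalAway_preimage_basicOpen (ℬ := 𝒮.deg U.1 U.2) (algebraMap _ (Localization.Away f)) hf hd hu hb hm Q
    rw [← he] at h1
    refine h1.trans (not_congr ?_)
    exact SetLike.ext_iff.1 (congrArg PrimeSpectrum.asIdeal hQ) b
  refine ProjectiveSpectrum.ext (HomogeneousIdeal.toIdeal_injective ?_)
  have hfx' : f ∉ x'.asHomogeneousIdeal.toIdeal := (hmem hd hf).2 hfx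
  classical
  ext b
  rw [Ideal.IsHomogeneous.mem_iff _ x'.asHomogeneousIdeal.isHomogeneous,
    Ideal.IsHomogeneous.mem_iff _ x.asHomogeneousIdeal.isHomogeneous]
  refine forall_congr' fun n => ?_
  have h := not_iff_not.1 (hmem (Nat.add_pos_right n hd)
    (SetLike.mul_mem_graded (SetLike.coe_mem (DirectSum.decompose (𝒮.deg U.1 U.2) b n)) hf))
  rw [x'.isPrime.mul_mem_iff_mem_or_mem, x.isPrime.mul_mem_iff_mem_or_mem] at h
  exact ⟨fun hc => (h.1 (.inl hc)).resolve_right hfx, fun hc => (h.2 (.inl hc)).resolve_right hfx'⟩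

include hi hi' hr hP hPC in
theorem surjective_cone_retr : Function.Surjective (i' ≫ r).base := by
  intro x
  obtain ⟨j, w, rfl⟩ := exists_chartAt (chart := chart) x
  obtain ⟨v, rfl⟩ := surjective_specMap_algebraMap_away (j.2.2 : 𝒮.presheaf.obj (op j.1.1)) j.2.1.pos j.2.2.2 w
  exact ⟨coneChart 𝒮 j v,
    ConcreteCategory.congr_hom (congrArg (fun t => t.base) (coneChart_retr hz hPC hi i' hi' hr j)) v⟩

end GrothLib.RelCone8
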