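import Groth.Agent.Lib.RelCone8.QMapId
import Groth.Agent.Lib.RelCone8.Pointed

/-!
# Functoriality of the projective cone
-/

set_option autoImplicit false
set_option backward.isDefEq.respectTransparency false
set_option maxHeartbeats 400000

universe u

open CategoryTheory CategoryTheory.Limits AlgebraicGeometry TopologicalSpace Opposite HomogeneousLocalization
open scoped HomogeneousIdeal

noncomputable section

namespace GrothLib.RelCone8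

section graded

variable {A B σ τ : Type u} [CommRing A] [SetLike σ A] [AddSubgroupClass σ A] {𝒜 : ℕ → σ} [GradedRing 𝒜]
  [CommRing B] [SetLike τ B] [AddSubgroupClass τ B] {ℬ : ℕ → τ} [GradedRing ℬ] (φ : 𝒜 →+*ᵍ ℬ)

theorem domMap_mem_basicOpen (y : (RelCone.domOpen φ : Scheme.{u})) {e : ℕ} {g : A} (hg : g ∈ 𝒜 e) (he : 0 < e) :
    domMap φ y ∈ Proj.basicOpen 𝒜 g ↔ (y.1 : Proj ℬ) ∈ Proj.basicOpen ℬ (φ g) := by
  show y ∈ domMap φ ⁻¹ᵁ Proj.basicOpen 𝒜 g ↔ _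
  rw [domMap_preimage_basicOpen φ g he hg]
  rfl

variable (𝒜) in
/-- The change of name of the denominator. -/
abbrev castAway {x y : A} (e : x = y) : Away 𝒜 y →+* Away 𝒜 x :=
  awayMap 𝒜 (SetLike.one_mem_graded 𝒜) (show x = y * 1 by rw [mul_one, e])

theorem castAway_val {x y : A} (e : x = y) {d : ℕ} (hy : y ∈ 𝒜 d) (n : ℕ) (a : A) (ha : a ∈ 𝒜 (n • d)) :
    (castAway 𝒜 e (Away.mk 𝒜 hy n a ha)).val =
      Localization.mk a ⟨x ^ n, pow_mem (Submonoid.mem_powers x) n⟩ := by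
  subst e
  simp only [castAway, awayMap_mk, Away.val_mk, one_pow, mul_one]

@[reassoc]
theorem castAway_awayι {x y : A} (e : x = y) {d : ℕ} (hx : x ∈ 𝒜 d) (hy : y ∈ 𝒜 d) (hd : 0 < d) :
    Spec.map (CommRingCat.ofHom (castAway 𝒜 e)) ≫ Proj.awayι 𝒜 y hy hd = Proj.awayι 𝒜 x hx hd := by
  subst e
  exact awayι_of_eq rfl hy hd

theorem specMap_domChart_domMap {d : ℕ} (f : A) (hd : 0 < d) (hf : f ∈ 𝒜 d) {K : CommRingCat.{u}}
    (χ : CommRingCat.of (Away ℬ (φ f)) ⟶ K) {Z : Scheme.{u}} (e : Proj 𝒜 ⟶ Z) :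
    Spec.map χ ≫ domChart φ hf hd ≫ domMap φ ≫ e =
      Spec.map (CommRingCat.ofHom (Away.map φ f) ≫ χ) ≫ Proj.awayι 𝒜 f hf hd ≫ e := by
  rw [domChart_domMap_assoc φ f hd hf, Spec.map_comp_assoc]

theorem castAway_comp_map {d : ℕ} {f : A} (hf : f ∈ 𝒜 d) {x : B} (e : x = φ f) (y : Away 𝒜 f) (n : ℕ) (a : A)
    (ha : a ∈ 𝒜 (n • d)) (hy : y = Away.mk 𝒜 hf n a ha) :
    (castAway ℬ e (Away.map φ f y)).val = Localization.mk (φ a) ⟨x ^ n, pow_mem (Submonoid.mem_powers x) n⟩ := by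
  subst hy
  rw [Away.map_mk φ f hf]
  exact castAway_val e (gmem φ hf) _ _ _

theorem away_square {B' C τ' υ : Type u} [CommRing B'] [SetLike τ' B'] [AddSubgroupClass τ' B'] {ℬ' : ℕ → τ'}
    [GradedRing ℬ'] [CommRing C] [SetLike υ C] [AddSubgroupClass υ C] {𝒞 : ℕ → υ} [GradedRing 𝒞]
    (χ : ℬ →+*ᵍ 𝒞) (ψ : 𝒜 →+*ᵍ ℬ') (χ' : ℬ' →+*ᵍ 𝒞) (hsq : ∀ a, χ (φ a) = χ' (ψ a)) {d : ℕ} {f : A}
    (hf : f ∈ 𝒜 d) (e : χ' (ψ f) = χ (φ f)) :
    (castAway 𝒞 e).comp ((Away.map χ (φ f)).comp (Away.map φ f)) = (Away.map χ' (ψ f)).comp (Away.map ψ f) := by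
  refine RingHom.ext fun y => HomogeneousLocalization.val_injective _ ?_
  obtain ⟨m, x, hx, rfl⟩ := Away.mk_surjective 𝒜 hf y
  simp only [RingHom.comp_apply, Away.map_mk φ f hf, Away.map_mk ψ f hf, Away.map_mk χ' (ψ f) (gmem ψ hf),
    Away.val_mk]
  rw [castAway_comp_map χ (gmem φ hf) e _ _ _ _ rfl, hsq]

end graded

/-- Morphisms agree if they agree on the preimages of a family of open immersions. -/
theorem hom_ext_of_preimages {T X Z : Scheme.{u}} (a : T ⟶ X) {κ : Type u} {K : κ → Scheme.{u}} (k : ∀ i, K i ⟶ X)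
    [∀ i, IsOpenImmersion (k i)] (hcov : ∀ t, ∃ i, a t ∈ Set.range (k i).base) {g g' : T ⟶ Z}
    (h : ∀ (i : κ) (Q : Scheme.{u}) (t : Q ⟶ T) (l : Q ⟶ K i), t ≫ a = l ≫ k i → t ≫ g = t ≫ g') : g = g' := by
  let 𝒰 : T.OpenCover := Scheme.Cover.mkOfCovers κ _ (fun i => pullback.fst a (k i))
    (fun t => by
      obtain ⟨i, w, hw⟩ := hcov t
      obtain ⟨q, hq, -⟩ := Scheme.Pullback.exists_preimage_pullback (f := a) (g := k i) t w hw.symm
      exact ⟨i, q, hq⟩) inferInstance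
  exact 𝒰.hom_ext _ _ fun i => h i _ _ (pullback.snd a (k i)) pullback.condition

variable {Y Y' : Scheme.{u}} {g : Y' ⟶ Y} {𝒮 𝒮h : RelProj.QCGrAlg Y} {𝒮' 𝒮h' : RelProj.QCGrAlg Y'}
  (u : RelProj.QGrHom g 𝒮 𝒮') (uh : RelProj.QGrHom g 𝒮h 𝒮h')
  {ι : 𝒮.toQCAlg ⟶ 𝒮h.toQCAlg} {z : 𝒮h.presheaf.obj (op ⊤)} (hz : RelCone.IsPolyOver 𝒮 𝒮h ι z)
  {ι' : 𝒮'.toQCAlg ⟶ 𝒮h'.toQCAlg} {z' : 𝒮h'.presheaf.obj (op ⊤)} (hz' : RelCone.IsPolyOver 𝒮' 𝒮h' ι' z')
  (huh : ∀ U : Y.Opens, ι.hom.app (op U) ≫ uh.app U = u.app U ≫ ι'.hom.app (op (g ⁻¹ᵁ U)))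
  (huhz : (uh.app ⊤).hom z = RelCone.restrictTop 𝒮h' z' (g ⁻¹ᵁ ⊤))

include huh in
theorem gu_gh (i : Pair g) (a : 𝒮.presheaf.obj (op i.U.1)) :
    gu uh i (gh hz i.U a) = gh hz' i.U' (gu u i a) := by
  show (ι.hom.app (op i.U.1) ≫ uh.appLE i.U.1 i.U'.1 i.le).hom a =
    (u.appLE i.U.1 i.U'.1 i.le ≫ ι'.hom.app (op i.U'.1)).hom a
  rw [RelSpec.QHom.appLE_eq, RelSpec.QHom.appLE_eq, ← Category.assoc, huh, Category.assoc, Category.assoc,
    ι'.hom.naturality]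

include huhz in
theorem gu_z (i : Pair g) : gu uh i (zAt z i.U) = zAt z' i.U' := by
  show (𝒮h.presheaf.map _ ≫ uh.appLE i.U.1 i.U'.1 i.le).hom z = (𝒮h'.presheaf.map _).hom z'
  rw [RelSpec.QHom.map_appLE, RelSpec.QHom.appLE_eq, CommRingCat.comp_apply, huhz]
  show (𝒮h'.presheaf.map _).hom ((𝒮h'.presheaf.map _).hom z') = _
  rw [← CommRingCat.comp_apply, ← 𝒮h'.presheaf.map_comp]
  rfl

variable {PC PC' : Scheme.{u}} {pC : PC ⟶ Y}
  {chartC : ∀ (U : Y.Opens) (hU : IsAffineOpen U), (((pC ⁻¹ᵁ U : PC.Opens) : Scheme.{u}) ≅ Proj (𝒮h.deg U hU))}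
  (hC : RelProj.IsRelProj 𝒮h pC chartC) {pC' : PC' ⟶ Y'}
  {chartC' : ∀ (U : Y'.Opens) (hU : IsAffineOpen U), (((pC' ⁻¹ᵁ U : PC'.Opens) : Scheme.{u}) ≅ Proj (𝒮h'.deg U hU))}
  (hC' : RelProj.IsRelProj 𝒮h' pC' chartC')
  {Φh : (Gu uh pC' chartC' : Scheme.{u}) ⟶ PC} (hΦh : IsQ uh (chart := chartC) Φh)

include hC hΦh huh in
theorem qMap_mem_pointed_iff (i : Pair g) (y : (RelCone.domOpen (gu uh i) : Scheme.{u})) :
    Φh (qEmb uh pC' chartC' i y) ∈ RelCone.pointedProjCone 𝒮 hz pC chartC ↔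
      ∃ j : (n : ℕ+) × 𝒮.deg i.U.1 i.U.2 n,
        y.1 ∈ Proj.basicOpen (𝒮h'.deg i.U'.1 i.U'.2) (gh hz' i.U' (gu u i (j.2 : 𝒮.presheaf.obj (op i.U.1)))) := by
  have e : Φh (qEmb uh pC' chartC' i y) = RelProj.emb pC chartC i.U.1 i.U.2 (domMap (gu uh i) y) :=
    ConcreteCategory.congr_hom (congrArg (fun t => t.base) (hΦh i)) y
  rw [e, emb_mem_pointedProjCone_iff hz hC, mem_domOpen_iff]
  refine exists_congr fun j => ?_
  rw [domMap_mem_basicOpen (gu uh i) y (gmem (gh hz i.U) j.2.2) j.1.pos, gu_gh u uh hz hz' huh]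

include hC hC' hΦh huh in
theorem image_preimage_pointed_le :
    (Gu uh pC' chartC').ι ''ᵁ (Φh ⁻¹ᵁ RelCone.pointedProjCone 𝒮 hz pC chartC) ≤
      RelCone.pointedProjCone 𝒮' hz' pC' chartC' := by
  rintro _ ⟨x, hx, rfl⟩
  obtain ⟨i, y, rfl⟩ := exists_qEmb uh pC' chartC' x
  have e : (Gu uh pC' chartC').ι (qEmb uh pC' chartC' i y) = RelProj.emb pC' chartC' i.U'.1 i.U'.2 y.1 :=
    ConcreteCategory.congr_hom (congrArg (fun t => t.base) (qEmb_ι uh pC' chartC' i)) y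
  refine Set.mem_of_eq_of_mem e ((emb_mem_pointedProjCone_iff hz' hC' i.U'.1 i.U'.2 _).2 ((mem_domOpen_iff _ _).2 ?_))
  obtain ⟨⟨n, a⟩, hj⟩ := (qMap_mem_pointed_iff u uh hz hz' huh hC hΦh i y).1 hx
  exact ⟨⟨n, ⟨gu u i (a : 𝒮.presheaf.obj (op i.U.1)), gmem (gu u i) a.2⟩⟩, hj⟩

variable {P' : Scheme.{u}} {p' : P' ⟶ Y'}
  {chart' : ∀ (U : Y'.Opens) (hU : IsAffineOpen U), (((p' ⁻¹ᵁ U : P'.Opens) : Scheme.{u}) ≅ Proj (𝒮'.deg U hU))}
  (hP' : RelProj.IsRelProj 𝒮' p' chart')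

include hP' hC' huh huhz hz hz' in
theorem Gu_hat_eq_top (htop : Gu u p' chart' = ⊤) : Gu uh pC' chartC' = ⊤ := by
  refine (Gu_eq_top_iff uh hC').2 fun i => (domOpen_eq_top_iff _).2 fun q hq hA => ?_
  have hdom := (domOpen_eq_top_iff _).1 ((Gu_eq_top_iff u hP').1 htop i) (q.comap (gh hz' i.U').toRingHom)
    (Ideal.IsPrime.comap _) fun a ha => by
      have h2 : gu uh i (gh hz i.U a) ∈ q := hA (map_mem_irrelevant (gh hz i.U) ha)
      rw [gu_gh u uh hz hz' huh] at h2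
      exact h2
  refine (irrelevant_le (gh hz' i.U') (zAt_mem hz' i.U') (bij_poly hz' i.U')).trans (sup_le ?_ ?_)
  · exact Ideal.map_le_iff_le_comap.2 hdom
  · refine (Ideal.span_singleton_le_iff_mem _).2 ?_
    rw [← gu_z uh huhz i]
    exact hA (HomogeneousIdeal.mem_irrelevant_of_mem _ one_pos (zAt_mem hz i.U))

include hP' hC hC' hΦh huh huhz in
theorem image_preimage_pointed_eq (htop : Gu u p' chart' = ⊤) :
    (Gu uh pC' chartC').ι ''ᵁ (Φh ⁻¹ᵁ RelCone.pointedProjCone 𝒮 hz pC chartC) =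
      RelCone.pointedProjCone 𝒮' hz' pC' chartC' := by
  refine le_antisymm (image_preimage_pointed_le u uh hz hz' huh hC hC' hΦh) fun x hx => ?_
  have hx' : x ∈ Gu uh pC' chartC' := by rw [Gu_hat_eq_top u uh hz hz' huh huhz hC' hP' htop]; trivial
  obtain ⟨i, y, hy⟩ := exists_qEmb uh pC' chartC' ⟨x, hx'⟩
  refine ⟨⟨x, hx'⟩, ?_, rfl⟩
  rw [← hy]
  refine (qMap_mem_pointed_iff u uh hz hz' huh hC hΦh i y).2 ?_
  have hyd : y.1 ∈ RelCone.domOpen (gh hz' i.U') := by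
    refine (emb_mem_pointedProjCone_iff hz' hC' i.U'.1 i.U'.2 y.1).1 ?_
    have e : (Gu uh pC' chartC').ι (qEmb uh pC' chartC' i y) = RelProj.emb pC' chartC' i.U'.1 i.U'.2 y.1 :=
      ConcreteCategory.congr_hom (congrArg (fun t => t.base) (qEmb_ι uh pC' chartC' i)) y
    rw [← e, hy]
    exact hx
  by_contra! H
  refine (notMem_domOpen (gh hz' i.U') y.1).2 ?_ hyd
  refine (domOpen_eq_top_iff _).1 ((Gu_eq_top_iff u hP').1 htop i) _ (Ideal.IsPrime.comap _ (hK := y.1.isPrime)) ?_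
  rw [HomogeneousIdeal.toIdeal_irrelevant_le]
  exact fun n hn a ha => not_not.1 (H ⟨⟨n, hn⟩, ⟨a, ha⟩⟩)

section maps

variable {P : Scheme.{u}} {p : P ⟶ Y}
  {chart : ∀ (U : Y.Opens) (hU : IsAffineOpen U), (((p ⁻¹ᵁ U : P.Opens) : Scheme.{u}) ≅ Proj (𝒮.deg U hU))}
  {Φ : (Gu u p' chart' : Scheme.{u}) ⟶ P} (hΦ : IsQ u (chart := chart) Φ)

/-- The morphism of the retraction, from the equations on the charts of the frozen predicate. -/
theorem isRetr_of_qMapOn {r : (Ehat hz pC chartC : Scheme.{u}) ⟶ P}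
    (hr : RelProj.IsProjQMapOn (RelProj.QGrHom.ofHom ι hz.graded) p chart pC chartC (Ehat hz pC chartC) r) :
    IsRetr hz hC (chart := chart) r := by
  intro U
  refine hom_ext_domChart _ fun d f hd hf => ?_
  rw [domChart_domMap_assoc]
  have key : ∀ ψ : 𝒮.deg U.1 U.2 →+*ᵍ 𝒮h.deg U.1 U.2, ψ = gh hz U →
      (∀ hW : Set.range (Proj.awayι (𝒮h.deg U.1 U.2) (ψ f) (gmem ψ hf) hd ≫ RelProj.emb pC chartC U.1 U.2).base ⊆
          Set.range (Ehat hz pC chartC).ι.base,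
        IsOpenImmersion.lift (Ehat hz pC chartC).ι
            (Proj.awayι (𝒮h.deg U.1 U.2) (ψ f) (gmem ψ hf) hd ≫ RelProj.emb pC chartC U.1 U.2) hW ≫ r =
          Spec.map (CommRingCat.ofHom (Away.map ψ f)) ≫ Proj.awayι (𝒮.deg U.1 U.2) f hf hd ≫
            RelProj.emb p chart U.1 U.2) →
      domChart (gh hz U) hf hd ≫ domEmb hz hC U ≫ r =
        Spec.map (CommRingCat.ofHom (Away.map (gh hz U) f)) ≫ Proj.awayι (𝒮.deg U.1 U.2) f hf hd ≫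
          RelProj.emb p chart U.1 U.2 := by
    rintro ψ rfl h
    have e : domChart (gh hz U) hf hd ≫ domEmb hz hC U ≫ (Ehat hz pC chartC).ι =
        Proj.awayι (𝒮h.deg U.1 U.2) (gh hz U f) (gmem (gh hz U) hf) hd ≫ RelProj.emb pC chartC U.1 U.2 := by
      rw [domEmb_ι, domChart_ι_assoc]
    have hW : Set.range (Proj.awayι (𝒮h.deg U.1 U.2) (gh hz U f) (gmem (gh hz U) hf) hd ≫
        RelProj.emb pC chartC U.1 U.2).base ⊆ Set.range (Ehat hz pC chartC).ι.base := by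
      rw [← e, ← Category.assoc]
      rintro _ ⟨w, rfl⟩
      exact ⟨_, rfl⟩
    rw [← h hW, ← Category.assoc]
    congr 1
    rw [← cancel_mono (Ehat hz pC chartC).ι, IsOpenImmersion.lift_fac, Category.assoc, e]
  exact key (gu (RelProj.QGrHom.ofHom ι hz.graded) (pairSelf U))
    (GradedRingHom.ext (gu_ofHom_self ι hz.graded U)) fun hW => hr U.1 U.2 U.1 U.2 le_rfl d hd f hf hW

set_option maxHeartbeats 1600000 in
include hC hC' hP' hΦh hΦ huh in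
theorem retraction_comm {r : (Ehat hz pC chartC : Scheme.{u}) ⟶ P} (hr : IsRetr hz hC (chart := chart) r)
    {r' : (Ehat hz' pC' chartC' : Scheme.{u}) ⟶ P'} (hr' : IsRetr hz' hC' (chart := chart') r')
    {T : Scheme.{u}} (a : T ⟶ (Ehat hz' pC' chartC' : Scheme.{u})) (b : T ⟶ (Gu uh pC' chartC' : Scheme.{u}))
    (c : T ⟶ (Ehat hz pC chartC : Scheme.{u}))
    (hab : a ≫ (Ehat hz' pC' chartC').ι = b ≫ (Gu uh pC' chartC').ι)
    (hbc : b ≫ Φh = c ≫ (Ehat hz pC chartC).ι) :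
    Set.range (a ≫ r').base ⊆ (Gu u p' chart' : Set P') ∧
      ∀ d : T ⟶ (Gu u p' chart' : Scheme.{u}), a ≫ r' = d ≫ (Gu u p' chart').ι → c ≫ r = d ≫ Φ := by
  let J : Type u := Σ i : Pair g, (Σ n : ℕ+, 𝒮.deg i.U.1 i.U.2 n)
  let k : ∀ j : J, Spec (CommRingCat.of (Away (𝒮h'.deg j.1.U'.1 j.1.U'.2)
      (gh hz' j.1.U' (gu u j.1 (j.2.2 : 𝒮.presheaf.obj (op j.1.U.1)))))) ⟶ PC' :=
    fun j => Proj.awayι (𝒮h'.deg j.1.U'.1 j.1.U'.2) (gh hz' j.1.U' (gu u j.1 (j.2.2 : 𝒮.presheaf.obj (op j.1.U.1))))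
      (gmem (gh hz' j.1.U') (gmem (gu u j.1) j.2.2.2)) j.2.1.pos ≫ RelProj.emb pC' chartC' j.1.U'.1 j.1.U'.2
  haveI : ∀ j, IsOpenImmersion (k j) := fun j => inferInstance
  have hcov : ∀ t, ∃ j : J, (a ≫ (Ehat hz' pC' chartC').ι) t ∈ Set.range (k j).base := by
    intro t
    obtain ⟨i, y, hy⟩ := exists_qEmb uh pC' chartC' (b t)
    have hmem : Φh (qEmb uh pC' chartC' i y) ∈ RelCone.pointedProjCone 𝒮 hz pC chartC := by
      rw [hy, show Φh (b t) = (c ≫ (Ehat hz pC chartC).ι) t by rw [← hbc]; rfl]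
      exact (c t).2
    obtain ⟨j, hj⟩ := (qMap_mem_pointed_iff u uh hz hz' huh hC hΦh i y).1 hmem
    rw [← Proj.opensRange_awayι (𝒮h'.deg i.U'.1 i.U'.2) _ (gmem (gh hz' i.U') (gmem (gu u i) j.2.2)) j.1.pos] at hj
    obtain ⟨w, hw⟩ := hj
    refine ⟨⟨i, j⟩, w, ?_⟩
    rw [hab]
    show RelProj.emb pC' chartC' i.U'.1 i.U'.2 (Proj.awayι (𝒮h'.deg i.U'.1 i.U'.2) _ _ _ w) =
      (Gu uh pC' chartC').ι (b t)
    rw [hw, ← hy]
    exact (ConcreteCategory.congr_hom (congrArg (fun t => t.base) (qEmb_ι uh pC' chartC' i)) y).symm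
  have ha : ∀ (i : Pair g) (n : ℕ) (f : 𝒮.presheaf.obj (op i.U.1)) (hn : 0 < n) (hf : f ∈ 𝒮.deg i.U.1 i.U.2 n)
      (Q : Scheme.{u}) (t : Q ⟶ T) (l : Q ⟶ _),
      t ≫ a ≫ (Ehat hz' pC' chartC').ι = l ≫ Proj.awayι (𝒮h'.deg i.U'.1 i.U'.2) (gh hz' i.U' (gu u i f))
        (gmem (gh hz' i.U') (gmem (gu u i) hf)) hn ≫ RelProj.emb pC' chartC' i.U'.1 i.U'.2 →
      t ≫ a ≫ r' = l ≫ Spec.map (CommRingCat.ofHom (Away.map (gh hz' i.U') (gu u i f))) ≫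
        Proj.awayι (𝒮'.deg i.U'.1 i.U'.2) (gu u i f) (gmem (gu u i) hf) hn ≫
          RelProj.emb p' chart' i.U'.1 i.U'.2 := by
    intro i n f hn hf Q t l h
    have e : t ≫ a = l ≫ domChart (gh hz' i.U') (f := gu u i f) (gmem (gu u i) hf) hn ≫
        domEmb hz' hC' i.U' := by
      rw [← cancel_mono (Ehat hz' pC' chartC').ι]
      simp only [Category.assoc, domEmb_ι, domChart_ι_assoc]
      exact h
    rw [reassoc_of% e, hr' i.U', domChart_domMap_assoc]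
  constructor
  · rintro _ ⟨t, rfl⟩
    obtain ⟨⟨i, ⟨n, hn⟩, f, hf⟩, w, hw⟩ := hcov t
    obtain ⟨q, hq, hq'⟩ := Scheme.Pullback.exists_preimage_pullback
      (f := a ≫ (Ehat hz' pC' chartC').ι) (g := k ⟨i, ⟨n, hn⟩, f, hf⟩) t w hw.symm
    have h := ConcreteCategory.congr_hom (congrArg (fun t => t.base)
      (ha i n f hn hf _ (pullback.fst _ _) (pullback.snd _ _) pullback.condition)) q
    rw [← hq]
    refine Set.mem_of_eq_of_mem h (emb_mem_Gu_of_mem u p' chart' ((mem_domOpen_iff _ _).2 ⟨⟨⟨n, hn⟩, f, hf⟩, ?_⟩))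
    rw [← Proj.opensRange_awayι (𝒮'.deg i.U'.1 i.U'.2) (gu u i f) (gmem (gu u i) hf) hn]
    exact ⟨_, rfl⟩
  · intro d hd
    refine hom_ext_of_preimages (a ≫ (Ehat hz' pC' chartC').ι) k hcov fun j Q t l h => ?_
    obtain ⟨i, ⟨n, hn⟩, f, hf⟩ := j
    change f ∈ 𝒮.deg i.U.1 i.U.2 n at hf
    change t ≫ a ≫ (Ehat hz' pC' chartC').ι = l ≫ Proj.awayι (𝒮h'.deg i.U'.1 i.U'.2) (gh hz' i.U' (gu u i f))
        (gmem (gh hz' i.U') (gmem (gu u i) hf)) hn ≫ RelProj.emb pC' chartC' i.U'.1 i.U'.2 at h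
    have ed : t ≫ d = (l ≫ Spec.map (CommRingCat.ofHom (Away.map (gh hz' i.U') (gu u i f)))) ≫
        domChart (gu u i) hf hn ≫ qEmb u p' chart' i := by
      rw [← cancel_mono (Gu u p' chart').ι]
      simp only [Category.assoc, qEmb_ι, domChart_ι_assoc]
      exact (congrArg (t ≫ ·) hd.symm).trans (ha i n f hn hf Q t l h)
    have hgg : gh hz' i.U' (gu u i f) = gu uh i (gh hz i.U f) := (gu_gh u uh hz hz' huh i f).symm
    have eb : t ≫ b = (l ≫ Spec.map (CommRingCat.ofHom (castAway (𝒮h'.deg i.U'.1 i.U'.2) hgg))) ≫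
        domChart (gu uh i) (gmem (gh hz i.U) hf) hn ≫ qEmb uh pC' chartC' i := by
      rw [← cancel_mono (Gu uh pC' chartC').ι]
      simp only [Category.assoc, qEmb_ι, domChart_ι_assoc]
      refine ((congrArg (t ≫ ·) hab.symm).trans h).trans ?_
      rw [castAway_awayι_assoc hgg (gmem (gh hz' i.U') (gmem (gu u i) hf)) (gmem (gu uh i) (gmem (gh hz i.U) hf)) hn]
    have ec : t ≫ c = ((l ≫ Spec.map (CommRingCat.ofHom (castAway (𝒮h'.deg i.U'.1 i.U'.2) hgg))) ≫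
        Spec.map (CommRingCat.ofHom (Away.map (gu uh i) (gh hz i.U f)))) ≫
          domChart (gh hz i.U) hf hn ≫ domEmb hz hC i.U := by
      rw [← cancel_mono (Ehat hz pC chartC).ι]
      simp only [Category.assoc, domEmb_ι, domChart_ι_assoc]
      refine (congrArg (t ≫ ·) hbc.symm).trans ?_
      simp only [reassoc_of% eb]
      rw [hΦh i, domChart_domMap_assoc]
    rw [reassoc_of% ec, reassoc_of% ed, hr i.U, hΦ i]
    refine congrArg (l ≫ ·) ?_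
    refine ((congrArg (Spec.map _ ≫ ·) (specMap_domChart_domMap (gh hz i.U) f hn hf _ _)).trans ?_).trans
      (specMap_domChart_domMap (gu u i) f hn hf _ _).symm
    simp only [← Spec.map_comp_assoc]
    congr 2
    exact CommRingCat.hom_ext
      (away_square (gh hz i.U) (gu uh i) (gu u i) (gh hz' i.U') (gu_gh u uh hz hz' huh i) hf hgg)

end maps

end GrothLib.RelCone8
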