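import Groth.Agent.Lib.RelCone8.ConeQMap

/-!
# Functoriality of the affine cone and of the part at infinity inside the projective cone
-/

set_option autoImplicit false
set_option backward.isDefEq.respectTransparency false
set_option maxHeartbeats 400000

universe u

open CategoryTheory CategoryTheory.Limits AlgebraicGeometry TopologicalSpace Opposite HomogeneousLocalization
open scoped HomogeneousIdeal

noncomputable section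

namespace GrothLib.RelCone8

section graded

variable {A B C D σ τ υ ω : Type u} [CommRing A] [SetLike σ A] [AddSubgroupClass σ A] {𝒜 : ℕ → σ} [GradedRing 𝒜]
  [CommRing B] [SetLike τ B] [AddSubgroupClass τ B] {ℬ : ℕ → τ} [GradedRing ℬ]
  [CommRing C] [SetLike υ C] [AddSubgroupClass υ C] {𝒞 : ℕ → υ} [GradedRing 𝒞]
  [CommRing D] [SetLike ω D] [AddSubgroupClass ω D] {𝒟 : ℕ → ω} [GradedRing 𝒟]

theorem castAway_refl_mk {x : A} {d : ℕ} (hx : x ∈ 𝒜 d) (n : ℕ) (a : A) (ha : a ∈ 𝒜 (n • d)) :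
    castAway 𝒜 (rfl : x = x) (Away.mk 𝒜 hx n a ha) = Away.mk 𝒜 hx n a ha :=
  HomogeneousLocalization.val_injective _ (castAway_val rfl hx n a ha)

theorem away_square_cast (φ : 𝒜 →+*ᵍ ℬ) (χ : ℬ →+*ᵍ 𝒟) (ψ : 𝒜 →+*ᵍ 𝒞) (χ' : 𝒞 →+*ᵍ 𝒟)
    (hsq : ∀ a, χ' (ψ a) = χ (φ a)) {d : ℕ} {x : A} (hx : x ∈ 𝒜 d) {y : B} (ey : y = φ x) {w : C} (ew : w = ψ x)
    (ez : χ y = χ' w) :
    ((castAway 𝒟 ez).comp (Away.map χ' w)).comp ((castAway 𝒞 ew).comp (Away.map ψ x)) =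
      (Away.map χ y).comp ((castAway ℬ ey).comp (Away.map φ x)) := by
  subst ey ew
  refine RingHom.ext fun v => HomogeneousLocalization.val_injective _ ?_
  obtain ⟨m, a, ha, rfl⟩ := Away.mk_surjective 𝒜 hx v
  simp only [RingHom.comp_apply]
  rw [Away.map_mk ψ x hx, castAway_refl_mk (gmem ψ hx), Away.map_mk φ x hx, castAway_refl_mk (gmem φ hx),
    Away.map_mk χ (φ x) (gmem φ hx), Away.val_mk,
    castAway_comp_map χ' (gmem ψ hx) ez _ m (ψ a) (gmem ψ ha) rfl, hsq]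

end graded

variable {Y Y' : Scheme.{u}} {g : Y' ⟶ Y} {𝒮 𝒮h : RelProj.QCGrAlg Y} {𝒮' 𝒮h' : RelProj.QCGrAlg Y'}
  (u : RelProj.QGrHom g 𝒮 𝒮') (uh : RelProj.QGrHom g 𝒮h 𝒮h')
  {ι : 𝒮.toQCAlg ⟶ 𝒮h.toQCAlg} {z : 𝒮h.presheaf.obj (op ⊤)} (hz : RelCone.IsPolyOver 𝒮 𝒮h ι z)
  {ι' : 𝒮'.toQCAlg ⟶ 𝒮h'.toQCAlg} {z' : 𝒮h'.presheaf.obj (op ⊤)} (hz' : RelCone.IsPolyOver 𝒮' 𝒮h' ι' z')
  (huh : ∀ U : Y.Opens, ι.hom.app (op U) ≫ uh.app U = u.app U ≫ ι'.hom.app (op (g ⁻¹ᵁ U)))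
  (huhz : (uh.app ⊤).hom z = RelCone.restrictTop 𝒮h' z' (g ⁻¹ᵁ ⊤))
  {PC PC' : Scheme.{u}} {pC : PC ⟶ Y}
  {chartC : ∀ (U : Y.Opens) (hU : IsAffineOpen U), (((pC ⁻¹ᵁ U : PC.Opens) : Scheme.{u}) ≅ Proj (𝒮h.deg U hU))}
  (hC : RelProj.IsRelProj 𝒮h pC chartC) {pC' : PC' ⟶ Y'}
  {chartC' : ∀ (U : Y'.Opens) (hU : IsAffineOpen U), (((pC' ⁻¹ᵁ U : PC'.Opens) : Scheme.{u}) ≅ Proj (𝒮h'.deg U hU))}
  (hC' : RelProj.IsRelProj 𝒮h' pC' chartC')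
  {Φh : (Gu uh pC' chartC' : Scheme.{u}) ⟶ PC} (hΦh : IsQ uh (chart := chartC) Φh)

section cone

variable {i : 𝒮.toQCAlg.spec ⟶ PC} (hi : RelCone.IsConeImm 𝒮 hz pC chartC i)
  {i' : 𝒮'.toQCAlg.spec ⟶ PC'} (hi' : RelCone.IsConeImm 𝒮' hz' pC' chartC' i')

include hi' huhz hz in
theorem range_imm_subset_Gu : Set.range i'.base ⊆ (Gu uh pC' chartC' : Set PC') := by
  rintro _ ⟨x, rfl⟩
  obtain ⟨U, hU, U', hU', hle, q, rfl⟩ := exists_adapted_chart g 𝒮'.toQCAlg x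
  let j : Pair g := ⟨⟨U, hU⟩, ⟨U', hU'⟩, hle⟩
  refine Set.mem_of_eq_of_mem
    (ConcreteCategory.congr_hom (congrArg (fun t => t.base) (ι_imm hz' hi' ⟨U', hU'⟩)) q)
    (emb_mem_Gu_of_mem uh pC' chartC' (i := j) ((mem_domOpen_iff _ _).2 ⟨⟨1, zAt z j.U, zAt_mem hz j.U⟩, ?_⟩))
  rw [gu_z uh huhz j]
  exact (range_immAt hz' j.U').le ⟨q, rfl⟩

include hC hΦh hi hi' huh huhz in
theorem imm_comm {Φc : 𝒮'.toQCAlg.spec ⟶ 𝒮.toQCAlg.spec} (hΦc : RelSpec.IsSpecQMap u.toQHom Φc)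
    (i'' : 𝒮'.toQCAlg.spec ⟶ (Gu uh pC' chartC' : Scheme.{u}))
    (h : i'' ≫ (Gu uh pC' chartC').ι = i') : i'' ≫ Φh = Φc ≫ i := by
  let 𝒰 : (𝒮'.toQCAlg.spec).OpenCover := Scheme.Cover.mkOfCovers (Pair g) _ (fun j => 𝒮'.toQCAlg.ι j.U'.1 j.U'.2)
    (fun x => by
      obtain ⟨U, hU, U', hU', hle, q, hq⟩ := exists_adapted_chart g 𝒮'.toQCAlg x
      exact ⟨⟨⟨U, hU⟩, ⟨U', hU'⟩, hle⟩, q, hq⟩) inferInstance
  refine 𝒰.hom_ext _ _ fun (j : Pair g) => ?_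
  show 𝒮'.toQCAlg.ι j.U'.1 j.U'.2 ≫ _ = 𝒮'.toQCAlg.ι j.U'.1 j.U'.2 ≫ _
  have hzz : zAt z' j.U' = gu uh j (zAt z j.U) := (gu_z uh huhz j).symm
  have ei : 𝒮'.toQCAlg.ι j.U'.1 j.U'.2 ≫ i'' =
      (Spec.map (CommRingCat.ofHom (hz'.awayZToBase j.U'.1 j.U'.2)) ≫
        Spec.map (CommRingCat.ofHom (castAway (𝒮h'.deg j.U'.1 j.U'.2) hzz))) ≫
        domChart (gu uh j) (zAt_mem hz j.U) one_pos ≫ qEmb uh pC' chartC' j := by
    rw [← cancel_mono (Gu uh pC' chartC').ι]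
    simp only [Category.assoc, qEmb_ι, domChart_ι_assoc]
    rw [castAway_awayι_assoc hzz (zAt_mem hz' j.U') (gmem (gu uh j) (zAt_mem hz j.U)) one_pos]
    exact (congrArg (𝒮'.toQCAlg.ι j.U'.1 j.U'.2 ≫ ·) h).trans ((ι_imm hz' hi' j.U').trans (Category.assoc _ _ _))
  rw [reassoc_of% ei, hΦh j, domChart_domMap_assoc (gu uh j) (zAt z j.U) one_pos (zAt_mem hz j.U),
    ← Category.assoc (𝒮'.toQCAlg.ι j.U'.1 j.U'.2) Φc, hΦc j.U.1 j.U.2 j.U'.1 j.U'.2 j.le, Category.assoc,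
    ι_imm hz hi j.U, immAt, Category.assoc]
  simp only [← Spec.map_comp_assoc]
  congr 2
  refine CommRingCat.hom_ext (away_ringHom_ext (gh hz j.U) (zAt_mem hz j.U) (bij_poly hz j.U) fun n a ha => ?_)
  simp only [CommRingCat.hom_comp, CommRingCat.hom_ofHom, RingHom.comp_apply]
  rw [awayZToBase_mk hz j.U n a]
  refine ((hz'.awayZToBase_of_val j.U'.1 j.U'.2 _ (gh hz' j.U' (gu u j a)) n ?_).trans (hz'.evalOne_ι j.U'.1 j.U'.2 _))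
  rw [castAway_comp_map (gu uh j) (zAt_mem hz j.U) hzz _ n _ _ rfl, gu_gh u uh hz hz' huh j a]

end cone

section infinity

variable {P P' : Scheme.{u}} {p : P ⟶ Y}
  {chart : ∀ (U : Y.Opens) (hU : IsAffineOpen U), (((p ⁻¹ᵁ U : P.Opens) : Scheme.{u}) ≅ Proj (𝒮.deg U hU))}
  {p' : P' ⟶ Y'}
  {chart' : ∀ (U : Y'.Opens) (hU : IsAffineOpen U), (((p' ⁻¹ᵁ U : P'.Opens) : Scheme.{u}) ≅ Proj (𝒮'.deg U hU))}
  {Φ : (Gu u p' chart' : Scheme.{u}) ⟶ P} (hΦ : IsQ u (chart := chart) Φ)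

/-- A morphism at infinity on the standard charts. -/
theorem chart_infinity {Z : Scheme.{u}} {𝒜 ℬ : RelProj.QCGrAlg Z} (θ : 𝒜.toQCAlg ⟶ ℬ.toQCAlg)
    (hθ : RelProj.IsGradedHom θ) {PA PB : Scheme.{u}} {pA : PA ⟶ Z}
    {chartA : ∀ (U : Z.Opens) (hU : IsAffineOpen U), (((pA ⁻¹ᵁ U : PA.Opens) : Scheme.{u}) ≅ Proj (𝒜.deg U hU))}
    {pB : PB ⟶ Z}
    {chartB : ∀ (U : Z.Opens) (hU : IsAffineOpen U), (((pB ⁻¹ᵁ U : PB.Opens) : Scheme.{u}) ≅ Proj (ℬ.deg U hU))}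
    {jX : PB ⟶ PA} (hjX : RelProj.IsProjQMap (RelProj.QGrHom.ofHom θ hθ) pA chartA pB chartB jX)
    (U : Z.AffineZariskiSite) {d : ℕ} (hd : 0 < d) (x : 𝒜.presheaf.obj (op U.1)) (hx : x ∈ 𝒜.deg U.1 U.2 d)
    (y : ℬ.presheaf.obj (op U.1)) (hy : y ∈ ℬ.deg U.1 U.2 d) (e : y = RelProj.gradedHomAt θ hθ U.1 U.2 x) :
    Proj.awayι (ℬ.deg U.1 U.2) y hy hd ≫ RelProj.emb pB chartB U.1 U.2 ≫ jX =
      Spec.map (CommRingCat.ofHom ((castAway (ℬ.deg U.1 U.2) e).comp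
          (Away.map (RelProj.gradedHomAt θ hθ U.1 U.2) x))) ≫
        Proj.awayι (𝒜.deg U.1 U.2) x hx hd ≫ RelProj.emb pA chartA U.1 U.2 := by
  have key : ∀ ψ : 𝒜.deg U.1 U.2 →+*ᵍ ℬ.deg U.1 U.2, ψ = RelProj.gradedHomAt θ hθ U.1 U.2 →
      (Proj.awayι (ℬ.deg U.1 U.2) (ψ x) (gmem ψ hx) hd ≫ RelProj.emb pB chartB U.1 U.2) ≫ jX =
        Spec.map (CommRingCat.ofHom (Away.map ψ x)) ≫
          Proj.awayι (𝒜.deg U.1 U.2) x hx hd ≫ RelProj.emb pA chartA U.1 U.2 →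
      Proj.awayι (ℬ.deg U.1 U.2) y hy hd ≫ RelProj.emb pB chartB U.1 U.2 ≫ jX =
        Spec.map (CommRingCat.ofHom ((castAway (ℬ.deg U.1 U.2) e).comp
            (Away.map (RelProj.gradedHomAt θ hθ U.1 U.2) x))) ≫
          Proj.awayι (𝒜.deg U.1 U.2) x hx hd ≫ RelProj.emb pA chartA U.1 U.2 := by
    rintro ψ rfl h
    rw [← castAway_awayι_assoc e hy (gmem (RelProj.gradedHomAt θ hθ U.1 U.2) hx) hd,
      CommRingCat.ofHom_comp, Spec.map_comp, Category.assoc, ← h, Category.assoc]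
  exact key (gu (RelProj.QGrHom.ofHom θ hθ) (pairSelf U)) (GradedRingHom.ext (gu_ofHom_self θ hθ U))
    (hjX.2 U.1 U.2 U.1 U.2 le_rfl d hd x hx)

variable {θ : 𝒮h.toQCAlg ⟶ 𝒮.toQCAlg} {hθ : RelProj.IsGradedHom θ} (hθι : ι ≫ θ = 𝟙 _)
  {jX : P ⟶ PC} (hjX : RelProj.IsProjQMap (RelProj.QGrHom.ofHom θ hθ) pC chartC p chart jX)
  (hθz : (θ.hom.app (op ⊤)).hom z = 0)
  {θ' : 𝒮h'.toQCAlg ⟶ 𝒮'.toQCAlg} {hθ' : RelProj.IsGradedHom θ'} (hθι' : ι' ≫ θ' = 𝟙 _)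
  (hθz' : (θ'.hom.app (op ⊤)).hom z' = 0)
  {jX' : P' ⟶ PC'} (hjX' : RelProj.IsProjQMap (RelProj.QGrHom.ofHom θ' hθ') pC' chartC' p' chart' jX')

include hθι' in
theorem infinity_gh' (U : Y'.AffineZariskiSite) (a : 𝒮'.presheaf.obj (op U.1)) :
    a = RelProj.gradedHomAt θ' hθ' U.1 U.2 (gh hz' U a) :=
  (ConcreteCategory.congr_hom (congrArg (fun t => t.hom.app (op U.1)) hθι') a).symm

theorem gradedHomAt_zAt {Z : Scheme.{u}} {𝒜 ℬ : RelProj.QCGrAlg Z} (φ : 𝒜.toQCAlg ⟶ ℬ.toQCAlg)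
    (hφ : RelProj.IsGradedHom φ) {a : 𝒜.presheaf.obj (op ⊤)} (h : (φ.hom.app (op ⊤)).hom a = 0)
    (U : Z.AffineZariskiSite) : RelProj.gradedHomAt φ hφ U.1 U.2 (zAt a U) = 0 := by
  refine (ConcreteCategory.congr_hom (φ.hom.naturality (homOfLE (le_top (a := U.1))).op) a).trans ?_
  exact (congrArg (ℬ.presheaf.map (homOfLE (le_top (a := U.1))).op).hom h).trans (map_zero _)

include hz hz' huh huhz hθι hθz hθι' hθz' in
theorem infinity_square (i : Pair g) (a : 𝒮h.presheaf.obj (op i.U.1)) :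
    RelProj.gradedHomAt θ' hθ' i.U'.1 i.U'.2 (gu uh i a) =
      gu u i (RelProj.gradedHomAt θ hθ i.U.1 i.U.2 a) := by
  obtain ⟨P, rfl⟩ := (bij_poly hz i.U).2 a
  refine DFunLike.congr_fun (f := ((RelProj.gradedHomAt θ' hθ' i.U'.1 i.U'.2).toRingHom.comp
      (gu uh i).toRingHom).comp (Polynomial.eval₂RingHom (gh hz i.U).toRingHom (zAt z i.U)))
    (g := ((gu u i).toRingHom.comp (RelProj.gradedHomAt θ hθ i.U.1 i.U.2).toRingHom).comp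
      (Polynomial.eval₂RingHom (gh hz i.U).toRingHom (zAt z i.U))) (Polynomial.ringHom_ext (fun b => ?_) ?_) P
  · show RelProj.gradedHomAt θ' hθ' i.U'.1 i.U'.2 (gu uh i (Polynomial.eval₂ _ _ (Polynomial.C b))) =
      gu u i (RelProj.gradedHomAt θ hθ i.U.1 i.U.2 (Polynomial.eval₂ _ _ (Polynomial.C b)))
    rw [Polynomial.eval₂_C]
    show RelProj.gradedHomAt θ' hθ' i.U'.1 i.U'.2 (gu uh i (gh hz i.U b)) =
      gu u i (RelProj.gradedHomAt θ hθ i.U.1 i.U.2 (gh hz i.U b))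
    rw [gu_gh u uh hz hz' huh i b, ← infinity_gh' hz' hθι' i.U' (gu u i b), ← infinity_gh' hz hθι i.U b]
  · show RelProj.gradedHomAt θ' hθ' i.U'.1 i.U'.2 (gu uh i (Polynomial.eval₂ _ _ Polynomial.X)) =
      gu u i (RelProj.gradedHomAt θ hθ i.U.1 i.U.2 (Polynomial.eval₂ _ _ Polynomial.X))
    rw [Polynomial.eval₂_X, gu_z uh huhz i, gradedHomAt_zAt θ' hθ' hθz', gradedHomAt_zAt θ hθ hθz, map_zero]

include hz hz' huh hjX' hθι' in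
theorem infinity_image_subset : jX'.base '' (Gu u p' chart' : Set P') ⊆ (Gu uh pC' chartC' : Set PC') := by
  rintro _ ⟨x, hx, rfl⟩
  obtain ⟨i, y, hy⟩ := exists_qEmb u p' chart' ⟨x, hx⟩
  obtain ⟨⟨⟨n, hn⟩, f, hf⟩, hmem⟩ := (mem_domOpen_iff _ y.1).1 y.2
  rw [← Proj.opensRange_awayι (𝒮'.deg i.U'.1 i.U'.2) (gu u i f) (gmem (gu u i) hf) hn] at hmem
  obtain ⟨w, hw⟩ := hmem
  have hxw : x = RelProj.emb p' chart' i.U'.1 i.U'.2 (Proj.awayι (𝒮'.deg i.U'.1 i.U'.2) (gu u i f)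
      (gmem (gu u i) hf) hn w) := by
    refine Eq.trans ?_ (congrArg _ hw.symm)
    refine (congrArg (Gu u p' chart').ι hy).symm.trans ?_
    exact ConcreteCategory.congr_hom (congrArg (fun t => t.base) (qEmb_ι u p' chart' i)) y
  rw [hxw]
  refine Set.mem_of_eq_of_mem (ConcreteCategory.congr_hom (congrArg (fun t => t.base)
    (chart_infinity θ' hθ' hjX' i.U' hn (gh hz' i.U' (gu u i f)) (gmem (gh hz' i.U') (gmem (gu u i) hf))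
      (gu u i f) (gmem (gu u i) hf) (infinity_gh' hz' hθι' i.U' _))) w) ?_
  refine emb_mem_Gu_of_mem uh pC' chartC' (i := i)
    ((mem_domOpen_iff _ _).2 ⟨⟨⟨n, hn⟩, gh hz i.U f, gmem (gh hz i.U) hf⟩, ?_⟩)
  rw [gu_gh u uh hz hz' huh i f,
    ← Proj.opensRange_awayι (𝒮h'.deg i.U'.1 i.U'.2) _ (gmem (gh hz' i.U') (gmem (gu u i) hf)) hn]
  exact ⟨_, rfl⟩

set_option maxHeartbeats 2000000 in
include hz hz' huh huhz hΦh hΦ hθι hθz hjX hθι' hθz' hjX' in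
theorem infinity_comm {T : Scheme.{u}} (d : T ⟶ (Gu u p' chart' : Scheme.{u}))
    (e : T ⟶ (Gu uh pC' chartC' : Scheme.{u}))
    (hde : d ≫ (Gu u p' chart').ι ≫ jX' = e ≫ (Gu uh pC' chartC').ι) : e ≫ Φh = d ≫ Φ ≫ jX := by
  let J : Type u := Σ i : Pair g, (Σ n : ℕ+, 𝒮.deg i.U.1 i.U.2 n)
  let k : ∀ j : J, Spec (CommRingCat.of (Away (𝒮'.deg j.1.U'.1 j.1.U'.2)
      (gu u j.1 (j.2.2 : 𝒮.presheaf.obj (op j.1.U.1))))) ⟶ (Gu u p' chart' : Scheme.{u}) :=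
    fun j => domChart (gu u j.1) j.2.2.2 j.2.1.pos ≫ qEmb u p' chart' j.1
  haveI : ∀ j, IsOpenImmersion (k j) := fun j => inferInstance
  refine hom_ext_of_preimages d k (fun t => ?_) fun j Q t l h => ?_
  · obtain ⟨i, y, hy⟩ := exists_qEmb u p' chart' (d t)
    obtain ⟨j, hj⟩ := exists_domChart (gu u i) y
    obtain ⟨w, hw⟩ := hj
    exact ⟨⟨i, j⟩, w, by rw [← hy, ← hw]; rfl⟩
  · obtain ⟨i, ⟨n, hn⟩, f, hf⟩ := j
    change f ∈ 𝒮.deg i.U.1 i.U.2 n at hf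
    change t ≫ d = l ≫ domChart (gu u i) hf hn ≫ qEmb u p' chart' i at h
    have e1 : gu u i f = RelProj.gradedHomAt θ' hθ' i.U'.1 i.U'.2 (gh hz' i.U' (gu u i f)) :=
      infinity_gh' hz' hθι' i.U' _
    have hgg : gh hz' i.U' (gu u i f) = gu uh i (gh hz i.U f) := (gu_gh u uh hz hz' huh i f).symm
    have e0 : f = RelProj.gradedHomAt θ hθ i.U.1 i.U.2 (gh hz i.U f) :=
      (ConcreteCategory.congr_hom (congrArg (fun t => t.hom.app (op i.U.1)) hθι) f).symm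
    have ee : t ≫ e = ((l ≫ Spec.map (CommRingCat.ofHom ((castAway (𝒮'.deg i.U'.1 i.U'.2) e1).comp
        (Away.map (RelProj.gradedHomAt θ' hθ' i.U'.1 i.U'.2) (gh hz' i.U' (gu u i f)))))) ≫
        Spec.map (CommRingCat.ofHom (castAway (𝒮h'.deg i.U'.1 i.U'.2) hgg))) ≫
        domChart (gu uh i) (gmem (gh hz i.U) hf) hn ≫ qEmb uh pC' chartC' i := by
      rw [← cancel_mono (Gu uh pC' chartC').ι]
      simp only [Category.assoc, qEmb_ι, domChart_ι_assoc]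
      refine (congrArg (t ≫ ·) hde.symm).trans ?_
      rw [reassoc_of% h, qEmb_ι_assoc, domChart_ι_assoc,
        castAway_awayι_assoc hgg (gmem (gh hz' i.U') (gmem (gu u i) hf)) (gmem (gu uh i) (gmem (gh hz i.U) hf)) hn]
      exact congrArg (l ≫ ·) (chart_infinity θ' hθ' hjX' i.U' hn (gh hz' i.U' (gu u i f))
        (gmem (gh hz' i.U') (gmem (gu u i) hf)) (gu u i f) (gmem (gu u i) hf) e1)
    rw [reassoc_of% ee, reassoc_of% h, reassoc_of% (hΦ i), hΦh i]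
    refine congrArg (l ≫ ·) ?_
    rw [specMap_domChart_domMap (gu uh i) (gh hz i.U f) hn (gmem (gh hz i.U) hf)]
    refine Eq.trans ?_ (Eq.trans (congrArg (Spec.map (CommRingCat.ofHom (Away.map (gu u i) f)) ≫ ·)
      (chart_infinity θ hθ hjX i.U hn (gh hz i.U f) (gmem (gh hz i.U) hf) f hf e0)).symm
      (domChart_domMap_assoc (gu u i) f hn hf _).symm)
    simp only [← Spec.map_comp_assoc]
    congr 2
    refine CommRingCat.hom_ext ?_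
    exact away_square_cast (RelProj.gradedHomAt θ hθ i.U.1 i.U.2) (gu u i) (gu uh i)
      (RelProj.gradedHomAt θ' hθ' i.U'.1 i.U'.2)
      (infinity_square u uh hz hz' huh huhz hθι hθz hθι' hθz' i) (gmem (gh hz i.U) hf) e0 hgg e1

end infinity

end GrothLib.RelCone8
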