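import Groth.Agent.Lib.RelCone8.Pointed
import Groth.Agent.Lib.RelCone8.FibreAlg
import Groth.Agent.Lib.Cone8.Fibre

/-!
# Fibres of the retractions over a general base
-/

set_option autoImplicit false
set_option backward.isDefEq.respectTransparency false
set_option maxHeartbeats 400000

universe u

open CategoryTheory CategoryTheory.Limits AlgebraicGeometry TopologicalSpace Opposite HomogeneousLocalization
open scoped HomogeneousIdeal

noncomputable section

namespace GrothLib.RelCone8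

section gen

variable {A σ : Type u} [CommRing A] [SetLike σ A] [AddSubgroupClass σ A] {𝒜 : ℕ → σ} [GradedRing 𝒜]

theorem irrelevant_le_span_degOne (h : Subring.closure ((𝒜 0 : Set A) ∪ (𝒜 1 : Set A)) = ⊤) :
    (𝒜₊).toIdeal ≤ Ideal.span (𝒜 1 : Set A) := by
  classical
  intro a ha
  let T : Subring A :=
    ((SetLike.GradeZero.subring 𝒜).map (Ideal.Quotient.mk (Ideal.span (𝒜 1 : Set A)))).comap
      (Ideal.Quotient.mk (Ideal.span (𝒜 1 : Set A)))
  have hT : a ∈ T := by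
    refine (Subring.closure_le.2 ?_) (h ▸ Subring.mem_top a)
    rintro x (hx | hx)
    · exact ⟨x, hx, rfl⟩
    · exact ⟨0, zero_mem _, by rw [map_zero]; exact (Ideal.Quotient.eq_zero_iff_mem.2 (Ideal.subset_span hx)).symm⟩
  obtain ⟨c, hc, e⟩ := hT
  have hsub : a - c ∈ Ideal.span (𝒜 1 : Set A) := Ideal.Quotient.eq.1 e.symm
  have h1 : Ideal.span (𝒜 1 : Set A) ≤ (𝒜₊).toIdeal :=
    Ideal.span_le.2 fun x hx => HomogeneousIdeal.mem_irrelevant_of_mem 𝒜 one_pos hx
  have hc' : c ∈ (𝒜₊).toIdeal := by simpa using sub_mem ha (h1 hsub)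
  have hc0 : c = 0 := by
    have := (HomogeneousIdeal.mem_irrelevant_iff 𝒜 c).1 hc'
    rwa [GradedRing.proj_apply, DirectSum.decompose_of_mem_same 𝒜 (show c ∈ 𝒜 0 from hc)] at this
  rwa [hc0, sub_zero] at hsub

theorem exists_degOne_basicOpen (h : Subring.closure ((𝒜 0 : Set A) ∪ (𝒜 1 : Set A)) = ⊤) (x : Proj 𝒜) :
    ∃ f : 𝒜 1, x ∈ Proj.basicOpen 𝒜 (f : A) := by
  by_contra! H
  refine x.not_irrelevant_le ((irrelevant_le_span_degOne h).trans (Ideal.span_le.2 ?_))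
  exact fun f hf => not_not.1 (H ⟨f, hf⟩)

end gen

variable {Y P : Scheme.{u}} {𝒮 : RelProj.QCGrAlg Y} {p : P ⟶ Y}
  {chart : ∀ (U : Y.Opens) (hU : IsAffineOpen U), (((p ⁻¹ᵁ U : P.Opens) : Scheme.{u}) ≅ Proj (𝒮.deg U hU))}

/-- The index of the charts of degree one. -/
abbrev DegOneIdx (𝒮 : RelProj.QCGrAlg Y) : Type u :=
  Σ U : Y.AffineZariskiSite, 𝒮.deg U.1 U.2 1

/-- The index in all charts. -/
abbrev toIdx (k : DegOneIdx 𝒮) : ChartIdx 𝒮 := ⟨k.1, 1, k.2⟩

theorem exists_degOne_chart (hgen : 𝒮.IsGenDegOne) (x : P) :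
    ∃ k : DegOneIdx 𝒮, x ∈ Set.range (chartAt chart (toIdx k)).base := by
  obtain ⟨U, y, rfl⟩ := exists_emb (chart := chart) x
  obtain ⟨f, hy⟩ := exists_degOne_basicOpen (hgen U.1 U.2) y
  rw [← Proj.opensRange_awayι (𝒮.deg U.1 U.2) (f : 𝒮.presheaf.obj (op U.1)) f.2 one_pos] at hy
  obtain ⟨w, rfl⟩ := hy
  exact ⟨⟨U, f⟩, w, rfl⟩

variable (hgen : 𝒮.IsGenDegOne) {X : Scheme.{u}} {π : X ⟶ P}

include hgen in
theorem fibres_of_charts {L : DegOneIdx 𝒮 → CommRingCat.{u}}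
    (a : ∀ k : DegOneIdx 𝒮,
      CommRingCat.of (Away (𝒮.deg k.1.1 k.1.2) (k.2 : 𝒮.presheaf.obj (op k.1.1))) ⟶ L k)
    (c : ∀ k, Spec (L k) ⟶ X) (hsq : ∀ k, IsPullback (c k) (Spec.map (a k)) π (chartAt chart (toIdx k)))
    (hft : ∀ k, (a k).hom.FiniteType) [IsAffineHom π] (F : CommRingCat.{u} → CommRingCat.{u})
    (al : ∀ R : CommRingCat.{u}, R ⟶ F R)
    (hpo : ∀ (k : DegOneIdx 𝒮) (x : P)
      (g : CommRingCat.of (Away (𝒮.deg k.1.1 k.1.2) (k.2 : 𝒮.presheaf.obj (op k.1.1))) ⟶ P.residueField x),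
      ∃ b : L k ⟶ F (P.residueField x), IsPushout g (a k) (al (P.residueField x)) b) :
    LocallyOfFiniteType π ∧ QuasiCompact π ∧
      ∀ x : P, ∃ e : pullback π (P.fromSpecResidueField x) ≅ Spec (F (P.residueField x)),
        e.hom ≫ Spec.map (al (P.residueField x)) = pullback.snd π (P.fromSpecResidueField x) := by
  refine ⟨?_, inferInstance, fun x => ?_⟩
  · exact property_of_isPullback @LocallyOfFiniteType (fun k : DegOneIdx 𝒮 => chartAt chart (toIdx k))
      (exists_degOne_chart (chart := chart) hgen) (fun k => Spec.map (a k)) c hsq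
      fun k => (HasRingHomProperty.Spec_iff (P := @LocallyOfFiniteType)).2 (hft k)
  · obtain ⟨k, hx⟩ := exists_degOne_chart (chart := chart) hgen x
    obtain ⟨g, hg⟩ := Cone8.exists_residue_fac (chartAt chart (toIdx k)) x hx
    obtain ⟨b, hb⟩ := hpo k x g
    exact Cone8.exists_fibre_iso (hsq k) hg hb

end GrothLib.RelCone8
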