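import Groth.Agent.Lib.RelCone8.Imm

/-!
# The part at infinity and the pointed projective cone
-/

set_option autoImplicit false
set_option backward.isDefEq.respectTransparency false
set_option maxHeartbeats 400000

universe u

open CategoryTheory CategoryTheory.Limits AlgebraicGeometry TopologicalSpace Opposite HomogeneousLocalization
open scoped HomogeneousIdeal

noncomputable section

namespace GrothLib.RelCone8

variable {Y : Scheme.{u}} {𝒮 𝒮h : RelProj.QCGrAlg Y} {ι : 𝒮.toQCAlg ⟶ 𝒮h.toQCAlg} {z : 𝒮h.presheaf.obj (op ⊤)}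
  (hz : RelCone.IsPolyOver 𝒮 𝒮h ι z)

theorem immAt_mem_domOpen_iff (U : Y.AffineZariskiSite) (q : Spec (𝒮.presheaf.obj (op U.1))) :
    immAt hz U q ∈ RelCone.domOpen (gh hz U) ↔ ¬ ((𝒮.deg U.1 U.2)₊).toIdeal ≤ q.asIdeal := by
  have key : ∀ j : (n : ℕ+) × 𝒮.deg U.1 U.2 n,
      immAt hz U q ∈ Proj.basicOpen (𝒮h.deg U.1 U.2) (gh hz U (j.2 : 𝒮.presheaf.obj (op U.1))) ↔
        (j.2 : 𝒮.presheaf.obj (op U.1)) ∉ q.asIdeal := fun j => by
    refine (evalAway_preimage_basicOpen (R := 𝒮.presheaf.obj (op U.1)) (hz.evalOne U.1 U.2) (zAt_mem hz U) one_pos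
      (isUnit_evalOne_z hz U) (gmem (gh hz U) j.2.2) j.1.pos q).trans ?_
    rw [show hz.evalOne U.1 U.2 (gh hz U (j.2 : 𝒮.presheaf.obj (op U.1))) = j.2 from hz.evalOne_ι U.1 U.2 _]
  rw [mem_domOpen_iff, HomogeneousIdeal.toIdeal_irrelevant_le]
  constructor
  · rintro ⟨j, hj⟩ h
    exact (key j).1 hj (h j.1 j.1.pos j.2.2)
  · intro h
    by_contra! H
    exact h fun n hn a ha => not_not.1 fun ha' => H ⟨⟨n, hn⟩, ⟨a, ha⟩⟩ ((key ⟨⟨n, hn⟩, ⟨a, ha⟩⟩).2 ha')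

theorem mem_basicOpen_z_of_notMem_domOpen (U : Y.AffineZariskiSite) (y : Proj (𝒮h.deg U.1 U.2))
    (hy : y ∉ RelCone.domOpen (gh hz U)) : y ∈ Proj.basicOpen (𝒮h.deg U.1 U.2) (zAt z U) := by
  refine fun hzy => ?_
  refine y.not_irrelevant_le ((irrelevant_le (gh hz U) (zAt_mem hz U) (bij_poly hz U)).trans (sup_le ?_ ?_))
  · exact Ideal.map_le_iff_le_comap.2 ((notMem_domOpen _ _).1 hy)
  · exact (Ideal.span_singleton_le_iff_mem _).2 hzy

variable {PC : Scheme.{u}} {pC : PC ⟶ Y}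
  {chartC : ∀ (U : Y.Opens) (hU : IsAffineOpen U), (((pC ⁻¹ᵁ U : PC.Opens) : Scheme.{u}) ≅ Proj (𝒮h.deg U hU))}
  (hPC : RelProj.IsRelProj 𝒮h pC chartC) {i : 𝒮.toQCAlg.spec ⟶ PC} (hi : RelCone.IsConeImm 𝒮 hz pC chartC i)

include hPC hi in
theorem imm_mem_pointedProjCone_iff (x : 𝒮.toQCAlg.spec) :
    i x ∈ RelCone.pointedProjCone 𝒮 hz pC chartC ↔ x ∈ RelCone.pointedCone 𝒮 := by
  obtain ⟨U, q, rfl⟩ := exists_affine_chart 𝒮.toQCAlg x
  rw [ι_mem_pointedCone_iff, ← immAt_mem_domOpen_iff hz U q, ← emb_mem_pointedProjCone_iff hz hPC U.1 U.2]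
  show (𝒮.toQCAlg.ι U.1 U.2 ≫ i) q ∈ _ ↔ _
  rw [ι_imm hz hi U]
  rfl

include hPC hi in
theorem mem_range_imm_of_notMem_pointedProjCone (x : PC) (hx : x ∉ RelCone.pointedProjCone 𝒮 hz pC chartC) :
    x ∈ Set.range i.base := by
  obtain ⟨U, y, rfl⟩ := exists_emb (chart := chartC) x
  rw [emb_mem_range_imm hz hPC hi U y]
  exact mem_basicOpen_z_of_notMem_domOpen hz U y fun h => hx ((emb_mem_pointedProjCone_iff hz hPC U.1 U.2 y).2 h)

include hPC hi in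
theorem pointedProjCone_eq {aug : 𝒮.toQCAlg ⟶ RelSpec.QCAlg.unit Y} (h0 : RelCone.StrZeroBij 𝒮)
    (haug : RelCone.IsAugmentation 𝒮 aug) {ε : Y ⟶ 𝒮.toQCAlg.spec} (hε : RelCone.IsVertex 𝒮 aug ε) :
    ((RelCone.pointedProjCone 𝒮 hz pC chartC : PC.Opens) : Set PC) = (Set.range (ε ≫ i).base)ᶜ := by
  have hE := pointedCone_eq h0 haug hε
  ext x
  constructor
  · rintro hx ⟨y, rfl⟩
    have := (imm_mem_pointedProjCone_iff hz hPC hi (ε y)).1 hx
    exact (hE.le this) ⟨y, rfl⟩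
  · intro hx
    by_contra h
    obtain ⟨c, rfl⟩ := mem_range_imm_of_notMem_pointedProjCone hz hPC hi x h
    have hc : c ∈ Set.range ε.base := by
      by_contra hc
      exact h ((imm_mem_pointedProjCone_iff hz hPC hi c).2 (hE.ge hc))
    obtain ⟨y, rfl⟩ := hc
    exact hx ⟨y, rfl⟩

include hPC hi in
theorem range_imm_eq_compl {P : Scheme.{u}} {p : P ⟶ Y}
    {chart : ∀ (U : Y.Opens) (hU : IsAffineOpen U), (((p ⁻¹ᵁ U : P.Opens) : Scheme.{u}) ≅ Proj (𝒮.deg U hU))}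
    {θ : 𝒮h.toQCAlg ⟶ 𝒮.toQCAlg} {hθ : RelProj.IsGradedHom θ} (hιθ : ι ≫ θ = 𝟙 _)
    (hθz : (θ.hom.app (op ⊤)).hom z = 0)
    {hirr : ∀ (U : Y.Opens) (hU : IsAffineOpen U),
      (𝒮.deg U hU)₊ ≤ ((𝒮h.deg U hU)₊).map (RelProj.gradedHomAt θ hθ U hU)}
    {j : P ⟶ PC} (hj : RelProj.IsRelProjMap θ hθ hirr chartC chart j) :
    Set.range i.base = (Set.range j.base)ᶜ := by
  have hψφ : ∀ (U : Y.AffineZariskiSite) (a : 𝒮.presheaf.obj (op U.1)),
      RelProj.gradedHomAt θ hθ U.1 U.2 (gh hz U a) = a := fun U a =>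
    ConcreteCategory.congr_hom (congrArg (fun t => t.hom.app (op U.1)) hιθ) a
  have hψz : ∀ U : Y.AffineZariskiSite, RelProj.gradedHomAt θ hθ U.1 U.2 (zAt z U) = 0 := fun U => by
    show (θ.hom.app (op U.1)).hom ((𝒮h.presheaf.map _).hom z) = 0
    rw [← CommRingCat.comp_apply, θ.hom.naturality, CommRingCat.comp_apply, hθz, map_zero]
  have hemb : ∀ U : Y.AffineZariskiSite, RelProj.emb p chart U.1 U.2 ≫ j =
      Proj.map (RelProj.gradedHomAt θ hθ U.1 U.2) (hirr U.1 U.2) ≫ RelProj.emb pC chartC U.1 U.2 := fun U => by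
    rw [RelProj.emb, Category.assoc, hj U.1 U.2, Iso.inv_hom_id_assoc]
    rfl
  have hrange := fun U : Y.AffineZariskiSite => range_map_eq (gh hz U) (bij_poly hz U)
    (RelProj.gradedHomAt θ hθ U.1 U.2) (hψφ U) (hψz U) (hirr U.1 U.2)
  ext x
  obtain ⟨U, y, rfl⟩ := exists_emb (chart := chartC) x
  constructor
  · rintro hy ⟨q, hq⟩
    obtain ⟨V, q', rfl⟩ := exists_emb (chart := chart) q
    have hq' : RelProj.emb pC chartC V.1 V.2 (Proj.map (RelProj.gradedHomAt θ hθ V.1 V.2) (hirr V.1 V.2) q') =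
        RelProj.emb pC chartC U.1 U.2 y := by
      rw [← hq]
      exact (ConcreteCategory.congr_hom (congrArg (fun t => t.base) (hemb V)) q').symm
    rw [← hq', emb_mem_range_imm hz hPC hi] at hy
    exact (hrange V).le ⟨q', rfl⟩ hy
  · intro hy
    rw [emb_mem_range_imm hz hPC hi]
    by_contra h
    obtain ⟨q, rfl⟩ := (hrange U).ge h
    exact hy ⟨RelProj.emb p chart U.1 U.2 q, ConcreteCategory.congr_hom (congrArg (fun t => t.base) (hemb U)) q⟩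

theorem eq_awayZToBase
    (θ : ∀ (U : Y.Opens) (hU : IsAffineOpen U),
      CommRingCat.of (Away (𝒮h.deg U hU) (RelCone.restrictTop 𝒮h z U)) ⟶ 𝒮.presheaf.obj (op U))
    (hθ : ∀ (U : Y.Opens) (hU : IsAffineOpen U)
      (q : Away (𝒮h.deg U hU) (RelCone.restrictTop 𝒮h z U)) (k : ℕ) (x : 𝒮.presheaf.obj (op U)),
        x ∈ 𝒮.deg U hU k →
        q.val = Localization.mk ((ι.hom.app (op U)).hom x)
          ⟨RelCone.restrictTop 𝒮h z U ^ k, pow_mem (Submonoid.mem_powers (RelCone.restrictTop 𝒮h z U)) k⟩ →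
        (θ U hU).hom q = x) (U : Y.Opens) (hU : IsAffineOpen U) :
    θ U hU = CommRingCat.ofHom (hz.awayZToBase U hU) := by
  refine CommRingCat.hom_ext (away_ringHom_ext (gh hz ⟨U, hU⟩) (zAt_mem hz ⟨U, hU⟩) (bij_poly hz ⟨U, hU⟩)
    fun n a ha => ?_)
  exact (hθ U hU _ n a ha (Away.val_mk ..)).trans (awayZToBase_mk hz ⟨U, hU⟩ n a _).symm

end GrothLib.RelCone8
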