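import Groth.Agent.Lib.RelCone8.Dom
import Mathlib.Algebra.Polynomial.Eval.Coeff

/-!
# The graded algebra `A[z]`
-/

set_option autoImplicit false
set_option backward.isDefEq.respectTransparency false
set_option maxHeartbeats 400000

universe u

open CategoryTheory AlgebraicGeometry HomogeneousLocalization Polynomial DirectSum
open scoped HomogeneousIdeal

noncomputable section

namespace GrothLib.RelCone8

variable {A B σ τ : Type u} [CommRing A] [SetLike σ A] [AddSubgroupClass σ A] {𝒜 : ℕ → σ} [GradedRing 𝒜]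
  [CommRing B] [SetLike τ B] [AddSubgroupClass τ B] {ℬ : ℕ → τ} [GradedRing ℬ] (φ : 𝒜 →+*ᵍ ℬ)
  {z : B} (hz : z ∈ ℬ 1) (hb : Function.Bijective (Polynomial.eval₂RingHom φ.toRingHom z))

include hz hb in
theorem coeff_mem {k : ℕ} {P : A[X]} (hP : P.eval₂ φ.toRingHom z ∈ ℬ k) (j : ℕ) :
    (j ≤ k → P.coeff j ∈ 𝒜 (k - j)) ∧ (k < j → P.coeff j = 0) := by
  classical
  let S := P.support.filter (· ≤ k)
  let P' : A[X] := ∑ j ∈ S, monomial j (DirectSum.decompose 𝒜 (P.coeff j) (k - j) : A)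
  have h : P = P' := by
    refine hb.injective ?_
    show P.eval₂ φ.toRingHom z = eval₂RingHom φ.toRingHom z P'
    calc P.eval₂ φ.toRingHom z = (DirectSum.decompose ℬ (P.eval₂ φ.toRingHom z) k : B) :=
          (DirectSum.decompose_of_mem_same ℬ hP).symm
      _ = ∑ j ∈ P.support, (DirectSum.decompose ℬ (φ (P.coeff j) * z ^ j) k : B) := by
          rw [Polynomial.eval₂_eq_sum, Polynomial.sum_def, DirectSum.decompose_sum,
            DFinsupp.finsetSum_apply, AddSubmonoidClass.coe_finsetSum]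
          rfl
      _ = ∑ j ∈ S, (DirectSum.decompose ℬ (φ (P.coeff j) * z ^ j) k : B) := by
          refine (Finset.sum_subset (Finset.filter_subset _ _) fun j hj hjS => ?_).symm
          exact DirectSum.coe_decompose_mul_of_right_mem_of_not_le ℬ
            (by simpa using SetLike.pow_mem_graded j hz) fun h => hjS (Finset.mem_filter.2 ⟨hj, h⟩)
      _ = ∑ j ∈ S, φ (DirectSum.decompose 𝒜 (P.coeff j) (k - j) : A) * z ^ j := Finset.sum_congr rfl fun j hj => by
          rw [DirectSum.coe_decompose_mul_of_right_mem_of_le ℬ (by simpa using SetLike.pow_mem_graded j hz)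
            (Finset.mem_filter.1 hj).2, GradedRingHom.map_directSumDecompose]
      _ = _ := by
          simp only [P', map_sum, Polynomial.coe_eval₂RingHom, Polynomial.eval₂_monomial]
          rfl
  rw [h]
  simp only [P', finset_sum_coeff, coeff_monomial]
  constructor
  · intro _
    rw [Finset.sum_ite_eq']
    split_ifs with h'
    · exact SetLike.coe_mem _
    · exact zero_mem _
  · intro hj
    rw [Finset.sum_ite_eq', if_neg (fun (h' : j ∈ S) => absurd (Finset.mem_filter.1 h').2 (not_le.2 hj))]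

include hz hb in
/-- A homogeneous element of `A[z]` is a combination of the `φ a z ^ j`. -/
theorem exists_sum {k : ℕ} {b : B} (hbk : b ∈ ℬ k) :
    ∃ (s : Finset ℕ) (a : ℕ → A), (∀ j ∈ s, j ≤ k) ∧ (∀ j ∈ s, a j ∈ 𝒜 (k - j)) ∧
      b = ∑ j ∈ s, φ (a j) * z ^ j := by
  obtain ⟨P, rfl⟩ := hb.surjective b
  refine ⟨P.support, P.coeff, fun j hj => ?_, fun j hj => ?_, ?_⟩
  · by_contra h
    exact Polynomial.mem_support_iff.1 hj ((coeff_mem φ hz hb hbk j).2 (not_le.1 h))
  · refine (coeff_mem φ hz hb hbk j).1 ?_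
    by_contra h
    exact Polynomial.mem_support_iff.1 hj ((coeff_mem φ hz hb hbk j).2 (not_le.1 h))
  · rw [Polynomial.coe_eval₂RingHom, Polynomial.eval₂_eq_sum, Polynomial.sum_def]
    rfl

include hb in
theorem nonZeroDivisor {b : B} (h : z * b = 0) : b = 0 := by
  obtain ⟨P, rfl⟩ := hb.surjective b
  have h' : Polynomial.eval₂RingHom φ.toRingHom z (X * P) = 0 := by
    rw [map_mul, Polynomial.coe_eval₂RingHom, eval₂_X]
    exact h
  have := hb.injective (h'.trans (map_zero _).symm)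
  rw [Polynomial.X_mul] at this
  have hP : P = 0 := by
    ext n
    have := congrArg (fun Q : A[X] => Q.coeff (n + 1)) this
    simpa using this
  rw [hP, map_zero]

include hz hb in
theorem irrelevant_le :
    (ℬ₊).toIdeal ≤ (𝒜₊).toIdeal.map φ.toRingHom ⊔ Ideal.span {z} := by
  rw [HomogeneousIdeal.toIdeal_irrelevant_le]
  intro k hk b hbk
  obtain ⟨s, a, hle, ha, rfl⟩ := exists_sum φ hz hb hbk
  refine Ideal.sum_mem _ fun j hj => ?_
  rcases Nat.eq_zero_or_pos j with rfl | hj0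
  · refine Ideal.mul_mem_right _ _ (Ideal.mem_sup_left (Ideal.mem_map_of_mem _ ?_))
    exact HomogeneousIdeal.mem_irrelevant_of_mem 𝒜 (by simpa using hk) (ha 0 hj)
  · refine Ideal.mem_sup_right (Ideal.mul_mem_left _ _ ?_)
    exact Ideal.mem_span_singleton.2 (dvd_pow_self z hj0.ne')

variable (e : B →+* A) (he : ∀ a, e (φ a) = a) (hez : e z = 1)

include hz hb he hez in
theorem eval_one_injOn {k : ℕ} {b : B} (hbk : b ∈ ℬ k) (h : e b = 0) : b = 0 := by
  classical
  obtain ⟨s, a, hle, ha, rfl⟩ := exists_sum φ hz hb hbk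
  rw [map_sum] at h
  simp only [map_mul, map_pow, he, hez, one_pow, mul_one] at h
  refine Finset.sum_eq_zero fun j hj => ?_
  have h2 := congrArg (GradedRing.proj 𝒜 (k - j)) h
  rw [map_sum, map_zero] at h2
  simp only [GradedRing.proj_apply] at h2
  rw [Finset.sum_eq_single j (fun i hi hij => DirectSum.decompose_of_mem_ne 𝒜 (ha i hi)
      (by have := hle i hi; have := hle j hj; omega)) (fun h' => absurd hj h'),
    DirectSum.decompose_of_mem_same 𝒜 (ha j hj)] at h2
  rw [h2, map_zero, zero_mul]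

theorem evalAway_mk (hu : IsUnit (e z)) (k : ℕ) (b : B) (hbk : b ∈ ℬ (k • 1)) (hez : e z = 1) :
    ProjPt.evalAway ℬ e z hu (Away.mk ℬ hz k b hbk) = e b := by
  have := ProjPt.evalAway_mk_spec ℬ e hz hu k b hbk
  rwa [hez, one_pow, mul_one] at this

include hz hb he hez in
/-- `A[z]_(z) ≅ A`. -/
theorem bijective_evalAway (hu : IsUnit (e z)) : Function.Bijective (ProjPt.evalAway ℬ e z hu) := by
  classical
  constructor
  · rw [injective_iff_map_eq_zero]
    intro q hq
    obtain ⟨k, b, hbk, rfl⟩ := Away.mk_surjective ℬ hz q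
    rw [evalAway_mk hz e hu k b hbk hez] at hq
    have hbk' : b ∈ ℬ k := by simpa using hbk
    apply HomogeneousLocalization.val_injective
    rw [Away.val_mk, eval_one_injOn φ hz hb e he hez hbk' hq, Localization.mk_zero, HomogeneousLocalization.val_zero]
  · intro a
    refine ⟨∑ n ∈ (DirectSum.decompose 𝒜 a).support, Away.mk ℬ hz n (φ (DirectSum.decompose 𝒜 a n : A))
      (by rw [smul_eq_mul, mul_one]; exact gmem φ (SetLike.coe_mem _)), ?_⟩
    rw [map_sum]
    conv_rhs => rw [← DirectSum.sum_support_decompose 𝒜 a]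
    exact Finset.sum_congr rfl fun n _ => by rw [evalAway_mk hz e hu _ _ _ hez, he]

include hz hb in
/-- A homomorphism out of `A[z]_(z)` is determined by the fractions `φ a / z ^ n`. -/
theorem away_ringHom_ext {R : Type u} [CommRing R] {g g' : Away ℬ z →+* R}
    (h : ∀ (n : ℕ) (a : A) (ha : a ∈ 𝒜 n),
      g (Away.mk ℬ hz n (φ a) (by rw [smul_eq_mul, mul_one]; exact gmem φ ha)) =
        g' (Away.mk ℬ hz n (φ a) (by rw [smul_eq_mul, mul_one]; exact gmem φ ha))) : g = g' := by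
  refine RingHom.ext fun q => ?_
  obtain ⟨k, b, hbk, rfl⟩ := Away.mk_surjective ℬ hz q
  have hbk' : b ∈ ℬ k := by simpa using hbk
  obtain ⟨s, a, hle, ha, rfl⟩ := exists_sum φ hz hb hbk'
  have hsum : Away.mk ℬ hz k (∑ j ∈ s, φ (a j) * z ^ j) hbk =
      ∑ j ∈ s.attach, Away.mk ℬ hz (k - j.1) (φ (a j.1))
        (by rw [smul_eq_mul, mul_one]; exact gmem φ (ha j.1 j.2)) := by
    apply HomogeneousLocalization.val_injective
    rw [← HomogeneousLocalization.algebraMap_apply, ← HomogeneousLocalization.algebraMap_apply, map_sum]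
    simp only [HomogeneousLocalization.algebraMap_apply, Away.val_mk]
    rw [← Finset.sum_attach, Localization.mk_sum]
    refine Finset.sum_congr rfl fun j _ => ?_
    rw [Localization.mk_eq_mk_iff, Localization.r_iff_exists]
    refine ⟨1, ?_⟩
    simp only [Submonoid.coe_one, one_mul]
    rw [show z ^ k = z ^ (k - j.1) * z ^ j.1 by rw [← pow_add, Nat.sub_add_cancel (hle j.1 j.2)]]
    ring
  rw [hsum, map_sum, map_sum]
  exact Finset.sum_congr rfl fun j _ => h _ _ (ha j.1 j.2)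

/-- `z ↦ 0`. -/
def sec : ℬ →+*ᵍ 𝒜 :=
  { (Polynomial.evalRingHom (0 : A)).comp (RingEquiv.ofBijective _ hb).symm.toRingHom with
    map_mem := fun {k b} hbk => by
      show ((RingEquiv.ofBijective _ hb).symm b).eval 0 ∈ 𝒜 k
      rw [← Polynomial.coeff_zero_eq_eval_zero]
      refine (coeff_mem φ hz hb (P := (RingEquiv.ofBijective _ hb).symm b) ?_ 0).1 (Nat.zero_le k)
      convert hbk
      exact (RingEquiv.ofBijective _ hb).apply_symm_apply b }

theorem sec_apply (a : A) : sec φ hz hb (φ a) = a := by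
  show ((RingEquiv.ofBijective _ hb).symm (φ a)).eval 0 = a
  rw [show (RingEquiv.ofBijective _ hb).symm (φ a) = C a from
    (RingEquiv.ofBijective _ hb).symm_apply_eq.2 (by simp), eval_C]

theorem sec_z : sec φ hz hb z = 0 := by
  show ((RingEquiv.ofBijective _ hb).symm z).eval 0 = 0
  rw [show (RingEquiv.ofBijective _ hb).symm z = X from
    (RingEquiv.ofBijective _ hb).symm_apply_eq.2 (by simp), eval_X]

theorem sec_irrelevant : 𝒜₊ ≤ (ℬ₊).map (sec φ hz hb) := by
  intro a ha
  rw [← sec_apply φ hz hb a]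
  exact Ideal.mem_map_of_mem _ (map_mem_irrelevant φ ha)

variable (ψ : ℬ →+*ᵍ 𝒜) (hψφ : ∀ a, ψ (φ a) = a) (hψz : ψ z = 0)

include hb hψφ hψz in
theorem ker_retraction {b : B} (h : ψ b = 0) : b ∈ Ideal.span {z} := by
  obtain ⟨P, rfl⟩ := hb.surjective b
  have e' : eval₂RingHom φ.toRingHom z P = eval₂RingHom φ.toRingHom z P.divX * z + φ (P.coeff 0) := by
    conv_lhs => rw [← Polynomial.divX_mul_X_add P]
    simp
  rw [e', map_add, map_mul, hψz, mul_zero, zero_add, hψφ] at h
  rw [e', h, map_zero, add_zero]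
  exact Ideal.mul_mem_left _ _ (Ideal.mem_span_singleton_self z)

include hb hψφ hψz in
theorem range_map_eq (hψ : 𝒜₊ ≤ (ℬ₊).map ψ) :
    Set.range (Proj.map ψ hψ).base = ((Proj.basicOpen ℬ z : Set (Proj ℬ)))ᶜ := by
  classical
  have hsurj : Function.Surjective ψ.toRingHom := fun a => ⟨φ a, hψφ a⟩
  ext q
  constructor
  · rintro ⟨x, rfl⟩ h
    have h' : x ∈ Proj.map ψ hψ ⁻¹ᵁ Proj.basicOpen ℬ z := h
    rw [Proj.map_preimage_basicOpen, hψz, Proj.basicOpen_zero] at h'
    exact h'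
  · intro hq
    have hzq : z ∈ q.asHomogeneousIdeal.toIdeal := not_not.1 hq
    have hk : RingHom.ker ψ.toRingHom ≤ q.asHomogeneousIdeal.toIdeal := fun b h =>
      (Ideal.span_singleton_le_iff_mem _).2 hzq (ker_retraction φ hb ψ hψφ hψz h)
    let p : HomogeneousIdeal 𝒜 := q.asHomogeneousIdeal.map ψ
    have hp : p.toIdeal = Ideal.map ψ.toRingHom q.asHomogeneousIdeal.toIdeal := rfl
    have hmem : ∀ b, ψ b ∈ p.toIdeal ↔ b ∈ q.asHomogeneousIdeal.toIdeal := fun b => by
      refine ⟨fun h => ?_, fun h => Ideal.mem_map_of_mem _ h⟩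
      obtain ⟨c, hc, hcb⟩ := (Ideal.mem_map_iff_of_surjective ψ.toRingHom hsurj).1 (hp ▸ h)
      have : b - c ∈ RingHom.ker ψ.toRingHom := by
        rw [RingHom.mem_ker, map_sub, hcb]
        exact sub_self _
      exact (Submodule.sub_mem_iff_left _ hc).1 (hk this)
    have hprime : p.toIdeal.IsPrime := by
      rw [hp]
      exact @Ideal.map_isPrime_of_surjective _ _ _ _ _ _ _ ψ.toRingHom hsurj _ q.isPrime hk
    have hirr : ¬ 𝒜₊ ≤ p := fun hle => by
      refine q.not_irrelevant_le ((HomogeneousIdeal.toIdeal_irrelevant_le _).mpr fun m hm b hbm => ?_)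
      exact (hmem b).1 (hle (HomogeneousIdeal.mem_irrelevant_of_mem 𝒜 hm (ψ.2 hbm)))
    refine ⟨⟨p, hprime, hirr⟩, ProjectiveSpectrum.ext (HomogeneousIdeal.toIdeal_injective ?_)⟩
    ext b
    exact hmem b

include hψφ in
theorem awayι_map_retraction (hψ : 𝒜₊ ≤ (ℬ₊).map ψ) {d : ℕ} (f : A) (hd : 0 < d) (hf : f ∈ 𝒜 d) :
    ∃ θ : Away ℬ (φ f) →+* Away 𝒜 f, θ.comp (Away.map φ f) = RingHom.id _ ∧
      Proj.awayι 𝒜 f hf hd ≫ Proj.map ψ hψ =
        Spec.map (CommRingCat.ofHom θ) ≫ Proj.awayι ℬ (φ f) (gmem φ hf) hd := by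
  have hx : f = ψ (φ f) * 1 := by rw [hψφ, mul_one]
  refine ⟨(awayMap 𝒜 (SetLike.one_mem_graded 𝒜) hx).comp (Away.map ψ (φ f)), ?_, ?_⟩
  · ext y
    obtain ⟨k, a, ha, rfl⟩ := Away.mk_surjective 𝒜 hf y
    simp only [RingHom.comp_apply, RingHom.id_apply, Away.map_mk φ f hf, Away.map_mk ψ (φ f) (gmem φ hf),
      awayMap_mk, Away.val_mk, hψφ, one_pow, mul_one]
  · rw [← Proj.SpecMap_awayMap_awayι 𝒜 (f := ψ (φ f)) (gmem ψ (gmem φ hf)) hd (SetLike.one_mem_graded 𝒜) hx,
      Category.assoc, Proj.awayι_comp_map ψ hψ hd (φ f) (gmem φ hf), CommRingCat.ofHom_comp, Spec.map_comp,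
      Category.assoc]

include hz hb in
theorem surjective_specMap_away {d : ℕ} (f : A) (hd : 0 < d) (hf : f ∈ 𝒜 d) :
    Function.Surjective (Spec.map (CommRingCat.ofHom (Away.map φ f))).base := by
  obtain ⟨θ, hθ, -⟩ := awayι_map_retraction φ (sec φ hz hb) (sec_apply φ hz hb) (sec_irrelevant φ hz hb) f hd hf
  intro x
  refine ⟨Spec.map (CommRingCat.ofHom θ) x, ?_⟩
  show (Spec.map (CommRingCat.ofHom θ) ≫ Spec.map (CommRingCat.ofHom (Away.map φ f))) x = x
  rw [← Spec.map_comp, ← CommRingCat.ofHom_comp, hθ, CommRingCat.ofHom_id, Spec.map_id]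
  rfl

end GrothLib.RelCone8
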