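import Groth.Agent.Lib.RelCone8.Imm

/-!
# The relative `Proj` of a polynomial algebra in one variable is the relative spectrum
-/

set_option autoImplicit false
set_option backward.isDefEq.respectTransparency false
set_option maxHeartbeats 400000

universe u

open CategoryTheory CategoryTheory.Limits AlgebraicGeometry TopologicalSpace Opposite HomogeneousLocalization
open scoped HomogeneousIdeal

noncomputable section

namespace GrothLib.RelCone8

section ring

variable {A B : Type u} [CommRing A] [CommRing B] (ℬ : ℕ → AddSubgroup B) [GradedRing ℬ] {ι : A →+* B} {z : B}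
  (hι : ∀ a, ι a ∈ ℬ 0) (hz : z ∈ ℬ 1) (hb : Function.Bijective (Polynomial.eval₂RingHom ι z))

include hι hz hb in
theorem exists_mul_pow {k : ℕ} {b : B} (hbk : b ∈ ℬ k) : ∃ a, b = ι a * z ^ k := by
  classical
  obtain ⟨P, rfl⟩ := hb.2 b
  refine ⟨P.coeff k, ?_⟩
  have hmem : ∀ j, ι (P.coeff j) * z ^ j ∈ ℬ j := fun j => by
    have h := SetLike.mul_mem_graded (hι (P.coeff j)) (SetLike.pow_mem_graded j hz)
    simpa using h
  have e : Polynomial.eval₂RingHom ι z P =
      ∑ j ∈ Finset.range (P.natDegree + (k + 1)), ι (P.coeff j) * z ^ j :=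
    Polynomial.eval₂_eq_sum_range' ι (by omega) z
  conv_lhs => rw [← DirectSum.decompose_of_mem_same ℬ hbk]
  rw [e, DirectSum.decompose_sum, DFinsupp.finsetSum_apply, AddSubmonoidClass.coe_finsetSum,
    Finset.sum_eq_single k]
  · exact DirectSum.decompose_of_mem_same ℬ (hmem k)
  · intro j _ hj
    exact DirectSum.decompose_of_mem_ne ℬ (hmem j) hj
  · intro hk
    exact absurd (Finset.mem_range.2 (by omega)) hk

include hι hz hb in
theorem away_exists (q : Away ℬ z) :
    ∃ (k : ℕ) (a : A), q.val = Localization.mk (ι a * z ^ k) ⟨z ^ k, pow_mem (Submonoid.mem_powers z) k⟩ := by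
  obtain ⟨k, b, hbk, rfl⟩ := Away.mk_surjective ℬ hz q
  obtain ⟨a, rfl⟩ := exists_mul_pow ℬ hι hz hb (show b ∈ ℬ k by simpa using hbk)
  exact ⟨k, a, Away.val_mk ..⟩

variable {θ : Away ℬ z →+* A}
  (hθ : ∀ (q : Away ℬ z) (k : ℕ) (a : A),
    q.val = Localization.mk (ι a * z ^ k) ⟨z ^ k, pow_mem (Submonoid.mem_powers z) k⟩ → θ q = a)

include hι hz hb hθ in
theorem bijective_theta : Function.Bijective θ := by
  have hone : ∀ (k : ℕ) (a : A),
      Localization.mk (ι a * z ^ k) (⟨z ^ k, pow_mem (Submonoid.mem_powers z) k⟩ : Submonoid.powers z) =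
        Localization.mk (ι a) 1 := by
    intro k a
    rw [Localization.mk_eq_mk_iff, Localization.r_iff_exists]
    refine ⟨1, ?_⟩
    simp only [Submonoid.coe_one, one_mul]
    ring
  constructor
  · intro q q' h
    obtain ⟨k, a, e⟩ := away_exists ℬ hι hz hb q
    obtain ⟨k', a', e'⟩ := away_exists ℬ hι hz hb q'
    rw [hθ q k a e, hθ q' k' a' e'] at h
    subst h
    exact HomogeneousLocalization.val_injective _ (by rw [e, e', hone, hone])
  · intro a
    refine ⟨Away.mk ℬ hz 0 (ι a) (by simpa using hι a), hθ _ 0 a ?_⟩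
    simp only [Away.val_mk, pow_zero, mul_one]

include hι hz hb in
theorem surjective_awayι : Function.Surjective (Proj.awayι ℬ z hz one_pos).base := by
  intro y
  have hy : y ∈ (Proj.awayι ℬ z hz one_pos).opensRange := by
    rw [Proj.opensRange_awayι]
    show z ∉ y.asHomogeneousIdeal
    intro hzy
    refine y.not_irrelevant_le ?_
    rw [HomogeneousIdeal.irrelevant_le]
    intro i hi b hbi
    obtain ⟨a, rfl⟩ := exists_mul_pow ℬ hι hz hb hbi
    exact Ideal.mul_mem_left _ _ (Ideal.pow_mem_of_mem _ hzy i hi)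
  exact hy

include hι hz hb hθ in
theorem isIso_chart : IsIso (Spec.map (CommRingCat.ofHom θ) ≫ Proj.awayι ℬ z hz one_pos) := by
  haveI : IsIso (CommRingCat.ofHom θ) := (ConcreteCategory.isIso_iff_bijective _).2 (bijective_theta ℬ hι hz hb hθ)
  haveI : IsIso (Proj.awayι ℬ z hz one_pos) :=
    (isIso_iff_isOpenImmersion_and_surjective _).2 ⟨inferInstance, ⟨surjective_awayι ℬ hι hz hb⟩⟩
  infer_instance

end ring

variable {Y P : Scheme.{u}} (𝒜 : RelSpec.QCAlg Y) (Sh : RelProj.QCGrAlg Y) (ι : 𝒜 ⟶ Sh.toQCAlg)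
  (hι : ∀ (U : Y.Opens) (hU : IsAffineOpen U) (a : 𝒜.presheaf.obj (op U)),
    (ι.hom.app (op U)).hom a ∈ Sh.deg U hU 0)
  (z : Sh.presheaf.obj (op ⊤))
  (hz : ∀ (U : Y.Opens) (hU : IsAffineOpen U), (Sh.presheaf.map (homOfLE le_top).op).hom z ∈ Sh.deg U hU 1)
  (hpoly : ∀ (U : Y.Opens) (_ : IsAffineOpen U),
    Function.Bijective (Polynomial.eval₂RingHom (ι.hom.app (op U)).hom ((Sh.presheaf.map (homOfLE le_top).op).hom z)))
  {p : P ⟶ Y}
  {chart : ∀ (U : Y.Opens) (hU : IsAffineOpen U), (((p ⁻¹ᵁ U : P.Opens) : Scheme.{u}) ≅ Proj (Sh.deg U hU))}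
  (hP : RelProj.IsRelProj Sh p chart)
  (θ : ∀ (U : Y.Opens) (hU : IsAffineOpen U),
    CommRingCat.of (Away (Sh.deg U hU) ((Sh.presheaf.map (homOfLE le_top).op).hom z)) ⟶ 𝒜.presheaf.obj (op U))
  (hθ : ∀ (U : Y.Opens) (hU : IsAffineOpen U)
    (q : Away (Sh.deg U hU) ((Sh.presheaf.map (homOfLE le_top).op).hom z)) (k : ℕ) (a : 𝒜.presheaf.obj (op U)),
      q.val = Localization.mk ((ι.hom.app (op U)).hom a * (Sh.presheaf.map (homOfLE le_top).op).hom z ^ k)
        ⟨(Sh.presheaf.map (homOfLE le_top).op).hom z ^ k,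
          pow_mem (Submonoid.mem_powers ((Sh.presheaf.map (homOfLE le_top).op).hom z)) k⟩ →
      (θ U hU).hom q = a)

/-- One chart. -/
abbrev polyAt (U : Y.AffineZariskiSite) : Spec (𝒜.presheaf.obj (op U.1)) ⟶ Proj (Sh.deg U.1 U.2) :=
  Spec.map (θ U.1 U.2) ≫
    Proj.awayι (Sh.deg U.1 U.2) ((Sh.presheaf.map (homOfLE le_top).op).hom z) (hz U.1 U.2) one_pos

include hι hz hpoly hθ in
theorem polyAt_res {U W : Y.AffineZariskiSite} (h : W ≤ U) :
    Spec.map (rz 𝒜 h) ≫ polyAt 𝒜 Sh z hz θ U =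
      polyAt 𝒜 Sh z hz θ W ≫ Proj.map (RelProjK.rs Sh h) (RelProjK.rs_irr Sh h) := by
  have hrs : RelProjK.rs Sh h ((Sh.presheaf.map (homOfLE (le_top (a := U.1))).op).hom z) =
      (Sh.presheaf.map (homOfLE le_top).op).hom z := by
    show (Sh.presheaf.map _).hom ((Sh.presheaf.map _).hom z) = _
    rw [← CommRingCat.comp_apply, ← Sh.presheaf.map_comp]
    rfl
  rw [polyAt, polyAt, Category.assoc,
    ← awayι_of_eq hrs.symm (gmem (RelProjK.rs Sh h) (hz U.1 U.2)) one_pos, Category.assoc,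
    Proj.awayι_comp_map (RelProjK.rs Sh h) (RelProjK.rs_irr Sh h) one_pos _ (hz U.1 U.2),
    ← Spec.map_comp_assoc, ← Spec.map_comp_assoc, ← Spec.map_comp_assoc]
  congr 2
  refine CommRingCat.hom_ext (RingHom.ext fun q => ?_)
  obtain ⟨k, b, hbk, rfl⟩ := Away.mk_surjective (Sh.deg U.1 U.2) (hz U.1 U.2) q
  obtain ⟨a, rfl⟩ := exists_mul_pow (Sh.deg U.1 U.2) (hι U.1 U.2) (hz U.1 U.2) (hpoly U.1 U.2)
    (show b ∈ Sh.deg U.1 U.2 k by simpa using hbk)
  simp only [CommRingCat.hom_comp, CommRingCat.hom_ofHom, RingHom.comp_apply]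
  rw [hθ U.1 U.2 _ k a (Away.val_mk ..), Away.map_mk (RelProjK.rs Sh h) _ (hz U.1 U.2), awayMap_mk]
  refine (hθ W.1 W.2 _ k _ ?_).symm
  simp only [Away.val_mk, one_pow, mul_one, map_mul, map_pow, hrs]
  refine congrArg (fun t => Localization.mk (t * _) _) ?_
  exact (ConcreteCategory.congr_hom (ι.hom.naturality (homOfLE (Scheme.AffineZariskiSite.toOpens_mono h)).op) a).symm

include hι hz hpoly hP hθ in
theorem existsUnique_polyIso :
    (∃! i : 𝒜.spec ⟶ P, ∀ (U : Y.Opens) (hU : IsAffineOpen U),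
        𝒜.ι U hU ≫ i =
          Spec.map (θ U hU) ≫
            Proj.awayι (Sh.deg U hU) ((Sh.presheaf.map (homOfLE le_top).op).hom z) (hz U hU) one_pos ≫
              RelProj.emb p chart U hU) ∧
      ∀ i : 𝒜.spec ⟶ P, (∀ (U : Y.Opens) (hU : IsAffineOpen U),
        𝒜.ι U hU ≫ i =
          Spec.map (θ U hU) ≫
            Proj.awayι (Sh.deg U hU) ((Sh.presheaf.map (homOfLE le_top).op).hom z) (hz U hU) one_pos ≫
              RelProj.emb p chart U hU) →
        IsIso i ∧ i ≫ p = 𝒜.π := by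
  refine ⟨?_, fun i hi => ?_⟩
  · obtain ⟨i, hi, huniq⟩ := existsUnique_glue_charts 𝒜.π (T := P) (fun U => 𝒜.ι U.1 U.2)
      (fun U => (𝒜.π_preimage U.1 U.2).symm)
      (fun U => polyAt 𝒜 Sh z hz θ U ≫ RelProj.emb p chart U.1 U.2) fun {U W} h => ⟨Spec.map (rz 𝒜 h),
        map_rz_ι 𝒜 h, by
          rw [← Category.assoc, polyAt_res 𝒜 Sh ι hι z hz hpoly θ hθ h, Category.assoc, RelProjK.map_rs_em hP h]⟩
    refine ⟨i, fun U hU => (hi ⟨U, hU⟩).trans (Category.assoc _ _ _), fun i' h' => huniq i' fun U => ?_⟩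
    exact (h' U.1 U.2).trans (Category.assoc _ _ _).symm
  · have hcomp : i ≫ p = 𝒜.π := by
      refine hom_ext_charts 𝒜 fun U hU => ?_
      rw [← Category.assoc, hi U hU, Category.assoc, Category.assoc, emb_comp hP,
        Proj.awayι_toSpecZero_assoc, 𝒜.ι_π U hU, ← Spec.map_comp_assoc, ← Spec.map_comp_assoc]
      congr 2
      refine CommRingCat.hom_ext (RingHom.ext fun r => ?_)
      refine hθ U hU _ 0 _ ?_
      have h : (Sh.str.app (op U)).hom r = (ι.hom.app (op U)).hom ((𝒜.str.app (op U)).hom r) :=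
        (ConcreteCategory.congr_hom (congrArg (fun t => t.app (op U)) ι.comm) r).symm
      simp only [pow_zero, mul_one]
      rw [← h]
      simp [fromZeroRingHom, HomogeneousLocalization.val_mk]
      rfl
    refine ⟨?_, hcomp⟩
    refine property_of_isPullback (MorphismProperty.isomorphisms Scheme)
      (fun U : Y.AffineZariskiSite => RelProj.emb p chart U.1 U.2)
      (fun x => let ⟨U, y, hy⟩ := exists_emb (p := p) (chart := chart) x; ⟨U, y, hy⟩)
      (fun U => polyAt 𝒜 Sh z hz θ U) (fun U => 𝒜.ι U.1 U.2) (fun U => ?_) fun U => ?_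
    · refine (IsOpenImmersion.isPullback _ _ _ _ ((hi U.1 U.2).trans (Category.assoc _ _ _).symm) ?_).flip
      rw [← 𝒜.π_preimage, opensRange_emb', ← hcomp]
      rfl
    · exact isIso_chart (Sh.deg U.1 U.2) (hι U.1 U.2) (hz U.1 U.2) (hpoly U.1 U.2) (hθ U.1 U.2)

end GrothLib.RelCone8
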