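import Groth.Prelude.Def_RelProj4
import Groth.Agent.Lib.RelCone8.Functorial
import Groth.Agent.Lib.Pushout6.PullbackCover

/-!
# Base change of a relative spectrum
-/

set_option autoImplicit false
set_option backward.isDefEq.respectTransparency false
set_option maxHeartbeats 400000

universe u

open CategoryTheory CategoryTheory.Limits AlgebraicGeometry TopologicalSpace Opposite

noncomputable section

namespace GrothLib.RelCone8

theorem isPullback_ι {S : Scheme.{u}} (A : RelSpec.QCAlg S) (U : S.Opens) (hU : IsAffineOpen U) :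
    IsPullback (A.ι U hU) (Spec.map (A.str.app (op U))) A.π hU.fromSpec := by
  refine (IsOpenImmersion.isPullback _ _ _ _ (A.ι_π U hU) ?_).flip
  rw [← A.π_preimage, hU.opensRange_fromSpec]

theorem isPullback_spec_of_isQBaseChange {S S' : Scheme.{u}} {g : S' ⟶ S} {A : RelSpec.QCAlg S} {B : RelSpec.QCAlg S'}
    (u : RelSpec.QHom g A B) (hu : RelSpec.IsQBaseChange u) {h : B.spec ⟶ A.spec} (hh : RelSpec.IsSpecQMap u h) :
    IsPullback h B.π A.π g := by
  let J : Type u := Σ U : S.AffineZariskiSite, {U' : S'.AffineZariskiSite // U'.1 ≤ g ⁻¹ᵁ U.1}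
  have hloc : ∀ i : J, IsPullback (B.ι i.2.1.1 i.2.1.2 ≫ h) (Spec.map (B.str.app (op i.2.1.1))) A.π
      (i.2.1.2.fromSpec ≫ g) := by
    intro i
    rw [hh i.1.1 i.1.2 i.2.1.1 i.2.1.2 i.2.2, ← IsAffineOpen.SpecMap_appLE_fromSpec g i.1.2 i.2.1.2 i.2.2]
    exact (isPullback_SpecMap_of_isPushout _ _ _ _ (hu i.1.1 i.1.2 i.2.1.1 i.2.1.2 i.2.2)).flip.paste_horiz
      (isPullback_ι A i.1.1 i.1.2)
  have hcov : ∀ y : S', ∃ i : J, y ∈ i.2.1.1 := by
    intro y
    obtain ⟨U, hU, hy, -⟩ := exists_isAffineOpen_mem_and_subset (x := g y) (U := ⊤) trivial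
    obtain ⟨U', hU', hy', hle⟩ := exists_isAffineOpen_mem_and_subset (x := y) (U := g ⁻¹ᵁ U) hy
    exact ⟨⟨⟨U, hU⟩, ⟨U', hU'⟩, hle⟩, hy'⟩
  have w : h ≫ A.π = B.π ≫ g := by
    let 𝒱 : B.spec.OpenCover := Scheme.Cover.mkOfCovers J _ (fun i => B.ι i.2.1.1 i.2.1.2)
      (fun x => by
        obtain ⟨i, hi⟩ := hcov (B.π x)
        have hm : x ∈ (B.ι i.2.1.1 i.2.1.2).opensRange := by rw [← B.π_preimage]; exact hi
        exact ⟨i, hm⟩) inferInstance
    refine 𝒱.hom_ext _ _ fun (i : J) => ?_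
    show B.ι i.2.1.1 i.2.1.2 ≫ h ≫ A.π = B.ι i.2.1.1 i.2.1.2 ≫ B.π ≫ g
    rw [← Category.assoc, (hloc i).w, reassoc_of% (B.ι_π i.2.1.1 i.2.1.2)]
  refine Pushout6.isPullback_of_cover w (Scheme.Cover.mkOfCovers J _ (fun i : J => i.2.1.2.fromSpec)
    (fun y => by
      obtain ⟨i, hi⟩ := hcov y
      have hm : y ∈ i.2.1.2.fromSpec.opensRange := by rw [i.2.1.2.opensRange_fromSpec]; exact hi
      exact ⟨i, hm⟩) inferInstance) fun (i : J) => ?_
  exact ⟨_, B.ι i.2.1.1 i.2.1.2, _, isPullback_ι B i.2.1.1 i.2.1.2, hloc i⟩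

end GrothLib.RelCone8
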