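import Groth.Prelude.Def_RelProj4
import Groth.Agent.Lib.SymAlgX.Glue
import Groth.Agent.Lib.BCCoh.PullSec
import Groth.Agent.Lib.RelCone8.SpecBaseChange

/-!
# Base change of a symmetric algebra
-/

set_option autoImplicit false
set_option backward.isDefEq.respectTransparency false
set_option maxHeartbeats 400000

universe u

open CategoryTheory CategoryTheory.Limits AlgebraicGeometry TopologicalSpace Opposite
open GrothLib.SymAlgX (str gen)

noncomputable section

namespace GrothLib.RelCone8

theorem isPushout_symmetricAlgebra {R R' A B : CommRingCat.{u}} (ρ : R ⟶ R') (tA : R ⟶ A) (tB : R' ⟶ B) (φ : A ⟶ B)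
    (w : ρ ≫ tB = tA ≫ φ) {M M' : Type u} [AddCommGroup M] [AddCommGroup M'] [Module R M] [Module R' M']
    (eA : SymmetricAlgebra R M ≃+* A) (hA : ∀ r, eA (str R M r) = tA.hom r)
    (eB : SymmetricAlgebra R' M' ≃+* B) (hB : ∀ r, eB (str R' M' r) = tB.hom r)
    [Algebra R R'] (hρ : ∀ r, algebraMap R R' r = ρ.hom r) [Module R M'] [IsScalarTower R R' M']
    (p : M →ₗ[R] M') (hp : IsBaseChange R' p) (hφ : ∀ x, φ.hom (eA (gen R M x)) = eB (gen R' M' (p x))) :
    IsPushout ρ tA tB φ := by
  have hdesc : ∀ {W : CommRingCat.{u}} (a : R' ⟶ W) (b : A ⟶ W), ρ ≫ a = tA ≫ b →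
      ∃! c : B ⟶ W, tB ≫ c = a ∧ φ ≫ c = b := by
    intro W a b hab
    letI : Algebra R' W := a.hom.toAlgebra
    letI : Algebra R W := (a.hom.comp (algebraMap R R')).toAlgebra
    haveI : IsScalarTower R R' W := IsScalarTower.of_algebraMap_eq' rfl
    have hW : ∀ r : R, algebraMap R W r = b.hom (tA.hom r) := fun r => by
      show a.hom (algebraMap R R' r) = _
      rw [hρ]
      exact ConcreteCategory.congr_hom hab r
    let g0 : M →ₗ[R] W :=
      { toFun := fun x => b.hom (eA (gen R M x))
        map_add' := fun x y => by rw [map_add, map_add, map_add]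
        map_smul' := fun r x => by
          rw [map_smul, RingHom.id_apply, Algebra.smul_def, Algebra.smul_def, map_mul, map_mul, hW, hA] }
    let g : M' →ₗ[R'] W := hp.lift g0
    obtain ⟨F, hF0, hF1⟩ := SymAlgX.exists_ringHom a.hom g.toAddMonoidHom (fun r x => by
      show g (r • x) = a.hom r * g x
      rw [map_smul, Algebra.smul_def]
      rfl)
    refine ⟨CommRingCat.ofHom (F.comp eB.symm.toRingHom), ⟨?_, ?_⟩, ?_⟩
    · refine CommRingCat.hom_ext (RingHom.ext fun r => ?_)
      show F (eB.symm (tB.hom r)) = a.hom r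
      rw [← hB, RingEquiv.symm_apply_apply, hF0]
    · refine CommRingCat.hom_ext ?_
      have e : (F.comp (eB.symm.toRingHom.comp φ.hom)).comp eA.toRingHom = b.hom.comp eA.toRingHom := by
        refine SymAlgX.ringHom_ext (fun r => ?_) fun x => ?_
        · show F (eB.symm (φ.hom (eA (str R M r)))) = b.hom (eA (str R M r))
          rw [hA, show φ.hom (tA.hom r) = tB.hom (ρ.hom r) from (ConcreteCategory.congr_hom w r).symm,
            ← hB, RingEquiv.symm_apply_apply, hF0]
          exact ConcreteCategory.congr_hom hab r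
        · show F (eB.symm (φ.hom (eA (gen R M x)))) = b.hom (eA (gen R M x))
          rw [hφ, RingEquiv.symm_apply_apply, hF1]
          exact hp.lift_eq g0 x
      exact RingHom.ext fun y => (by
        have := RingHom.congr_fun e (eA.symm y)
        simpa using this)
    · rintro c ⟨hc1, hc2⟩
      refine CommRingCat.hom_ext ?_
      have e : c.hom.comp eB.toRingHom = F := by
        refine SymAlgX.ringHom_ext (fun r => ?_) fun x => ?_
        · show c.hom (eB (str R' M' r)) = _
          rw [hB, hF0]
          exact ConcreteCategory.congr_hom hc1 r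
        · show c.hom (eB (gen R' M' x)) = _
          rw [hF1]
          show _ = g x
          induction x using hp.inductionOn with
          | zero => simp
          | tmul m =>
            rw [← hφ, hp.lift_eq]
            exact ConcreteCategory.congr_hom hc2 _
          | smul s n ih =>
            rw [LinearMap.map_smul, Algebra.smul_def, map_mul, map_mul, hB, ih, LinearMap.map_smul, Algebra.smul_def]
            refine congrArg (· * _) ?_
            exact ConcreteCategory.congr_hom hc1 s
          | add y z hy hz => simp only [map_add, hy, hz]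
      refine RingHom.ext fun y => ?_
      show c.hom y = F (eB.symm y)
      rw [← e]
      simp
  refine IsPushout.of_isColimit' ⟨w⟩ (PushoutCocone.IsColimit.mk _
    (fun s => (hdesc s.inl s.inr s.condition).choose) (fun s => (hdesc s.inl s.inr s.condition).choose_spec.1.1)
    (fun s => (hdesc s.inl s.inr s.condition).choose_spec.1.2)
    fun s m h1 h2 => (hdesc s.inl s.inr s.condition).choose_spec.2 m ⟨h1, h2⟩)

theorem isQBaseChange_symAlg' {S S' : Scheme.{u}} (g : S' ⟶ S) (E : S.Modules) (hE : Coh.IsQCoh E)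
    {A : RelSpec.QCAlg S} {j : E ⟶ A.toModule} (hA : RelSpec.IsSymAlg E A j)
    {B : RelSpec.QCAlg S'} {j' : (Scheme.Modules.pullback g).obj E ⟶ B.toModule}
    (hB : RelSpec.IsSymAlg ((Scheme.Modules.pullback g).obj E) B j') (u : RelSpec.QHom g A B)
    (hu : ∀ (U : S.Opens), IsAffineOpen U → ∀ (x : Γ(E, U)),
      (u.app U).hom ((j.app U) x) =
        (j'.app (g ⁻¹ᵁ U)) (((Scheme.Modules.pullbackPushforwardAdjunction g).unit.app E).app U x)) :
    RelSpec.IsQBaseChange u := by
  intro U hU U' hU' hle
  haveI : E.IsQuasicoherent := hE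
  haveI hT : ((Scheme.Modules.pullback g).obj E).IsQuasicoherent := FittSheaf.isQuasicoherent_pullback g E
  obtain ⟨eA, hA0, hA1⟩ := SymAlgX.isAffSym_of_isSymAlg hE hA U hU
  obtain ⟨eB, hB0, hB1⟩ := SymAlgX.isAffSym_of_isSymAlg hT hB U' hU'
  obtain ⟨p, hp, hpe⟩ := BCCoh.isBaseChange_pullRes g E hU hU' hle
  letI : Algebra Γ(S, U) Γ(S', U') := (g.appLE U U' hle).hom.toAlgebra
  letI : Module Γ(S, U) Γ((Scheme.Modules.pullback g).obj E, U') := Module.compHom _ (g.appLE U U' hle).hom
  haveI : IsScalarTower Γ(S, U) Γ(S', U') Γ((Scheme.Modules.pullback g).obj E, U') :=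
    IsScalarTower.of_algebraMap_smul fun _ _ => rfl
  refine isPushout_symmetricAlgebra _ _ _ _ (u.str_appLE U U' hle).symm eA hA0 eB hB0 (fun _ => rfl) p hp fun x => ?_
  rw [hA1, hB1, hpe]
  show (B.presheaf.map (homOfLE hle).op).hom ((u.app U).hom ((j.app U) x)) =
    (j'.app U') (BCCoh.pullRes g E U U' hle x)
  rw [hu U hU]
  exact (ConcreteCategory.congr_hom (j'.mapPresheaf.naturality (homOfLE hle).op)
    (((Scheme.Modules.pullbackPushforwardAdjunction g).unit.app E).app U x)).symm

theorem isQBaseChange_symAlg {S S' : Scheme.{u}} (g : S' ⟶ S) (E : S.Modules) (hE : Coh.IsQCoh E)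
    {A : RelSpec.QCAlg S} {j : E ⟶ A.toModule} (hA : RelSpec.IsSymAlg E A j)
    {B : RelSpec.QCAlg S'} {j' : (Scheme.Modules.pullback g).obj E ⟶ B.toModule}
    (hB : RelSpec.IsSymAlg ((Scheme.Modules.pullback g).obj E) B j') (u : RelSpec.QHom g A B)
    (hu : ∀ (U : S.Opens) (x : Γ(E, U)),
      (u.app U).hom ((j.app U) x) =
        (j'.app (g ⁻¹ᵁ U)) (((Scheme.Modules.pullbackPushforwardAdjunction g).unit.app E).app U x)) :
    RelSpec.IsQBaseChange u :=
  isQBaseChange_symAlg' g E hE hA hB u fun U _ x => hu U x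

end GrothLib.RelCone8
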