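import Groth.Agent.Lib.RelCone8.SymBaseChange
import Groth.Agent.Lib.RelCone8.BaseChangeRel
import Groth.Agent.Lib.SymAlgX.Graded
import Groth.Agent.Lib.VA.Canon
import Groth.Agent.Lib.RelSpec.OfAffine

/-!
# The graded morphism from a symmetric algebra to that of the inverse image
-/

set_option autoImplicit false
set_option backward.isDefEq.respectTransparency false
set_option maxHeartbeats 800000

universe u

open CategoryTheory CategoryTheory.Limits AlgebraicGeometry TopologicalSpace Opposite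
open GrothLib.SymAlgX (str gen)

noncomputable section

namespace GrothLib.RelCone8

variable {S S' : Scheme.{u}} (g : S' ⟶ S) {E : S.Modules}

/-- The `g`-morphism extending the unit `E ⟶ g_* g^* E`. -/
theorem exists_qGrHom_pullback (hE : Coh.IsQCoh E) {𝒮 : RelProj.QCGrAlg S} {j : E ⟶ 𝒮.toModule}
    (hj : RelProj.IsGrSymAlg E 𝒮 j) {𝒮' : RelProj.QCGrAlg S'}
    {j' : (Scheme.Modules.pullback g).obj E ⟶ 𝒮'.toModule}
    (hj' : RelProj.IsGrSymAlg ((Scheme.Modules.pullback g).obj E) 𝒮' j') :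
    ∃ u : RelProj.QGrHom g 𝒮 𝒮', RelSpec.IsQBaseChange u.toQHom := by
  classical
  let η : ∀ U : S.Opens, Γ(E, U) → Γ((Scheme.Modules.pullback g).obj E, g ⁻¹ᵁ U) := fun U x =>
    ((Scheme.Modules.pullbackPushforwardAdjunction g).unit.app E).app U x
  choose eA hA0 hA1 using SymAlgX.isAffSym_of_isSymAlg hE hj.1
  have hηsmul : ∀ (U : S.Opens) (r : Γ(S, U)) (x : Γ(E, U)), η U (r • x) = (g.app U).hom r • η U x :=
    fun U r x => Scheme.Modules.Hom.app_smul ((Scheme.Modules.pullbackPushforwardAdjunction g).unit.app E) r x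
  choose F hF0 hF1 using fun (U : S.Opens) => SymAlgX.exists_ringHom (R := Γ(S, U)) (M := Γ(E, U))
    (B := 𝒮'.presheaf.obj (op (g ⁻¹ᵁ U))) ((𝒮'.str.app (op (g ⁻¹ᵁ U))).hom.comp (g.app U).hom)
    ({ toFun := fun x => (j'.app (g ⁻¹ᵁ U)) (η U x)
       map_zero' := by
        show (j'.app (g ⁻¹ᵁ U)) (((Scheme.Modules.pullbackPushforwardAdjunction g).unit.app E).app U 0) = _
        rw [map_zero]; exact map_zero (j'.app (g ⁻¹ᵁ U)).hom
       map_add' := fun x y => by
        show (j'.app (g ⁻¹ᵁ U)) (((Scheme.Modules.pullbackPushforwardAdjunction g).unit.app E).app U (x + y)) = _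
        rw [map_add]; exact map_add (j'.app (g ⁻¹ᵁ U)).hom _ _ } :
      Γ(E, U) →+ 𝒮'.presheaf.obj (op (g ⁻¹ᵁ U)))
    (fun r x => by
      show (j'.app (g ⁻¹ᵁ U)) (η U (r • x)) = _
      rw [hηsmul]
      exact Scheme.Modules.Hom.app_smul j' _ _)
  let φ : ∀ U : S.Opens, IsAffineOpen U →
      (𝒮.presheaf.obj (op U) →+* 𝒮'.presheaf.obj (op (g ⁻¹ᵁ U))) :=
    fun U hU => (F U).comp (eA U hU).symm.toRingHom
  have hφs : ∀ (U : S.Opens) (hU : IsAffineOpen U) (r : Γ(S, U)),
      φ U hU ((𝒮.str.app (op U)).hom r) = (𝒮'.str.app (op (g ⁻¹ᵁ U))).hom ((g.app U).hom r) := fun U hU r => by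
    show F U ((eA U hU).symm _) = _
    rw [← hA0 U hU, RingEquiv.symm_apply_apply, hF0]; rfl
  have hφj : ∀ (U : S.Opens) (hU : IsAffineOpen U) (x : Γ(E, U)),
      φ U hU (j.app U x) = (j'.app (g ⁻¹ᵁ U)) (η U x) := fun U hU x => by
    show F U ((eA U hU).symm (show 𝒮.presheaf.obj (op U) from j.app U x)) = _
    rw [← hA1 U hU, RingEquiv.symm_apply_apply, hF1]; rfl
  have hηres : ∀ (U V : S.Opens) (h : V ≤ U) (x : Γ(E, U)),
      η V (RelSpec.mr E h x) = RelSpec.mr _ (g.preimage_mono h) (η U x) := fun U V h x =>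
    ConcreteCategory.congr_hom
      (((Scheme.Modules.pullbackPushforwardAdjunction g).unit.app E).mapPresheaf.naturality (homOfLE h).op) x
  have hnat : ∀ (U V : S.Opens) (hU : IsAffineOpen U) (hV : IsAffineOpen V) (h : V ≤ U) (x : 𝒮.presheaf.obj (op U)),
      φ V hV ((𝒮.presheaf.map (homOfLE h).op).hom x) =
        (𝒮'.presheaf.map (homOfLE (g.preimage_mono h)).op).hom (φ U hU x) := by
    intro U V hU hV h x
    obtain ⟨a, rfl⟩ := (eA U hU).surjective x
    refine RingHom.congr_fun (f := ((φ V hV).comp (𝒮.presheaf.map (homOfLE h).op).hom).comp (eA U hU).toRingHom)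
      (g := ((𝒮'.presheaf.map (homOfLE (g.preimage_mono h)).op).hom.comp (φ U hU)).comp (eA U hU).toRingHom) ?_ a
    refine SymAlgX.ringHom_ext (fun r => ?_) fun y => ?_
    · show φ V hV ((𝒮.presheaf.map (homOfLE h).op).hom (eA U hU _)) = (𝒮'.presheaf.map _).hom (φ U hU (eA U hU _))
      rw [hA0, hφs]
      have n1 := ConcreteCategory.congr_hom (𝒮.str.naturality (homOfLE h).op) r
      refine (congrArg (φ V hV) n1.symm).trans ((hφs V hV _).trans ?_)
      have n2 := ConcreteCategory.congr_hom (g.naturality (homOfLE h).op) r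
      have n3 := ConcreteCategory.congr_hom (𝒮'.str.naturality (homOfLE (g.preimage_mono h)).op) ((g.app U).hom r)
      exact (congrArg (𝒮'.str.app (op (g ⁻¹ᵁ V))).hom n2).trans n3
    · show φ V hV ((𝒮.presheaf.map (homOfLE h).op).hom (eA U hU _)) = (𝒮'.presheaf.map _).hom (φ U hU (eA U hU _))
      rw [hA1, hφj]
      have n1 := ConcreteCategory.congr_hom (j.mapPresheaf.naturality (homOfLE h).op) y
      have n3 := ConcreteCategory.congr_hom (j'.mapPresheaf.naturality (homOfLE (g.preimage_mono h)).op) (η U y)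
      refine (congrArg (φ V hV) n1.symm).trans ((hφj V hV _).trans ?_)
      exact (congrArg (j'.app (g ⁻¹ᵁ V)) (hηres U V h y)).trans n3
  let aff := RelSpec.aff S
  let tgt : TopCat.Sheaf CommRingCat.{u} S.carrier :=
    ⟨g.base _* 𝒮'.presheaf, TopCat.Sheaf.pushforward_sheaf_of_sheaf _ 𝒮'.isSheaf⟩
  let t : aff.op ⋙ 𝒮.presheaf ⟶ aff.op ⋙ (g.base _* 𝒮'.presheaf) :=
    { app := fun U => CommRingCat.ofHom (φ U.unop.1 U.unop.2)
      naturality := fun U V i => ConcreteCategory.hom_ext _ _ fun x =>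
        hnat U.unop.1 V.unop.1 U.unop.2 V.unop.2 (leOfHom (aff.map i.unop)) x }
  let e := Functor.IsCoverDense.restrictHomEquivHom (G := aff) (K := Opens.grothendieckTopology S)
    (ℱ := 𝒮.presheaf) (ℱ' := tgt)
  let T : 𝒮.presheaf ⟶ g.base _* 𝒮'.presheaf := e t
  have hT : ∀ (U : S.Opens) (hU : IsAffineOpen U), T.app (op U) = CommRingCat.ofHom (φ U hU) := fun U hU =>
    NatTrans.congr_app (e.symm_apply_apply t) (op ⟨U, hU⟩)
  have hcomm : 𝒮.str ≫ T = g.c ≫ (TopCat.Presheaf.pushforward CommRingCat.{u} g.base).map 𝒮'.str := by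
    refine (Functor.IsCoverDense.restrictHomEquivHom (G := aff) (K := Opens.grothendieckTopology S)
      (ℱ' := tgt)).symm.injective ?_
    refine NatTrans.ext (funext fun U => ?_)
    show 𝒮.str.app (op U.unop.1) ≫ T.app (op U.unop.1) = _
    rw [hT _ U.unop.2]
    exact ConcreteCategory.hom_ext _ _ fun r => hφs _ U.unop.2 r
  let u₀ : _root_.RelSpec.QHom g 𝒮.toQCAlg 𝒮'.toQCAlg :=
    { app := fun U => T.app (op U)
      naturality := fun {U V} i => (T.naturality (homOfLE i).op).symm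
      str_app := fun U => NatTrans.congr_app hcomm (op U) }
  have happ : ∀ (U : S.Opens), IsAffineOpen U → ∀ (x : Γ(E, U)),
      (u₀.app U).hom ((j.app U) x) = (j'.app (g ⁻¹ᵁ U)) (η U x) := fun U hU x => by
    show (T.app (op U)).hom _ = _
    rw [hT U hU]
    exact hφj U hU x
  refine ⟨⟨u₀, fun U hU U' hU' hle d x hx => ?_⟩, isQBaseChange_symAlg' g E hE hj.1 hj'.1 u₀ happ⟩
  letI := 𝒮.gradedRing U hU
  letI := 𝒮'.gradedRing U' hU'
  let f := (u₀.appLE U U' hle).hom
  show f x ∈ 𝒮'.deg U' hU' d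
  let v : Γ(E, U) → 𝒮.presheaf.obj (op U) := fun e => j.app U e
  have hmon : ∀ a ∈ Submonoid.closure (Set.range (𝒮.str.app (op U)).hom ∪ Set.range v),
      ∃ i, a ∈ 𝒮.deg U hU i ∧ f a ∈ 𝒮'.deg U' hU' i := by
    intro a ha
    induction ha using Submonoid.closure_induction with
    | mem a ha =>
      rcases ha with ⟨r, rfl⟩ | ⟨e, rfl⟩
      · refine ⟨0, 𝒮.str_mem U hU r, ?_⟩
        rw [show f ((𝒮.str.app (op U)).hom r) = (𝒮'.str.app (op U')).hom ((g.appLE U U' hle).hom r) from
          ConcreteCategory.congr_hom (u₀.str_appLE U U' hle) r]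
        exact 𝒮'.str_mem U' hU' _
      · refine ⟨1, hj.2 U hU e, ?_⟩
        rw [show f (v e) = (j'.app U') (RelSpec.mr _ hle (η U e)) from
          (congrArg (𝒮'.presheaf.map (homOfLE hle).op).hom (happ U hU e)).trans
            (ConcreteCategory.congr_hom (j'.mapPresheaf.naturality (homOfLE hle).op) (η U e)).symm]
        exact hj'.2 U' hU' _
    | one => exact ⟨0, SetLike.one_mem_graded _, (map_one f).symm ▸ SetLike.one_mem_graded _⟩
    | mul a b _ _ ha hb =>
      obtain ⟨i, hia, hfa⟩ := ha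
      obtain ⟨k, hkb, hfb⟩ := hb
      exact ⟨i + k, SetLike.mul_mem_graded hia hkb, (map_mul f a b).symm ▸ SetLike.mul_mem_graded hfa hfb⟩
  have key : ∀ a ∈ AddSubgroup.closure (Submonoid.closure (Set.range (𝒮.str.app (op U)).hom ∪ Set.range v) : Set _),
      ∀ i, f (GradedRing.proj (𝒮.deg U hU) i a) ∈ 𝒮'.deg U' hU' i := by
    intro a ha
    induction ha using AddSubgroup.closure_induction with
    | mem a ha =>
      intro i
      obtain ⟨k, hka, hfa⟩ := hmon a ha
      rw [GradedRing.proj_apply]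
      by_cases hik : k = i
      · subst hik; rwa [DirectSum.decompose_of_mem_same _ hka]
      · rw [DirectSum.decompose_of_mem_ne _ hka hik, map_zero]; exact zero_mem _
    | zero => intro i; rw [map_zero, map_zero]; exact zero_mem _
    | add a b _ _ ha hb => intro i; rw [map_add, map_add]; exact add_mem (ha i) (hb i)
    | neg a _ ha => intro i; rw [map_neg, map_neg]; exact neg_mem (ha i)
  have h := key x (Subring.mem_closure_iff.mp ((VA.closure_str_ev hE hj ⟨U, hU⟩).ge trivial)) d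
  rwa [GradedRing.proj_apply, DirectSum.decompose_of_mem_same _ hx] at h

end GrothLib.RelCone8
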